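import Cfsg.Agent.TH.Spor.InD
import Cfsg.Agent.N2.Defs_m3
import Cfsg.Agent.TAB.Eng.Map
import Cfsg.Agent.N2.Tri.Suz_m3
import Cfsg.Agent.N2.Tool
import Cfsg.Agent.H123.Cls.SuzNet
import Cfsg.Agent.SB.SporF.RowCo3
import Cfsg.Agent.TAB.F22.CovB
import Cfsg.Agent.FastGrp
import Cfsg.Agent.Prune
set_option linter.all false

section
prune_inst 0x7f00000000000000000000000000000000000000000000000000000000000000000000000000000000000000000000000000000000000000000000000000000000000000000000000000000000000000003fffffffffffffffffffffffffffbeffbdfbfeffff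

-- part: N2/SpK/Defs
section
prune_inst 0x4010000
set_option linter.all false
open scoped Cfsg.Agent.FastGrp

/-!
# N2 (S3519), the sporadic rows: the sizes of the rational classes (helper26)

* `KapT T t m` : the type `t` has at most `m` times as many elements as the rational class of each of its elements;
* `Kap T L` : this with `m = 1` for all the types which are not in the list `L` of the pairs `(t, m)`;
* `Kap.fx` : the bound for the number of the fixed cosets.
-/

set_option autoImplicit false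

namespace Cfsg.Agent.N2.SpK

open Cfsg Cfsg.Agent.TAB Cfsg.Agent.TAB.Eng Cfsg.Agent.TAB.Use Cfsg.Agent.TH.Spor Cfsg.Agent.FP3
open Subgroup (centralizer)

universe u v

variable {G : Type u} [Group G] {D : Dat} {T : TD G D}

/-- the elements of the type of `x` which are conjugate to a power of `x` -/
def RC (T : TD G D) (x : G) : Type u := {y : G // T.ty y = T.ty x ∧ ∃ k : ℕ, IsConj (x ^ k) y}

/-- the rational classes in the type `t` are large -/
def KapT (T : TD G D) (t m : ℕ) : Prop := ∀ x, T.ty x = t → D.cnt t ≤ m * Nat.card (RC T x)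

/-- the multiplier of the type `t` -/
def mu : List (ℕ × ℕ) → ℕ → ℕ
  | [], _ => 1
  | p :: l, t => if p.1 = t then p.2 else mu l t

/-- all the types -/
def Kap (T : TD G D) (L : List (ℕ × ℕ)) : Prop := ∀ t < D.n, KapT T t (mu L t)

/-- **the table with the multipliers** -/
def InK (K : Type u) [Group K] (D : Dat) (R : Rows) (L : List (ℕ × ℕ)) : Prop :=
  ∃ T : TD K D, T.Mass ∧ Tab T R ∧ Unif T ∧ Kap T L

/-- the type `t` is one rational class -/
def RatT (T : TD G D) (t : ℕ) : Prop := ∀ g h, T.ty g = t → T.ty h = t → ∃ k : ℕ, IsConj (g ^ k) h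

theorem finite_RC [Finite G] (x : G) : Finite (RC T x) := Subtype.finite

theorem card_RC_mul [Finite G] (A : Subgroup G) (a : G) :
    Nat.card (RC T a) * fx A a ≤ A.index * Nat.card {b : A // T.ty b = T.ty a} := by
  have h1 : ∀ y : RC T a, ∃ (k : ℕ) (c : G), c * a ^ k * c⁻¹ = y.1 := fun y => by
    obtain ⟨k, hk⟩ := y.2.2
    exact ⟨k, isConj_iff.1 hk⟩
  choose k c hc using h1
  have h2 : ∀ (y : RC T a) (q : MulAction.fixedBy (G ⧸ A) a), (c y • q.1).out⁻¹ * y.1 * (c y • q.1).out ∈ A :=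
    fun y q => by
      have h4 : a ^ k y • q.1 = q.1 := (MulAction.stabilizer G q.1).pow_mem q.2 _
      have h3 : y.1 • c y • q.1 = c y • q.1 := by
        rw [← hc, smul_smul, inv_mul_cancel_right, mul_smul, h4]
      rw [mul_assoc, ← QuotientGroup.eq, QuotientGroup.out_eq', ← smul_eq_mul, MulAction.Quotient.mk_smul_out, h3]
  show _ * Nat.card (MulAction.fixedBy (G ⧸ A) a) ≤ Nat.card (G ⧸ A) * _
  rw [← Nat.card_prod, ← Nat.card_prod]
  refine Nat.card_le_card_of_injective (fun p => (c p.1 • p.2.1, ⟨⟨_, h2 p.1 p.2⟩, ?_⟩)) ?_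
  · have h3 := T.conj p.1.1 (c p.1 • p.2.1).out⁻¹
    rw [inv_inv] at h3
    exact h3.trans p.1.2.1
  · rintro ⟨y, q⟩ ⟨y', q'⟩ h
    obtain ⟨h3, h4⟩ := Prod.mk.inj h
    have h5 : (c y • q.1).out⁻¹ * y.1 * (c y • q.1).out = (c y' • q'.1).out⁻¹ * y'.1 * (c y' • q'.1).out :=
      congrArg (fun z => z.1.1) h4
    dsimp only at h3
    rw [h3, mul_left_inj, mul_right_inj] at h5
    obtain rfl : y = y' := Subtype.ext h5
    exact Prod.ext rfl (Subtype.ext (smul_left_cancel _ h3))

/-- **the fixed cosets** -/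
theorem KapT.fx [Finite G] {t m : ℕ} (h : KapT T t m) (A : Subgroup G) {a : G} (ha : T.ty a = t) :
    D.cnt t * fx A a ≤ m * (A.index * Nat.card {b : A // T.ty b = t}) := by
  subst ha
  refine (Nat.mul_le_mul_right _ (h a rfl)).trans ?_
  rw [mul_assoc]
  exact Nat.mul_le_mul_left _ (card_RC_mul A a)

theorem Kap.fx [Finite G] {L : List (ℕ × ℕ)} (h : Kap T L) (A : Subgroup G) (a : G) :
    D.cnt (T.ty a) * fx A a ≤ mu L (T.ty a) * (A.index * Nat.card {b : A // T.ty b = T.ty a}) :=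
  (h _ (T.lt a)).fx A rfl

theorem KapT.mono {t m m' : ℕ} (h : KapT T t m) (hm : m ≤ m') : KapT T t m' :=
  fun x hx => (h x hx).trans (Nat.mul_le_mul_right _ hm)

theorem RatT.kap [Finite G] (hm : T.Mass) {t : ℕ} (h : RatT T t) : KapT T t 1 := fun x hx => by
  have := finite_RC (T := T) x
  rw [one_mul, ← hm.2 t (hx ▸ T.lt x)]
  exact Nat.card_le_card_of_injective (β := RC T x) (fun y => ⟨y.1, y.2.trans hx.symm, h x y hx y.2⟩)
    fun _ _ e => Subtype.ext (congrArg Subtype.val e :)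

/-- the converse -/
theorem KapT.rat [Finite G] (hm : T.Mass) {t : ℕ} (h : KapT T t 1) : RatT T t := fun x y hx hy => by
  have h1 := h x hx
  rw [one_mul, ← hm.2 t (hx ▸ T.lt x)] at h1
  have h2 : Function.Bijective fun z : RC T x => (⟨z.1, z.2.1.trans hx⟩ : {g // T.ty g = t}) :=
    (Function.Injective.bijective_of_nat_card_le (fun _ _ e => Subtype.ext (congrArg Subtype.val e :)) h1)
  obtain ⟨z, hz⟩ := h2.2 ⟨y, hy⟩
  obtain rfl : z.1 = y := congrArg Subtype.val hz
  exact z.2.2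

theorem RatT.of_one [Finite G] (hm : T.Mass) {t : ℕ} (h : One T t) : RatT T t :=
  fun _ _ hg hg' => ⟨1, by rw [pow_one]; exact h.conj hm hg hg'⟩

theorem RatT.of_unif (h : Unif T) {t : ℕ} (ht : (D.ord t).Prime) : RatT T t :=
  fun g g' hg hg' => h g g' (by rwa [T.ord, hg]) (hg.trans hg'.symm)

theorem KapT.of_le [Finite G] (hm : T.Mass) {t m U : ℕ}
    (h : ∀ x, T.ty x = t → Nat.card (centralizer ({x} : Set G)) ≤ U) (h0 : 0 < U) (hU : D.cnt t * U ≤ m * D.N) :
    KapT T t m := fun x hx => by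
  have := finite_RC (T := T) x
  have h1 : Nat.card {g : G // IsConj x g} ≤ Nat.card (RC T x) :=
    Nat.card_le_card_of_injective (β := RC T x) (fun y => ⟨y.1, TD.ty_isConj y.2, 1, by rw [pow_one]; exact y.2⟩)
      fun _ _ e => Subtype.ext (congrArg Subtype.val e :)
  refine Nat.le_of_mul_le_mul_right (hU.trans ?_) h0
  rw [← hm.1, ← card_class x, mul_assoc]
  exact Nat.mul_le_mul_left _ (Nat.mul_le_mul h1 (h x hx))

theorem KapT.of_bnd [Finite G] (hm : T.Mass) {t m U : ℕ} (h : Bnd T t U) (h0 : 0 < U) (hU : D.cnt t * U ≤ m * D.N) :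
    KapT T t m :=
  KapT.of_le hm (fun x hx => Nat.le_of_dvd h0 (h x hx)) h0 hU

theorem kap_of_rat [Finite G] (hm : T.Mass) (h : ON.Rat T) : Kap T [] :=
  fun _ _ => RatT.kap hm fun g g' hg hg' => h g g' (hg.trans hg'.symm)

theorem Kap.rat [Finite G] (hm : T.Mass) (h : Kap T []) : ON.Rat T :=
  fun g g' e => (h _ (T.lt g)).rat hm g g' rfl e.symm

/-- the types outside the list are rational classes -/
theorem kap_of {L : List (ℕ × ℕ)} (h1 : ∀ p ∈ L, KapT T p.1 p.2) (h2 : ∀ t < D.n, t ∉ L.map Prod.fst → KapT T t 1) :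
    Kap T L := by
  intro t ht
  have key : ∀ L' : List (ℕ × ℕ), (∀ p ∈ L', KapT T p.1 p.2) → (t ∉ L'.map Prod.fst → KapT T t 1) →
      KapT T t (mu L' t) := fun L' => by
    induction L' with
    | nil => exact fun _ h => h List.not_mem_nil
    | cons p l ih =>
      intro h3 h4
      rw [mu]
      split_ifs with h5
      · exact h5 ▸ h3 p List.mem_cons_self
      · exact ih (fun q hq => h3 q (List.mem_cons_of_mem _ hq)) fun h6 => h4 fun h7 =>
          (List.mem_cons.1 h7).elim (fun h8 => h5 h8.symm) h6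
  exact key L h1 (h2 t ht)

section

variable {K : Type v} [Group K] {R : Rows} {L : List (ℕ × ℕ)}

theorem KapT.pull {t m : ℕ} (h : KapT T t m) (e : K ≃* G) : KapT (T.pull e) t m := fun x hx => by
  refine (h (e x) hx).trans (le_of_eq (congrArg _ (Nat.card_congr (e.toEquiv.subtypeEquiv fun g => ?_)).symm))
  refine and_congr_right fun _ => exists_congr fun k => ⟨fun h1 => ?_, fun h1 => ?_⟩
  · simpa using e.toMonoidHom.map_isConj h1
  · simpa using e.symm.toMonoidHom.map_isConj h1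

theorem InK.of_equiv (h : InK G D R L) (e : K ≃* G) : InK K D R L := by
  obtain ⟨T, h1, h2, h3, h4⟩ := h
  exact ⟨T.pull e, mass_pull h1 e, tab_pull h2 e, h3.pull e, fun t ht => (h4 t ht).pull e⟩

theorem finite_of_mass (hm : T.Mass) (h : D.N ≠ 0) : Finite G := Nat.finite_of_card_ne_zero (hm.1 ▸ h)

theorem inK_of_rat (hN : D.N ≠ 0) (h : ∃ T : TD G D, T.Mass ∧ ON.Rat T ∧ Tab T R) : InK G D R [] := by
  obtain ⟨T, h1, h2, h3⟩ := h
  have := finite_of_mass h1 hN
  exact ⟨T, h1, h3, unif_of_rat h2, kap_of_rat h1 h2⟩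

end

end Cfsg.Agent.N2.SpK

private theorem dce_fdf0e48e933f : _root_.True := by
  try have : _root_.True := by simp only [_root_.Cfsg.Agent.N2.SpK.mu.eq_2]
  try have : _root_.True := by simp only [_root_.Cfsg.Agent.N2.SpK.mu.eq_def]
  try have : _root_.True := by simp only [_root_.Cfsg.Agent.N2.SpK.mu.eq_1]
  exact _root_.True.intro
end

-- part: N2/SpK/Tool
section
set_option linter.all false
open scoped Cfsg.Agent.FastGrp

/-!
# N2 (S3519), the sporadic rows: tools for the rational classes (helper26)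

* `RatT.syl` : a cyclic Sylow subgroup in the centralizer of a power;
* `KapT.of_norm` : the order of the normalizer of a cyclic subgroup;
* `kap_of_chk` : the assembly.
-/

set_option autoImplicit false

namespace Cfsg.Agent.N2.SpK

open Cfsg Cfsg.Agent.TAB Cfsg.Agent.TAB.Eng Cfsg.Agent.TAB.Use Cfsg.Agent.TH.Spor Cfsg.Agent.FP3
open Subgroup (centralizer zpowers normalizer mem_centralizer_singleton_iff)

universe u

variable {G : Type u} [Group G] {D : Dat} {T : TD G D}

theorem conj_of_syl {H : Type u} [Group H] [Finite H] {p e : ℕ} (hp : p.Prime) (h : ¬ p ^ (e + 1) ∣ Nat.card H)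
    {z z' : H} (hz : orderOf z = p ^ e) (hz' : orderOf z' = p ^ e) : ∃ (j : ℤ) (d : H), d * z ^ j * d⁻¹ = z' := by
  have : Fact p.Prime := ⟨hp⟩
  have h1 : (Nat.card H).factorization p = e := le_antisymm
    (Nat.lt_succ_iff.1 (not_le.1 fun h2 => h ((hp.pow_dvd_iff_le_factorization Nat.card_pos.ne').2 h2)))
    ((hp.pow_dvd_iff_le_factorization Nat.card_pos.ne').1 (hz ▸ orderOf_dvd_natCard z))
  let P := Sylow.ofCard (p := p) (zpowers z) (by rw [Nat.card_zpowers, hz, h1])
  let Q := Sylow.ofCard (p := p) (zpowers z') (by rw [Nat.card_zpowers, hz', h1])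
  obtain ⟨c, hc⟩ := MulAction.exists_smul_eq H P Q
  have h2 : z' ∈ (Q : Subgroup H) := Subgroup.mem_zpowers z'
  rw [← hc] at h2
  obtain ⟨y, ⟨j, rfl⟩, h3⟩ := h2
  exact ⟨j, c, h3⟩

theorem conj_nat [Finite G] {g h : G} {m : ℤ} (hc : IsConj (g ^ m) h) : ∃ k : ℕ, IsConj (g ^ k) h := by
  obtain ⟨k, hk⟩ := (mem_powers_iff_mem_zpowers.2 ⟨m, rfl⟩ : g ^ m ∈ Submonoid.powers g)
  exact ⟨k, (show g ^ k = g ^ m from hk) ▸ hc⟩

/-- **a cyclic Sylow subgroup in the centralizer of a power** -/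
theorem RatT.syl [Finite G] {t u p e a : ℕ} (hp : p.Prime) (ho : D.ord t = a * p ^ e) (ha : ¬ p ∣ a)
    (hu : D.pwf t (p ^ e) = u) (h : RatT T u)
    (hc : ∀ y, T.ty y = u → ¬ p ^ (e + 1) ∣ Nat.card (centralizer ({y} : Set G))) : RatT T t := by
  intro g h₀ hg hh
  have h1 : ∀ x, T.ty x = t → T.ty (x ^ p ^ e) = u := fun x hx => by rw [T.pow, hx, hu]
  obtain ⟨k, hk⟩ := h _ _ (h1 g hg) (h1 h₀ hh)
  obtain ⟨c, hc1⟩ := isConj_iff.1 hk
  obtain ⟨x, hx, rfl⟩ : ∃ x, x ^ p ^ e = (g ^ p ^ e) ^ k ∧ c * x * c⁻¹ = h₀ :=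
    ⟨c⁻¹ * h₀ * c⁻¹⁻¹, by rw [conj_pow, ← hc1]; group, by group⟩
  rw [T.conj] at hh
  have h2 : g ^ p ^ e ∈ zpowers (x ^ p ^ e) := by
    rw [hx]
    refine mem_zpowers_pow_iff.2 ?_
    have h3 : orderOf ((g ^ p ^ e) ^ k) = orderOf (g ^ p ^ e) := by rw [← hx, T.ord, T.ord, h1 x hh, h1 g hg]
    rw [orderOf_pow] at h3
    rw [Nat.gcd_comm]
    exact (Nat.div_eq_self.1 h3).resolve_left (orderOf_pos _).ne'
  have h0 : a ≠ 0 := fun h0 => ha (h0 ▸ dvd_zero p)
  have h3 : ∀ x, T.ty x = t → orderOf (x ^ a) = p ^ e := fun x hx => by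
    rw [orderOf_pow, T.ord, hx, ho, Nat.gcd_eq_right (dvd_mul_right a _), Nat.mul_div_cancel_left _ (Nat.pos_of_ne_zero h0)]
  have h4 : g ^ a ∈ centralizer ({g ^ p ^ e} : Set G) := mem_centralizer_singleton_iff.2 ((Commute.refl g).pow_pow _ _).eq
  have h5 : x ^ a ∈ centralizer ({g ^ p ^ e} : Set G) := by
    obtain ⟨j, hj⟩ := h2
    rw [mem_centralizer_singleton_iff, ← hj]
    exact (((Commute.refl x).pow_pow _ _).zpow_right j).eq
  obtain ⟨j, d, hd⟩ := conj_of_syl hp (hc _ (h1 g hg)) (z := ⟨_, h4⟩) (z' := ⟨_, h5⟩)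
    (by rw [← Subgroup.orderOf_coe, h3 g hg]) (by rw [← Subgroup.orderOf_coe, h3 x hh])
  have h6 : d.1 * (g ^ a) ^ j * d.1⁻¹ = x ^ a := congrArg Subtype.val hd
  have h7 : d.1 * (g ^ p ^ e) ^ k * d.1⁻¹ = x ^ p ^ e := by
    rw [hx, (show Commute d.1 (g ^ p ^ e) from mem_centralizer_singleton_iff.1 d.2).pow_right, mul_inv_cancel_right]
  have h8 := Nat.gcd_eq_gcd_ab a (p ^ e)
  rw [(Nat.Coprime.pow_right e (hp.coprime_iff_not_dvd.2 ha).symm).gcd_eq_one, Nat.cast_one] at h8
  refine conj_nat (m := a * j * a.gcdA (p ^ e) + (p ^ e : ℕ) * k * a.gcdB (p ^ e))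
    (IsConj.trans (isConj_iff.2 ⟨d.1, ?_⟩) (isConj_iff.2 ⟨c, rfl⟩))
  rw [← zpow_one x, h8, zpow_add, zpow_add, zpow_mul x, zpow_mul x, zpow_natCast, zpow_natCast, ← h6, ← h7, conj_zpow,
    conj_zpow, zpow_mul, zpow_mul, zpow_mul, zpow_mul, zpow_natCast, zpow_natCast, zpow_natCast]
  group

theorem Bnd.pow [Finite G] {t u k U : ℕ} (h : Bnd T u U) (hk : D.pwf t k = u) : Bnd T t U := fun x hx =>
  (Subgroup.card_dvd_of_le fun _ hb => mem_centralizer_singleton_iff.2
    ((show Commute _ x from mem_centralizer_singleton_iff.1 hb).pow_right k).eq).trans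
    (h (x ^ k) (by rw [T.pow, hx, hk]))

theorem bnd_of_one [Finite G] (hm : T.Mass) {t U : ℕ} (h : One T t) (h0 : 0 < D.cnt t) (hU : D.cnt t * U = D.N) :
    Bnd T t U :=
  fun _ hx => dvd_of_eq (Nat.eq_of_mul_eq_mul_left h0 ((h.card hm hx).trans hU.symm))

theorem card_norm_dvd [Finite G] (x : G) : Nat.card (normalizer (zpowers x : Set G)) ∣
    Nat.card (centralizer ({x} : Set G)) * (orderOf x).totient := by
  rw [← (zpowers x).normalizerMonoidHom.ker.card_mul_index, Subgroup.index_ker, ← Nat.card_zpowers,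
    ← IsCyclic.card_mulAut, Subgroup.normalizerMonoidHom_ker]
  refine Nat.mul_dvd_mul ?_ (Subgroup.card_subgroup_dvd_card _)
  rw [← Subgroup.card_map_of_injective (Subgroup.subtype_injective _)]
  refine Subgroup.card_dvd_of_le ?_
  rintro _ ⟨b, hb, rfl⟩
  exact mem_centralizer_singleton_iff.2 (Subgroup.mem_centralizer_iff.1 hb x (Subgroup.mem_zpowers x)).symm

theorem card_RC_norm [Finite G] (x : G) (h : look (D.pw (T.ty x)) 1 = T.ty x) :
    Nat.card G * (orderOf x).totient ≤ Nat.card (RC T x) * Nat.card (normalizer (zpowers x : Set G)) := by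
  classical
  have := finite_RC (T := T) x
  have h1 : ∀ y : RC T x, ∃ (k : ℕ) (c : G), c * x ^ k * c⁻¹ = y.1 := fun y => by
    obtain ⟨k, hk⟩ := y.2.2
    exact ⟨k, isConj_iff.1 hk⟩
  choose k c hc using h1
  have h2 : ∀ j : ℕ, orderOf (x ^ j) = orderOf x → zpowers (x ^ j) = zpowers x := fun j hj =>
    Subgroup.eq_of_le_of_card_ge (Subgroup.zpowers_le.2 (Subgroup.npow_mem_zpowers x j))
      (by rw [Nat.card_zpowers, Nat.card_zpowers, hj])
  let S := (Finset.range (orderOf x)).filter (orderOf x).Coprime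
  have h3 : ∀ j : S, T.ty (x ^ j.1) = T.ty x := fun j => by
    refine (T.pow x j.1).trans ?_
    show look _ (Nat.gcd _ _) = _
    rw [← T.ord, (Finset.mem_filter.1 j.2).2.symm.gcd_eq_one, h]
  let f : G × S → RC T x := fun p => ⟨p.1 * x ^ p.2.1 * p.1⁻¹, (T.conj _ _).trans (h3 _), _, isConj_iff.2 ⟨_, rfl⟩⟩
  have h4 : ∀ p : G × S, (c (f p))⁻¹ * p.1 ∈ normalizer (zpowers x : Set G) := fun p => by
    have h5 : (c (f p))⁻¹ * p.1 * x ^ p.2.1 * ((c (f p))⁻¹ * p.1)⁻¹ = x ^ k (f p) := by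
      have h5 : c (f p) * x ^ k (f p) * (c (f p))⁻¹ = p.1 * x ^ p.2.1 * p.1⁻¹ := hc (f p)
      calc _ = (c (f p))⁻¹ * (p.1 * x ^ p.2.1 * p.1⁻¹) * c (f p) := by group
        _ = _ := by rw [← h5]; group
    have h6 : orderOf (x ^ p.2.1) = orderOf x := by rw [T.ord, T.ord, h3]
    refine Subgroup.mem_normalizer_fintype fun n hn => ?_
    rw [← h2 _ h6] at hn
    obtain ⟨i, rfl⟩ := hn
    rw [← conj_zpow, h5]
    exact Subgroup.zpow_mem _ (Subgroup.npow_mem_zpowers x _) _
  rw [Nat.totient, ← Nat.card_eq_finsetCard, ← Nat.card_prod, ← Nat.card_prod]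
  refine Nat.card_le_card_of_injective (fun p : G × S => (f p, (⟨_, h4 p⟩ : normalizer (zpowers x : Set G)))) ?_
  rintro ⟨g, j⟩ ⟨g', j'⟩ e
  obtain ⟨h5, h6⟩ := Prod.mk.inj e
  have h7 : (c (f (g, j)))⁻¹ * g = (c (f (g', j')))⁻¹ * g' := congrArg Subtype.val h6
  rw [h5, mul_right_inj] at h7
  subst h7
  have h8 : g * x ^ j.1 * g⁻¹ = g * x ^ j'.1 * g⁻¹ := congrArg Subtype.val h5
  rw [mul_left_inj, mul_right_inj] at h8
  exact Prod.ext rfl (Subtype.ext (pow_injOn_Iio_orderOf (Finset.mem_range.1 (Finset.mem_filter.1 j.2).1)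
    (Finset.mem_range.1 (Finset.mem_filter.1 j'.2).1) h8))

/-- **the normalizer of the cyclic subgroup** -/
theorem KapT.of_norm [Finite G] (hm : T.Mass) {t m U f : ℕ} (h : Bnd T t U) (h1 : look (D.pw t) 1 = t)
    (hf : (D.ord t).totient = f) (hU : D.cnt t * Nat.gcd (U * f) D.N ≤ m * (D.N * f)) : KapT T t m := by
  rintro x rfl
  have h2 := card_RC_norm x h1
  have h3 : Nat.card (normalizer (zpowers x : Set G)) ∣ Nat.gcd (U * f) D.N :=
    Nat.dvd_gcd ((card_norm_dvd x).trans (by rw [T.ord, hf]; exact Nat.mul_dvd_mul_right (h x rfl) f))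
      (hm.1 ▸ Subgroup.card_subgroup_dvd_card _)
  have h4 : 0 < Nat.gcd (U * f) D.N := Nat.gcd_pos_of_pos_right _ (hm.1 ▸ Nat.card_pos)
  rw [T.ord, hf, hm.1] at h2
  refine Nat.le_of_mul_le_mul_right (hU.trans ?_) h4
  rw [mul_assoc]
  exact Nat.mul_le_mul_left _ (h2.trans (Nat.mul_le_mul_left _ (Nat.le_of_dvd h4 h3)))

/-- the step `(t, p, e)` over a single class -/
noncomputable def okS (D : Dat) (O : List ℕ) (s : ℕ × ℕ × ℕ) : Bool :=
  isPr s.2.1 && D.ord s.1 == D.ord s.1 / s.2.1 ^ s.2.2 * s.2.1 ^ s.2.2 && D.ord s.1 / s.2.1 ^ s.2.2 % s.2.1 != 0 &&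
    decide (D.pwf s.1 (s.2.1 ^ s.2.2) ∈ O) &&
    D.N % (D.cnt (D.pwf s.1 (s.2.1 ^ s.2.2)) * s.2.1 ^ (s.2.2 + 1)) != 0

theorem rat_of_okS [Finite G] (hm : T.Mass) {O : List ℕ} (hO : ∀ s ∈ O, One T s) {s : ℕ × ℕ × ℕ}
    (h : okS D O s = true) : RatT T s.1 := by
  simp only [okS, Bool.and_eq_true, beq_iff_eq, bne_iff_ne, decide_eq_true_eq] at h
  obtain ⟨⟨⟨⟨h1, h2⟩, h3⟩, h4⟩, h5⟩ := h
  exact RatT.syl (isPr_spec h1) h2 (fun h6 => h3 (Nat.mod_eq_zero_of_dvd h6)) rfl (RatT.of_one hm (hO _ h4))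
    fun y hy => (hO _ h4).not_dvd hm (fun h6 => h5 (Nat.mod_eq_zero_of_dvd h6)) hy

/-- every type is a class, of prime order, has a step, is in `X`, or has a multiplier -/
noncomputable def okK (D : Dat) (O : List ℕ) (S : List (ℕ × ℕ × ℕ)) (X : List ℕ) (L : List (ℕ × ℕ)) : Bool :=
  S.all (okS D O) && (List.range D.n).all fun t =>
    decide (t ∈ O) || decide (t ∈ S.map Prod.fst) || decide (t ∈ X) || decide (t ∈ L.map Prod.fst) || isPr (D.ord t)

/-- **the assembly** -/
theorem kap_of_chk [Finite G] (hm : T.Mass) (hU : Unif T) {O : List ℕ} (hO : ∀ s ∈ O, One T s)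
    (S : List (ℕ × ℕ × ℕ)) {X : List ℕ} (hX : ∀ t ∈ X, KapT T t 1) {L : List (ℕ × ℕ)}
    (hL : ∀ p ∈ L, KapT T p.1 p.2) (h : okK D O S X L = true) : Kap T L := by
  simp only [okK, Bool.and_eq_true, List.all_eq_true, List.mem_range, Bool.or_eq_true, decide_eq_true_eq] at h
  refine kap_of hL fun t ht h1 => ?_
  rcases h.2 t ht with (((h2 | h2) | h2) | h2) | h2
  · exact (RatT.of_one hm (hO t h2)).kap hm
  · obtain ⟨s, hs, rfl⟩ := List.mem_map.1 h2
    exact (rat_of_okS hm hO (h.1 s hs)).kap hm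
  · exact hX t h2
  · exact absurd h2 h1
  · exact (RatT.of_unif hU (isPr_spec h2)).kap hm

/-- the types which are not in the list -/
def cpl (D : Dat) (S : List ℕ) : List ℕ := (List.range D.n).filter fun t => decide (t ∉ S)

end Cfsg.Agent.N2.SpK

private theorem dce_da8bbf03b53e : _root_.True := by
  try have : _root_.True := by simp only [_root_.Cfsg.Agent.N2.SpK.okK.eq_1]
  try have : _root_.True := by simp only [_root_.Cfsg.Agent.N2.SpK.okS.eq_1]
  exact _root_.True.intro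
end

-- part: N2/SpK/Mul
section
set_option linter.all false
open scoped Cfsg.Agent.FastGrp

-- part: N2/SpK/Orth
section
/-!
# N2 (S3519), the sporadic rows: the values of the characters on the single classes (helper26)

The rows of a table span the functions of the type.  Hence a combination of characters which is orthogonal to the
rows has the sum zero on every type.
-/

set_option autoImplicit false

namespace Cfsg.Agent.N2.SpK

open Cfsg Cfsg.Agent.TAB Cfsg.Agent.TAB.Eng Cfsg.Agent.TAB.Use Cfsg.Agent.TH.Spor Cfsg.Agent.Characters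
open Cfsg.Agent.TwoF.SpO
open scoped ComplexConjugate

universe u

variable {G : Type u} [Group G] {D : Dat} {T : TD G D} {R : Rows} {χ : ℕ → G → ℂ}

/-- a combination of characters -/
noncomputable def cmb (χ : ℕ → G → ℂ) (e : List (ℕ × ℤ)) (g : G) : ℂ := (e.map fun p => (p.2 : ℂ) * χ p.1 g).sum

/-- the last constituent -/
def pv (c : List (ℕ × ℤ)) : ℕ := (c.getLastD (0, 0)).1

/-- the rows are independent -/
def okInd (D : Dat) (R : Rows) : Bool :=
  (R.rel.map Prod.fst).length == D.n &&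
    ((R.rel.map Prod.fst).all fun c => (c.all fun p => decide (p.1 < R.n)) && decide (pv c < R.n) && coef c (pv c) != 0) &&
    decide ((R.rel.map Prod.fst).Pairwise fun c c' => coef c' (pv c) = 0 ∧ coef c (pv c') = 0)

/-- the combination is orthogonal to the rows -/
def okOrt (R : Rows) (e : List (ℕ × ℤ)) : Bool :=
  (e.all fun p => decide (p.1 < R.n)) &&
    (R.rel.map Prod.fst).all fun c => (e.map fun p => p.2 * coef c p.1).sum == 0

theorem span_rows [Fintype G] (hE : Enum G R.n R.d χ) (hR : Rel T R χ) (h : okInd D R = true)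
    (Λ : (G → ℂ) →ₗ[ℂ] ℂ) (hΛ : ∀ r ∈ R.rel, Λ (cmb χ r.1) = 0) (F : ℕ → ℂ) : Λ (fun g => F (T.ty g)) = 0 := by
  simp only [okInd, Bool.and_eq_true, beq_iff_eq, List.all_eq_true, decide_eq_true_eq, bne_iff_ne] at h
  obtain ⟨⟨h1, h2⟩, h3⟩ := h
  set C := R.rel.map Prod.fst with hC
  let v : Fin C.length → G → ℂ := fun i => cmb χ C[i]
  let L : (Fin D.n → ℂ) →ₗ[ℂ] G → ℂ := LinearMap.funLeft ℂ ℂ fun g => ⟨T.ty g, T.lt g⟩
  have h4 : ∀ i : Fin C.length, ∃ r ∈ R.rel, r.1 = C[i] := fun i => List.mem_map.1 (List.getElem_mem i.2)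
  have h5 : LinearIndependent ℂ v := by
    refine Fintype.linearIndependent_iff.2 fun a ha i => ?_
    have h6 := congrArg (fun f => classInner f (χ (pv C[i]))) ha
    have h7 := h2 _ (List.getElem_mem i.2)
    simp only [Core.classInner_zero_left, Core.classInner_sum_left, Core.classInner_smul_left] at h6
    have h8 : ∀ l : Fin C.length, classInner (v l) (χ (pv C[i])) = coef C[l] (pv C[i]) := fun l =>
      inner_comb hE h7.1.2 _ (h2 _ (List.getElem_mem l.2)).1.1
    rw [Finset.sum_eq_single i (fun l _ hl => ?_) fun h9 => absurd (Finset.mem_univ i) h9, h8] at h6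
    · exact (mul_eq_zero.1 h6).resolve_right (Int.cast_ne_zero.2 h7.2)
    · have h9 : coef C[l] (pv C[i]) = 0 := by
        rcases lt_or_gt_of_ne (Fin.val_ne_of_ne hl) with h9 | h9
        exacts [(List.pairwise_iff_getElem.1 h3 _ _ l.2 i.2 h9).2, (List.pairwise_iff_getElem.1 h3 _ _ i.2 l.2 h9).1]
      rw [h8, h9, Int.cast_zero, mul_zero]
  have h6 : Submodule.span ℂ (Set.range v) = LinearMap.range L := by
    refine Submodule.eq_of_le_of_finrank_le (Submodule.span_le.2 ?_) ?_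
    · rintro _ ⟨i, rfl⟩
      obtain ⟨r, hr, e⟩ := h4 i
      exact ⟨fun t => (r.2.getD t 0 : ℤ), funext fun g => ((hR r hr g).symm.trans (congrArg (fun c => cmb χ c g) e) :)⟩
    · rw [finrank_span_eq_card h5, Fintype.card_fin, h1]
      exact (LinearMap.finrank_range_le L).trans (by simp)
  have h7 : (fun g => F (T.ty g)) ∈ Submodule.span ℂ (Set.range v) := h6 ▸ ⟨fun t => F t, rfl⟩
  refine (Submodule.span_le (p := LinearMap.ker Λ)).2 ?_ h7
  rintro _ ⟨i, rfl⟩
  obtain ⟨r, hr, e⟩ := h4 i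
  exact (congrArg (fun c => Λ (cmb χ c)) e).symm.trans (hΛ r hr)

theorem cmb_conj {n : ℕ} {d : ℕ → ℕ} (hE : Enum G n d χ) {e : List (ℕ × ℤ)} (he : ∀ p ∈ e, p.1 < n) {x y : G}
    (h : IsConj x y) : cmb χ e y = cmb χ e x := by
  obtain ⟨c, rfl⟩ := isConj_iff.1 h
  exact congrArg List.sum (List.map_congr_left fun p hp => by rw [Core.isIrr_isClassFunction (hE.irr _ (he p hp))])

/-- **the sums on the types vanish** -/
theorem sum_cmb [Fintype G] (hE : Enum G R.n R.d χ) (hR : Rel T R χ) (h : okInd D R = true) {e : List (ℕ × ℤ)}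
    (he : okOrt R e = true) (F : ℕ → ℂ) : ∑ g, F (T.ty g) * cmb χ e g = 0 := by
  simp only [okOrt, Bool.and_eq_true, List.all_eq_true, decide_eq_true_eq, beq_iff_eq] at he
  let Λ : (G → ℂ) →ₗ[ℂ] ℂ := ⟨⟨fun f => classInner f (cmb χ e), fun _ _ => Core.classInner_add_left _ _ _⟩,
    fun _ _ => Core.classInner_smul_left _ _ _⟩
  have h1 : ∀ (f : G → ℂ) (l : List (ℕ × ℤ)),
      classInner f (cmb χ l) = (l.map fun p => (p.2 : ℂ) * classInner f (χ p.1)).sum := fun f l => by
    induction l with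
    | nil => simp [cmb, Core.classInner_def]
    | cons p l ih =>
      rw [List.map_cons, List.sum_cons, ← ih]
      simp only [cmb, Core.classInner_def, List.map_cons, List.sum_cons, map_add, map_mul, map_intCast, mul_add,
        Finset.sum_add_distrib, Finset.mul_sum]
      refine congrArg₂ _ (Finset.sum_congr rfl fun g _ => by ring) rfl
  have h0 : ∀ c ∈ R.rel.map Prod.fst, ∀ p ∈ c, p.1 < R.n := fun c hc => by
    simp only [okInd, Bool.and_eq_true, List.all_eq_true, decide_eq_true_eq] at h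
    exact (h.1.2 c hc).1.1
  have h2 := span_rows hE hR h Λ (fun r hr => by
    have h2 := congrArg (Int.cast : ℤ → ℂ) (he.2 _ (List.mem_map_of_mem hr))
    rw [Int.cast_list_sum, List.map_map, Int.cast_zero] at h2
    refine (h1 _ e).trans (Eq.trans (congrArg List.sum (List.map_congr_left fun p hp => ?_)) h2)
    rw [Function.comp, Int.cast_mul, ← inner_comb hE (he.1 p hp) _ (h0 _ (List.mem_map_of_mem hr))]
    rfl) fun t => conj (F t)
  have h3 : (Nat.card G : ℂ)⁻¹ * ∑ g, conj (F (T.ty g)) * conj (cmb χ e g) = 0 := h2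
  rw [mul_eq_zero, inv_eq_zero, Nat.cast_eq_zero] at h3
  have h4 := congrArg conj (h3.resolve_left Nat.card_pos.ne')
  simpa using h4

theorem sum_ind [Fintype G] (hm : T.Mass) {s : ℕ} (hs : s < D.n) (c : ℂ) :
    ∑ g, (if T.ty g = s then 1 else 0 : ℂ) * c = D.cnt s * c := by
  rw [sum_mass hm fun t => (if t = s then 1 else 0 : ℂ) * c, Finset.sum_eq_single s
    (fun t _ ht => by rw [if_neg ht, zero_mul, smul_zero]) fun h => absurd (Finset.mem_range.2 hs) h, if_pos rfl,
    one_mul, nsmul_eq_mul]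

/-- **the values on a single class** -/
theorem cmb_one [Finite G] (hm : T.Mass) (hE : Enum G R.n R.d χ) (hR : Rel T R χ) (h : okInd D R = true)
    {e : List (ℕ × ℤ)} (he : okOrt R e = true) {y : G} (hy : ∀ g, T.ty g = T.ty y → cmb χ e g = cmb χ e y) :
    cmb χ e y = 0 := by
  have := Fintype.ofFinite G
  have h1 := sum_cmb hE hR h he fun t => if t = T.ty y then 1 else 0
  rw [Finset.sum_congr rfl (g := fun g => (if T.ty g = T.ty y then 1 else 0 : ℂ) * cmb χ e y) fun g _ => by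
    split_ifs with h2
    · rw [hy g h2]
    · rw [zero_mul, zero_mul], sum_ind hm (T.lt y), mul_eq_zero, Nat.cast_eq_zero, ← hm.2 _ (T.lt y)] at h1
  have : Nonempty {g : G // T.ty g = T.ty y} := ⟨⟨y, rfl⟩⟩
  exact h1.resolve_left Nat.card_pos.ne'

theorem lt_of_okOrt {e : List (ℕ × ℤ)} (he : okOrt R e = true) : ∀ p ∈ e, p.1 < R.n := by
  simp only [okOrt, Bool.and_eq_true, List.all_eq_true, decide_eq_true_eq] at he
  exact he.1

theorem One.cmb [Finite G] (hm : T.Mass) (hE : Enum G R.n R.d χ) (hR : Rel T R χ) (h : okInd D R = true)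
    {e : List (ℕ × ℤ)} (he : okOrt R e = true) {y : G} (hy : One T (T.ty y)) : cmb χ e y = 0 :=
  cmb_one hm hE hR h he fun _ hg => cmb_conj hE (lt_of_okOrt he) (hy.conj hm rfl hg)

/-- the formula for the products of conjugates -/
def SumAt [Fintype G] (T : TD G D) (w : List ℤ) (y : G) : Prop :=
  ∀ x, ∑ a, nth w 0 * nth w (T.ty (a * x * a⁻¹ * y)) = Nat.card G * (nth w (T.ty x) * nth w (T.ty y))

/-- the sums vanish -/
def ZeroAt [Fintype G] (T : TD G D) (w : List ℤ) (y : G) : Prop := ∀ x, ∑ a, nth w (T.ty (a * x * a⁻¹ * y)) = 0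

/-- the relation is the sum of two characters of the same degree -/
def isPair (R : Rows) (r : List (ℕ × ℤ) × List ℤ) : Bool :=
  r.1 == [((r.1.headD (0, 0)).1, 1), (pv r.1, 1)] && R.d (r.1.headD (0, 0)).1 == R.d (pv r.1) &&
    okOrt R [((r.1.headD (0, 0)).1, 1), (pv r.1, -1)]

/-- the two characters of a pair -/
theorem pair_spec (hR : Rel T R χ) {r : List (ℕ × ℤ) × List ℤ} (hr : r ∈ R.rel) (h : isPair R r = true) :
    ∃ j < R.n, ∃ k < R.n, R.d j = R.d k ∧ okOrt R [(j, 1), (k, -1)] = true ∧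
      ∀ g, χ j g + χ k g = nth r.2 (T.ty g) := by
  simp only [isPair, Bool.and_eq_true, beq_iff_eq] at h
  have h1 := lt_of_okOrt h.2
  refine ⟨_, h1 _ List.mem_cons_self, _, h1 _ (List.mem_cons_of_mem _ List.mem_cons_self), h.1.2, h.2, fun g => ?_⟩
  have h2 := hR r hr g
  rw [h.1.1] at h2
  rw [nth_eq, ← h2]
  simp

omit [Group G] in
theorem cmb_pair (j k : ℕ) (g : G) : cmb χ [(j, 1), (k, -1)] g = χ j g - χ k g := by
  simp [cmb, sub_eq_add_neg]

/-- the rows which are pairs -/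
def prows (R : Rows) : List (List ℤ) := (R.rel.filter (isPair R)).map Prod.snd

theorem sumAt_prows [Fintype G] (hm : T.Mass) (h : Tab T R) (hi : okInd D R = true) (h1 : T.ty 1 = 0) {y : G}
    (hy : One T (T.ty y)) : ∀ w ∈ prows R, SumAt T w y := by
  obtain ⟨χ, hE, hR⟩ := h
  intro w hw x
  obtain ⟨r, hr, rfl⟩ := List.mem_map.1 hw
  obtain ⟨j, hj, k, hk, h2, h3, h4⟩ := pair_spec hR (List.mem_filter.1 hr).1 (List.mem_filter.1 hr).2
  have h5 := One.cmb hm hE hR hi h3 hy
  rw [cmb_pair, sub_eq_zero] at h5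
  have h6 := Central.sum_char_conj_mul (hE.irr j hj) x y
  have h7 := Central.sum_char_conj_mul (hE.irr k hk) x y
  have h8 : χ k 1 = χ j 1 := by rw [hE.deg j hj, hE.deg k hk, h2]
  rw [h8, ← h5] at h7
  rw [eq_div_iff (Central.irr_one_ne_zero (hE.irr j hj))] at h6 h7
  have h9 : ((∑ a, nth r.2 0 * nth r.2 (T.ty (a * x * a⁻¹ * y)) : ℤ) : ℂ) =
      (Nat.card G * (nth r.2 (T.ty x) * nth r.2 (T.ty y)) : ℤ) := by
    push_cast
    simp only [← h4]
    rw [← h1, ← h4, h8, ← h5, ← Finset.mul_sum, Finset.sum_add_distrib]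
    linear_combination 2 * h6 + 2 * h7
  exact_mod_cast h9

/-- the relation joins the character `j` and another one -/
def isStar (j : ℕ) (r : List (ℕ × ℤ) × List ℤ) : Bool :=
  r.1 == [(j, 1), (pv r.1, 1)] || r.1 == [(j, 1), (pv r.1, -1)]

/-- the rows of a star -/
def srel (R : Rows) (j : ℕ) : List (List (ℕ × ℤ) × List ℤ) := R.rel.filter (isStar j)

/-- the combination which is orthogonal to a star -/
def sOrt (R : Rows) (j : ℕ) : List (ℕ × ℤ) := (j, 1) :: (srel R j).map fun r => (pv r.1, -(r.1.getLastD (0, 0)).2)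

theorem zeroAt_srel [Fintype G] (hm : T.Mass) (h : Tab T R) (hi : okInd D R = true) {j : ℕ}
    (hj : okOrt R (sOrt R j) = true) {y : G} (hy : One T (T.ty y)) (h0 : ∀ r ∈ srel R j, nth r.2 (T.ty y) = 0) :
    ∀ w ∈ (srel R j).map Prod.snd, ZeroAt T w y := by
  obtain ⟨χ, hE, hR⟩ := h
  have h1 : ∀ r ∈ srel R j, ∃ a : ℤ, a * a = 1 ∧ (r.1.getLastD (0, 0)).2 = a ∧
      ∀ g, χ j g + a * χ (pv r.1) g = nth r.2 (T.ty g) := fun r hr => by
    obtain ⟨h1, h2⟩ := List.mem_filter.1 hr
    rw [isStar, Bool.or_eq_true, beq_iff_eq, beq_iff_eq] at h2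
    rcases h2 with h2 | h2
    · refine ⟨1, rfl, by rw [h2]; rfl, fun g => ?_⟩
      have h3 := hR r h1 g
      rw [h2] at h3
      rw [nth_eq, ← h3]
      simp
    · refine ⟨-1, rfl, by rw [h2]; rfl, fun g => ?_⟩
      have h3 := hR r h1 g
      rw [h2] at h3
      rw [nth_eq, ← h3]
      simp
  have h2 : χ j y = 0 := by
    have h2 := One.cmb hm hE hR hi hj hy
    rw [sOrt, cmb, List.map_cons, List.sum_cons, List.map_map, List.map_congr_left (g := fun _ => χ j y) fun r hr => by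
      obtain ⟨a, -, h4, h5⟩ := h1 r hr
      have h6 := h5 y
      rw [h0 r hr, Int.cast_zero] at h6
      simp only [Function.comp, h4, Int.cast_neg]
      linear_combination -h6, List.map_const', List.sum_replicate, nsmul_eq_mul] at h2
    have h3 : (((srel R j).length + 1 : ℕ) : ℂ) * χ j y = 0 := by
      push_cast at h2 ⊢
      linear_combination h2
    exact (mul_eq_zero.1 h3).resolve_left (Nat.cast_ne_zero.2 (Nat.succ_ne_zero _))
  intro w hw x
  obtain ⟨r, hr, rfl⟩ := List.mem_map.1 hw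
  obtain ⟨a, h3, -, h5⟩ := h1 r hr
  have h6 : χ (pv r.1) y = 0 := by
    have h6 := h5 y
    have h7 : (a : ℂ) * a = 1 := by exact_mod_cast h3
    rw [h0 r hr, h2, Int.cast_zero] at h6
    linear_combination a * h6 - χ (pv r.1) y * h7
  have h7 := Central.sum_char_conj_mul (hE.irr j (lt_of_okOrt hj _ List.mem_cons_self)) x y
  have h8 := Central.sum_char_conj_mul (hE.irr (pv r.1)
    (lt_of_okOrt hj (pv r.1, -(r.1.getLastD (0, 0)).2) (List.mem_cons_of_mem _ (List.mem_map.2 ⟨r, hr, rfl⟩)))) x y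
  rw [h2, mul_zero, zero_div] at h7
  rw [h6, mul_zero, zero_div] at h8
  have h9 : ((∑ a, nth r.2 (T.ty (a * x * a⁻¹ * y)) : ℤ) : ℂ) = 0 := by
    push_cast
    simp only [← h5]
    rw [Finset.sum_add_distrib, ← Finset.mul_sum, h7, h8, mul_zero, add_zero]
  exact_mod_cast h9

end Cfsg.Agent.N2.SpK
end

-- part: N2/SpK/Mul
section
/-!
# N2 (S3519), the sporadic rows: bounds for the centralizers from the class multiplication (helper26)

`bnd_run` : the number of the conjugates `x'` of `x` with `x' y` of a given type is an integer.  If `y` lies in a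
single class, then all the rows of the table can be used.
-/

set_option autoImplicit false

namespace Cfsg.Agent.N2.SpK

open Cfsg Cfsg.Agent.TAB Cfsg.Agent.TAB.Eng Cfsg.Agent.TAB.Use Cfsg.Agent.TH.Spor Cfsg.Agent.TwoF.SpO
open Subgroup (centralizer)

universe u

variable {G : Type u} [Group G] {D : Dat} {T : TD G D}

theorem sum_accP' [Fintype G] (x y : G) (z : List ℤ) : ∀ (W : List (List ℤ)) (V : List ℤ),
    (∀ w ∈ W, SumAt T w y) → V.length = D.n → ∑ a, nth (accP z W V) (T.ty (a * x * a⁻¹ * y)) =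
      ∑ a, nth V (T.ty (a * x * a⁻¹ * y)) + Nat.card G * sumP (T.ty x) (T.ty y) z W := by
  induction z with
  | nil => exact fun W V _ _ => (add_zero _).symm.trans (congrArg _ (mul_zero _).symm)
  | cons c z ih =>
    intro W V hW hV
    cases W with
    | nil => exact (add_zero _).symm.trans (congrArg _ (mul_zero _).symm)
    | cons w W =>
      have e1 : accP (c :: z) (w :: W) V = accP z W (axz (c * nth w 0) V w) :=
        (frcZ_eq (c * nth w 0) fun p => frcLZ (axz p V w) fun V' => accP z W V').trans (frcLZ_eq _ _)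
      have e2 : sumP (T.ty x) (T.ty y) (c :: z) (w :: W) =
          c * (nth w (T.ty x) * nth w (T.ty y)) + sumP (T.ty x) (T.ty y) z W := frcZ_eq _ _
      rw [e1, e2, ih W _ (fun v hv => hW v (List.mem_cons_of_mem _ hv)) ((length_axz _ _ _).trans hV),
        Finset.sum_congr rfl fun a _ => nth_axz _ _ _ (hV ▸ T.lt _), Finset.sum_add_distrib]
      simp only [mul_assoc c]
      rw [← Finset.mul_sum, hW w List.mem_cons_self x]
      ring

/-- `V + ∑ f(c) c` -/
noncomputable def acc0 (f : List ℤ → ℤ) (C : List (List ℤ)) : List ℤ → List ℤ :=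
  List.rec (fun V => V) (fun w _ ih V => frcZ (f w) fun p => frcLZ (axz p V w) ih) C

theorem sum_acc0 [Fintype G] (x y : G) (f : List ℤ → ℤ) : ∀ (C : List (List ℤ)) (V : List ℤ),
    (∀ w ∈ C, ZeroAt T w y) → V.length = D.n → (acc0 f C V).length = D.n ∧
      ∑ a, nth (acc0 f C V) (T.ty (a * x * a⁻¹ * y)) = ∑ a, nth V (T.ty (a * x * a⁻¹ * y)) := by
  intro C
  induction C with
  | nil => exact fun V _ hV => ⟨hV, rfl⟩
  | cons w C ih =>
    intro V hW hV
    have e1 : acc0 f (w :: C) V = acc0 f C (axz (f w) V w) :=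
      (frcZ_eq (f w) fun p => frcLZ (axz p V w) (acc0 f C)).trans (frcLZ_eq _ _)
    obtain ⟨h1, h2⟩ := ih _ (fun v hv => hW v (List.mem_cons_of_mem _ hv)) ((length_axz (f w) V w).trans hV)
    rw [e1, h2, Finset.sum_congr rfl fun a _ => nth_axz _ _ _ (hV ▸ T.lt _), Finset.sum_add_distrib,
      ← Finset.mul_sum, hW w List.mem_cons_self x, mul_zero, add_zero]
    exact ⟨h1, rfl⟩

theorem dvd_sumP' [Fintype G] (hN : Nat.card G = D.N) {W C : List (List ℤ)} {y : G} (hW : ∀ w ∈ W, SumAt T w y)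
    (hC : ∀ w ∈ C, ZeroAt T w y) (z : List ℤ) (f : List ℤ → ℤ) (x : G) : Nat.card (centralizer ({x} : Set G)) ∣
      (Int.mul D.N (sumP (T.ty x) (T.ty y) z W)).natAbs / gcdL (accP z W (acc0 f C (List.replicate D.n 0))) := by
  classical
  obtain ⟨h1, h2⟩ := sum_acc0 x y f C _ hC (List.length_replicate (a := 0))
  have h3 := sum_accP' x y z W _ hW h1
  have h5 : ∑ a, nth (List.replicate D.n 0) (T.ty (a * x * a⁻¹ * y)) = 0 :=
    Finset.sum_eq_zero fun a _ => by
      rw [nth_eq, List.getD_eq_getElem _ _ (by rw [List.length_replicate]; exact T.lt _), List.getElem_replicate]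
  generalize accP z W (acc0 f C (List.replicate D.n 0)) = V at h3 ⊢
  rw [h2, h5, zero_add, hN, Characters.ClassMul.sum_conj_eq_smul (fun g => nth V (T.ty (g * y))) x, nsmul_eq_mul] at h3
  rcases Nat.eq_zero_or_pos (gcdL V) with h6 | h6
  · rw [h6, Nat.div_zero]
    exact dvd_zero _
  · refine Nat.dvd_div_of_mul_dvd (Int.natCast_dvd.1 ?_)
    show _ ∣ (D.N : ℤ) * _
    rw [← h3, Nat.cast_mul, mul_comm]
    exact mul_dvd_mul_left _ (Finset.dvd_sum fun g _ => gcdL_dvd _ _)

/-- the combination of the columns -/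
noncomputable def mw (m : List (ℤ × ℕ)) (w : List ℤ) : ℤ :=
  List.rec 0 (fun p _ ih => Int.add (Int.mul p.1 (nth w p.2)) ih) m

/-- the coefficients of the rows -/
noncomputable def zz (D : Dat) (k : ℕ) (m : List (ℤ × ℕ)) (W : List (List ℤ)) : List ℤ :=
  W.map fun w => Int.mul (Int.mul k (Int.ediv (Nat.mul 2 D.N) (nth w 0))) (mw m w)

/-- the rows of a level -/
noncomputable def lvW (A B : List (List ℤ)) (lv : ℕ) : List (List ℤ) := cond (Nat.beq lv 0) A (A ++ B)

/-- the rows of the star of a level -/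
noncomputable def lvC (C : List (List ℤ)) (lv : ℕ) : List (List ℤ) := cond (Nat.beq lv 2) C []

/-- the coefficients of a certificate -/
noncomputable def cz (D : Dat) (A B C : List (List ℤ)) (c : ℕ × List (ℤ × ℕ)) : List ℤ :=
  zz D (2 * ((lvC C c.1).length + 1)) c.2 A ++ zz D ((lvC C c.1).length + 1) c.2 B

/-- the common divisor of the values -/
noncomputable def cM (D : Dat) (A B C : List (List ℤ)) (c : ℕ × List (ℤ × ℕ)) (z : List ℤ) : ℕ :=
  gcdL (accP z (lvW A B c.1) (acc0 (fun w => Int.mul (Nat.mul 4 D.N)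
    (Int.sub (Int.mul (C.length + 1 : ℕ) (mw c.2 w)) (C.map (mw c.2)).sum)) (lvC C c.1) (List.replicate D.n 0)))

/-- evaluate all the certificates -/
noncomputable def allC (D : Dat) (A B C : List (List ℤ)) (cs : List (ℕ × List (ℤ × ℕ))) :
    (List (ℕ × List ℤ × ℕ) → Bool) → Bool :=
  List.rec (fun k => k []) (fun c _ ih k => frcLZ (cz D A B C c) fun z => frc (cM D A B C c z) fun M =>
    ih fun l => k ((c.1, z, M) :: l)) cs

theorem allC_eq (A B C : List (List ℤ)) (cs : List (ℕ × List (ℤ × ℕ))) :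
    ∀ k, allC D A B C cs k = k (cs.map fun c => (c.1, cz D A B C c, cM D A B C c (cz D A B C c))) := by
  induction cs with
  | nil => exact fun _ => rfl
  | cons c cs ih =>
    intro k
    refine (frcLZ_eq _ _).trans ((frc_eq _ _).trans ?_)
    exact ih fun l => k ((c.1, cz D A B C c, cM D A B C c (cz D A B C c)) :: l)

/-- the bounds hold -/
def Bnds (T : TD G D) (U : List ℕ) : Prop := ∀ t, Bnd T t (ntd U 0 t)

theorem Bnds.set {U : List ℕ} (h : Bnds T U) {t v : ℕ} (hv : Bnd T t v) : Bnds T (U.set t v) := by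
  have key : ∀ (U : List ℕ) (t s : ℕ), ntd (U.set t v) 0 s = ntd U 0 s ∨ s = t ∧ ntd (U.set t v) 0 s = v := fun U => by
    induction U with
    | nil => exact fun _ _ => Or.inl rfl
    | cons a U ih =>
      rintro (_ | t) (_ | s)
      exacts [Or.inr ⟨rfl, rfl⟩, Or.inl rfl, Or.inl rfl, (ih t s).imp id fun h => ⟨congrArg _ h.1, h.2⟩]
  intro s
  rcases key U t s with e | ⟨rfl, e⟩ <;> rw [e]
  exacts [h s, hv]

theorem Bnd.gcd {t a b : ℕ} (ha : Bnd T t a) (hb : Bnd T t b) : Bnd T t (Nat.gcd a b) :=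
  fun x hx => Nat.dvd_gcd (ha x hx) (hb x hx)

/-- steps -/
inductive St : Type
  | cm (t c s : ℕ) : St
  | pw (t k : ℕ) : St
  | ds (t l a e : ℕ) : St

/-- the bound is the exact one -/
noncomputable def ex (D : Dat) (U : List ℕ) (s : ℕ) : Bool :=
  frc (ntd U 0 s) fun u => Nat.blt s D.n && Nat.blt 0 u && Nat.ble (Nat.mul (D.cnt s) u) D.N

theorem Bnds.one (hN : Nat.card G = D.N) (hI : Inh T) {U : List ℕ} (h : Bnds T U) {s : ℕ} (hs : ex D U s = true) :
    One T s := by
  rw [ex, frc_eq, Bool.and_eq_true, Bool.and_eq_true, Nat.blt_eq, Nat.blt_eq, Nat.ble_eq] at hs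
  exact (h s).one hN hI hs.1.1 hs.1.2 hs.2

/-- one step: the type and the new bound -/
noncomputable def stp (D : Dat) (A AB C : List (List ℤ)) (Z : List (ℕ × List ℤ × ℕ)) (U : List ℕ)
    (κ : ℕ → ℕ → Bool) (s : St) : Bool :=
  St.rec
    (fun t c s => frc (ntd Z (0, [], 0) c).1 fun lv =>
      cond (Nat.blt s D.n && (Nat.beq lv 0 || ex D U s) && allL (fun w => decide (nth w s = 0)) (lvC C lv))
        (κ t (Nat.gcd (ntd U 0 t) ((Int.mul D.N (sumP t s (ntd Z (0, [], 0) c).2.1 (cond (Nat.beq lv 0) A AB))).natAbs /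
          (ntd Z (0, [], 0) c).2.2))) false)
    (fun t k => κ t (Nat.gcd (ntd U 0 t) (ntd U 0 (D.pwf t k))))
    (fun t l a e => cond (isPr l && Nat.beq (ntd U 0 t % l ^ a) 0 &&
        okD D l e t (((List.range D.n).filter fun u => D.ord u == l * D.ord t).map fun u => (u, ntd U 0 u, [])))
      (κ t (l ^ e * (ntd U 0 t / l ^ a))) false) s

/-- all the steps -/
noncomputable def run (D : Dat) (A AB C : List (List ℤ)) (Z : List (ℕ × List ℤ × ℕ)) (κ : List ℕ → Bool)
    (L : List St) : List ℕ → Bool :=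
  List.rec κ (fun s _ ih U => stp D A AB C Z U (fun t v => frcL (U.set t v) ih) s) L

/-- what is known on the rows -/
structure Rw [Fintype G] (T : TD G D) (A B C : List (List ℤ)) : Prop where
  a : ∀ y, ∀ w ∈ A, SumAt T w y
  b : ∀ y, One T (T.ty y) → ∀ w ∈ B, SumAt T w y
  c : ∀ y, One T (T.ty y) → (∀ w ∈ C, nth w (T.ty y) = 0) → ∀ w ∈ C, ZeroAt T w y

theorem cond_ff {b c : Bool} (h : cond b c false = true) : b = true ∧ c = true := by
  cases b
  · cases h
  · exact ⟨rfl, h⟩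

theorem stp_spec [Fintype G] (hN : Nat.card G = D.N) (hI : Inh T) {A B C : List (List ℤ)} (H : Rw T A B C)
    {cs : List (ℕ × List (ℤ × ℕ))} {U : List ℕ} (hU : Bnds T U) {κ : ℕ → ℕ → Bool} {s : St}
    (h : stp D A (A ++ B) C (cs.map fun c => (c.1, cz D A B C c, cM D A B C c (cz D A B C c))) U κ s = true) :
    ∃ t v, Bnd T t v ∧ κ t v = true := by
  cases s with
  | cm t c s =>
    unfold stp at h
    dsimp only at h
    rw [frc_eq] at h
    obtain ⟨h1, h2⟩ := cond_ff h
    refine ⟨t, _, Bnd.gcd (hU t) fun x hx => ?_, h2⟩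
    rw [Bool.and_eq_true, Bool.and_eq_true, Nat.blt_eq, Bool.or_eq_true] at h1
    obtain ⟨y, hy⟩ := hI s h1.1.1
    rcases ntd_mem (cs.map fun c => (c.1, cz D A B C c, cM D A B C c (cz D A B C c))) (0, [], 0) c with h3 | h3
    · rw [h3, Nat.div_zero]
      exact dvd_zero _
    obtain ⟨m, -, h4⟩ := List.mem_map.1 h3
    rw [← h4] at h1 ⊢
    subst hx hy
    refine dvd_sumP' (W := lvW A B m.1) hN ?_ ?_ _ _ x
    · unfold lvW
      cases h5 : Nat.beq m.1 0
      · have h6 := hU.one hN hI (h1.1.2.resolve_left (by rw [h5]; exact Bool.false_ne_true))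
        exact List.forall_mem_append.2 ⟨H.a y, H.b y h6⟩
      · exact H.a y
    · have h7 := allL_spec h1.2
      unfold lvC at h7 ⊢
      cases h5 : Nat.beq m.1 2
      · exact List.forall_mem_nil _
      · rw [h5] at h7
        refine H.c y (hU.one hN hI (h1.1.2.resolve_left ?_)) fun w hw => of_decide_eq_true (h7 w hw)
        rw [Nat.eq_of_beq_eq_true h5]
        exact Bool.false_ne_true
  | pw t k => exact ⟨t, _, Bnd.gcd (hU t) (Bnd.pow (hU _) rfl), h⟩
  | ds t l a e =>
    obtain ⟨h1, h2⟩ := cond_ff h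
    rw [Bool.and_eq_true, Bool.and_eq_true, Nat.beq_eq] at h1
    refine ⟨t, _, Bnd.desc (a := a) (isPr_spec h1.1.1) ?_ (fun x hx => ?_) h1.2, h2⟩
    · rw [Nat.mul_div_cancel' (Nat.dvd_of_mod_eq_zero h1.1.2)]
      exact hU t
    · obtain ⟨u, -, rfl⟩ := List.mem_map.1 hx
      exact hU u

/-- **the check** -/
noncomputable def chk (D : Dat) (A B C : List (List ℤ)) (cs : List (ℕ × List (ℤ × ℕ))) (L : List St) (U V : List ℕ) :
    Bool :=
  Glue.frcM A fun A' => Glue.frcM B fun B' => Glue.frcM C fun C' => Glue.frcM (A' ++ B') fun AB =>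
    allC D A' B' C' cs fun Z => frcL U (run D A' AB C' Z (fun U' => decide (U' = V)) L)

/-- **bounds for the centralizers** -/
theorem bnd_run [Fintype G] (hN : Nat.card G = D.N) (hI : Inh T) {A B C : List (List ℤ)} (H : Rw T A B C)
    {cs : List (ℕ × List (ℤ × ℕ))} {L : List St} {U V : List ℕ} (hU : Bnds T U)
    (h : chk D A B C cs L U V = true) : Bnds T V := by
  rw [chk, Glue.frcM_eq, Glue.frcM_eq, Glue.frcM_eq, Glue.frcM_eq, allC_eq, frcL_eq] at h
  generalize hZ : (cs.map fun c => (c.1, cz D A B C c, cM D A B C c (cz D A B C c))) = Z at h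
  induction L generalizing U with
  | nil => exact of_decide_eq_true h ▸ hU
  | cons s L ih =>
    have h0 : stp D A (A ++ B) C Z U (fun t v => frcL (U.set t v) (run D A (A ++ B) C Z (fun U' => decide (U' = V)) L))
      s = true := h
    rw [← hZ] at h0
    obtain ⟨t, v, h1, h2⟩ := stp_spec hN hI H hU h0
    rw [hZ, frcL_eq] at h2
    exact ih (hU.set h1) h2

/-- the first bounds -/
def ini (D : Dat) (O : List ℕ) : List ℕ := (List.range D.n).map fun t => if t ∈ O then D.N / D.cnt t else D.N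

theorem bnds_ini [Finite G] (hm : T.Mass) {O : List ℕ} (hO : ∀ t ∈ O, One T t) : Bnds T (ini D O) := by
  intro t x hx
  have ht : t < (ini D O).length := by rw [ini, List.length_map, List.length_range, ← hx]; exact T.lt x
  rw [ntd_eq _ _ ht]
  simp only [ini, List.getElem_map, List.getElem_range]
  split_ifs with h
  · have h1 := (hO t h).card hm hx
    have h2 : 0 < D.cnt t := Nat.pos_of_ne_zero fun h2 => by
      rw [h2, zero_mul, ← hm.1] at h1
      exact Nat.card_pos.ne h1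
    rw [← h1, Nat.mul_div_cancel_left _ h2]
  · exact hm.1 ▸ Subgroup.card_subgroup_dvd_card _

/-- the checks on the data -/
def okT (D : Dat) (R : Rows) : Bool :=
  ((List.range D.n).all fun i => i == 0 || D.ord i != 1) && ((List.range D.n).all fun i => 0 < D.cnt i) && okInd D R

theorem inh_of_okT (hm : T.Mass) {R : Rows} (h : okT D R = true) : Inh T := by
  rw [okT, Bool.and_eq_true, Bool.and_eq_true] at h
  exact inh_of_mass hm fun i hi => of_decide_eq_true (List.all_eq_true.1 h.1.2 i (List.mem_range.2 hi))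

theorem rw_of [Fintype G] (hm : T.Mass) {R : Rows} (h : Tab T R) (hT : okT D R = true) :
    Rw T (irows R) (prows R) [] := by
  rw [okT, Bool.and_eq_true, Bool.and_eq_true] at hT
  exact ⟨fun y w hw x => (irr_irows h w hw).sum (ty_one hT.1.1) x y,
    fun y hy => sumAt_prows hm h hT.2 (ty_one hT.1.1) hy, fun _ _ _ => List.forall_mem_nil _⟩

theorem rw_star [Fintype G] (hm : T.Mass) {R : Rows} (h : Tab T R) (hT : okT D R = true) {j : ℕ}
    (hj : okOrt R (sOrt R j) = true) : Rw T (irows R) (prows R) ((srel R j).map Prod.snd) := by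
  have h1 := rw_of hm h hT
  rw [okT, Bool.and_eq_true] at hT
  exact ⟨h1.a, h1.b, fun y hy h0 => zeroAt_srel hm h hT.2 hj hy fun r hr => h0 _ (List.mem_map_of_mem hr)⟩

end Cfsg.Agent.N2.SpK
end

private theorem dce_b7198fe1c6d9 : _root_.True := by
  try have : _root_.True := by simp only [_root_.Cfsg.Agent.N2.SpK.ex.eq_1]
  try have : _root_.True := by simp only [_root_.Cfsg.Agent.N2.SpK.isStar.eq_1]
  try have : _root_.True := by simp only [_root_.Cfsg.Agent.N2.SpK.chk.eq_1]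
  try have : _root_.True := by simp only [_root_.Cfsg.Agent.N2.SpK.sOrt.eq_1]
  try have : _root_.True := by simp only [_root_.Cfsg.Agent.N2.SpK.ini.eq_1]
  try have : _root_.True := by simp only [_root_.Cfsg.Agent.N2.SpK.okOrt.eq_1]
  try have : _root_.True := by simp only [_root_.Cfsg.Agent.N2.SpK.isPair.eq_1]
  try have : _root_.True := by simp only [_root_.Cfsg.Agent.N2.SpK.okT.eq_1]
  try have : _root_.True := by simp only [_root_.Cfsg.Agent.N2.SpK.cmb.eq_1]
  try have : _root_.True := by simp only [_root_.Cfsg.Agent.N2.SpK.okInd.eq_1]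
  exact _root_.True.intro
end

-- part: N2/SpK/Asm
section
set_option linter.all false
open scoped Cfsg.Agent.FastGrp

/-!
# N2 (S3519), the sporadic rows: the multipliers from the bounds (helper26)
-/

set_option autoImplicit false

namespace Cfsg.Agent.N2.SpK

open Cfsg Cfsg.Agent.TAB Cfsg.Agent.TAB.Eng Cfsg.Agent.TAB.Use Cfsg.Agent.TH.Spor

universe u

variable {G : Type u} [Group G] {D : Dat} {T : TD G D}

/-- the type is known as a rational class -/
noncomputable def isR (D : Dat) (V X : List ℕ) (t : ℕ) : Bool := ex D V t || decide (t ∈ X) || isPr (D.ord t)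

theorem rat_of_isR [Finite G] (hm : T.Mass) (hI : Inh T) (hU : Unif T) {V X : List ℕ} (hV : Bnds T V)
    (hX : ∀ t ∈ X, RatT T t) {t : ℕ} (h : isR D V X t = true) : RatT T t := by
  rw [isR, Bool.or_eq_true, Bool.or_eq_true, decide_eq_true_eq] at h
  rcases h with (h | h) | h
  exacts [RatT.of_one hm (hV.one hm.1 hI h), hX t h, RatT.of_unif hU (isPr_spec h)]

/-- the steps `(t, p, e)` -/
noncomputable def syls (D : Dat) (V : List ℕ) (κ : List ℕ → Bool) (S : List (ℕ × ℕ × ℕ)) : List ℕ → Bool :=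
  List.rec κ (fun s _ ih X => cond (isPr s.2.1 && D.ord s.1 == D.ord s.1 / s.2.1 ^ s.2.2 * s.2.1 ^ s.2.2 &&
    D.ord s.1 / s.2.1 ^ s.2.2 % s.2.1 != 0 && isR D V X (D.pwf s.1 (s.2.1 ^ s.2.2)) &&
    ntd V 0 (D.pwf s.1 (s.2.1 ^ s.2.2)) % s.2.1 ^ (s.2.2 + 1) != 0) (ih (s.1 :: X)) false) S

theorem syls_spec [Finite G] (hm : T.Mass) (hI : Inh T) (hU : Unif T) {V : List ℕ} (hV : Bnds T V)
    {κ : List ℕ → Bool} (S : List (ℕ × ℕ × ℕ)) : ∀ {X : List ℕ}, (∀ t ∈ X, RatT T t) → syls D V κ S X = true →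
      ∃ X', (∀ t ∈ X', RatT T t) ∧ κ X' = true := by
  induction S with
  | nil => exact fun hX h => ⟨_, hX, h⟩
  | cons s S ih =>
    intro X hX h
    obtain ⟨h1, h2⟩ := cond_ff h
    simp only [Bool.and_eq_true, beq_iff_eq, bne_iff_ne] at h1
    obtain ⟨⟨⟨⟨h3, h4⟩, h5⟩, h6⟩, h7⟩ := h1
    exact ih (List.forall_mem_cons.2 ⟨RatT.syl (isPr_spec h3) h4 (fun h8 => h5 (Nat.mod_eq_zero_of_dvd h8)) rfl
      (rat_of_isR hm hI hU hV hX h6) fun y hy h8 => h7 (Nat.mod_eq_zero_of_dvd (h8.trans (hV _ y hy))), hX⟩) h2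

/-- **the check** -/
noncomputable def okA (D : Dat) (V X : List ℕ) (S : List (ℕ × ℕ × ℕ)) (Y L : List (ℕ × ℕ)) : Bool :=
  frcL V fun V' => syls D V' (fun X' => allL (fun t => Nat.blt 0 (mu L t) && (isR D V' X' t || decide ((t, mu L t) ∈ Y) ||
    Nat.blt 0 (ntd V' 0 t) && Nat.ble (D.cnt t * ntd V' 0 t) (mu L t * D.N))) (List.range D.n)) S X

/-- **the multipliers** -/
theorem kap_of_bnds [Finite G] (hm : T.Mass) (hI : Inh T) (hU : Unif T) {V X : List ℕ} (hV : Bnds T V)
    (hX : ∀ t ∈ X, RatT T t) (S : List (ℕ × ℕ × ℕ)) {Y : List (ℕ × ℕ)} (hY : ∀ p ∈ Y, KapT T p.1 p.2)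
    {L : List (ℕ × ℕ)} (h : okA D V X S Y L = true) : Kap T L := by
  rw [okA, frcL_eq] at h
  obtain ⟨X', h1, h2⟩ := syls_spec hm hI hU hV S hX h
  intro t ht
  have h3 := allL_spec h2 t (List.mem_range.2 ht)
  rw [Bool.and_eq_true, Nat.blt_eq, Bool.or_eq_true, Bool.or_eq_true, decide_eq_true_eq, Bool.and_eq_true, Nat.blt_eq,
    Nat.ble_eq] at h3
  rcases h3.2 with (h4 | h4) | h4
  exacts [((rat_of_isR hm hI hU hV h1 h4).kap hm).mono h3.1, hY _ h4, KapT.of_bnd hm (hV t) h4.1 h4.2]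

end Cfsg.Agent.N2.SpK

private theorem dce_59c1d0fe019e : _root_.True := by
  try have : _root_.True := by simp only [_root_.Cfsg.Agent.N2.SpK.isR.eq_1]
  try have : _root_.True := by simp only [_root_.Cfsg.Agent.N2.SpK.okA.eq_1]
  exact _root_.True.intro
end

-- part: N2/SpK/F22B
section
set_option linter.all false

/-!
# N2 (S3519), the sporadic rows: bounds for the centralizers in `F22` (helper26)
-/

set_option autoImplicit false
set_option maxRecDepth 100000

namespace Cfsg.Agent.N2.SpK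

open Cfsg Cfsg.Agent.TAB Cfsg.Agent.TAB.Eng Cfsg.Agent.TAB.Use Cfsg.Agent.TH.Spor Cfsg.Agent.TAB.Sm2
open Cfsg.Agent.TwoF.SpO

/-- the certificates -/
def csF22 : List (ℕ × List (ℤ × ℕ)) :=
    [(0, [(1, 28)]), (1, [(1, 1)]), (1, [(1, 2)]), (1, [(1, 3)]), (0, [(1, 29)]), (1, [(1, 4)]), (0, [(1, 25)]), (1,
    [(1, 5)]), (1, [(1, 7)]), (0, [(1, 13)]), (0, [(1, 57)]), (0, [(1, 33)]), (0, [(1, 48)]), (0, [(1, 27)]), (1,
    [(1, 17)])]

/-- the steps -/
def stF22 : List St :=
    [.cm 8 0 53, .cm 8 0 30, .cm 8 1 13, .cm 9 0 57, .cm 9 2 13, .cm 9 0 27, .cm 10 0 34, .cm 10 1 4, .cm 10 1 7,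
    .cm 11 1 13, .cm 11 1 1, .cm 12 1 13, .cm 12 1 6, .cm 14 3 4, .cm 14 2 13, .cm 15 4 33, .cm 15 1 5, .cm 15 5 1,
    .cm 16 3 13, .cm 16 1 1, .cm 17 0 57, .cm 17 1 13, .cm 18 2 13, .cm 18 1 1, .cm 19 6 47, .cm 19 1 1,
    .cm 20 4 39, .cm 20 7 4, .cm 20 7 2, .cm 21 3 13, .cm 21 1 1, .cm 22 8 13, .cm 22 1 1, .cm 23 1 5, .cm 23 1 13,
    .cm 24 3 13, .cm 24 1 1, .cm 25 9 35, .cm 25 1 1, .cm 26 1 13, .cm 26 9 26, .cm 27 0 26, .cm 27 1 13,
    .cm 28 1 13, .cm 28 1 1, .cm 29 10 39, .cm 29 1 13, .cm 30 8 13, .cm 30 9 54, .cm 31 9 31, .cm 31 1 1,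
    .cm 32 8 13, .cm 32 9 54, .cm 33 11 33, .cm 33 1 13, .cm 34 9 58, .cm 34 1 13, .cm 35 12 35, .cm 36 7 4,
    .cm 36 7 13, .cm 36 1 4, .cm 37 3 4, .cm 37 2 13, .cm 38 7 13, .cm 38 1 1, .cm 38 1 13, .cm 39 4 57,
    .cm 39 1 13, .cm 40 0 56, .cm 40 1 13, .cm 41 0 57, .cm 41 1 4, .cm 42 3 13, .cm 42 1 1, .cm 43 13 43,
    .cm 43 2 13, .cm 44 1 13, .cm 44 1 1, .cm 44 14 13, .cm 45 3 13, .cm 45 1 1, .cm 46 12 46, .cm 47 9 34,
    .cm 47 9 27, .cm 47 9 47, .cm 48 9 48, .cm 49 4 26, .cm 49 1 4, .cm 50 9 50, .cm 50 1 13, .cm 51 3 13,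
    .cm 51 1 1, .cm 52 3 13, .cm 52 9 47, .cm 53 1 13, .cm 53 9 26, .cm 54 9 54, .cm 54 1 1, .cm 55 12 55,
    .cm 56 0 48, .cm 56 1 4, .cm 57 4 39, .cm 57 1 4, .cm 58 9 34, .cm 58 9 55, .pw 14 2, .pw 14 3, .pw 15 3,
    .pw 20 2, .pw 21 2, .ds 30 2 1 0, .pw 33 2, .pw 36 2, .pw 36 3, .pw 37 3, .pw 38 2, .pw 38 3, .pw 42 3,
    .pw 43 2, .pw 43 3, .pw 51 2, .pw 53 2, .cm 9 1 34, .cm 10 1 24, .cm 16 1 25, .cm 17 1 33, .cm 18 2 25,
    .cm 18 1 34, .cm 19 2 11, .cm 27 1 48, .cm 29 1 25, .cm 30 3 33, .cm 31 3 28, .cm 32 3 11, .cm 37 1 25,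
    .cm 39 1 34, .cm 41 1 34, .cm 42 1 25, .cm 43 1 25, .cm 45 1 47, .cm 49 1 47, .cm 50 3 33, .cm 51 3 33,
    .cm 52 3 25, .cm 56 1 25, .cm 57 1 47, .cm 8 1 30, .cm 26 1 30, .cm 27 1 30, .cm 37 1 30, .cm 38 1 30,
    .cm 40 1 30, .cm 49 1 30, .cm 53 1 30, .cm 57 1 30]

/-- the bounds -/
def bdF22 : List ℕ :=
    [64561751654400, 1769472, 53084160, 18393661440, 17496, 2519424, 139968, 19595520, 4608, 12288, 3072, 46080,
    110592, 600, 216, 3456, 432, 3456, 864, 3888, 10368, 1728, 6912, 93312, 155520, 42, 32, 128, 384, 384, 27, 162,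
    324, 40, 60, 22, 72, 72, 288, 96, 576, 1152, 144, 96, 288, 864, 13, 14, 30, 32, 54, 36, 108, 20, 21, 22, 96, 48,
    30]

theorem chkF22 : chk F22.dat (irows (mkRows F22.rowA F22.rowB)) (prows (mkRows F22.rowA F22.rowB)) [] csF22 stF22
    (ini F22.dat [1, 2, 3, 4, 5, 6, 7, 13]) bdF22 = true := by decide +kernel

theorem okTF22 : okT F22.dat (mkRows F22.rowA F22.rowB) = true := by decide +kernel

theorem bndsF22 : Unif F22.td ∧ Bnds F22.td bdF22 := by
  have := F22.fin22
  have := Fintype.ofFinite Spor.Fi22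
  have h1 := one_of_bnd F22.mass (bnd_of_chk F22.mass (irr_mkRows F22.tab)
    (ms := [[(1, 3), (315, 12), (224, 24)], [(1, 13)]]) (L := bF22) (by decide +kernel)) (by decide +kernel)
  exact ⟨unif_of_one F22.mass _ (by decide +kernel) h1,
    bnd_run F22.mass.1 (inh_of_okT F22.mass okTF22) (rw_of F22.mass F22.tab okTF22) (bnds_ini F22.mass h1) chkF22⟩

end Cfsg.Agent.N2.SpK
end

-- part: N2/SpK/Suz_mg
section
set_option linter.all false
open scoped Cfsg.Agent.FastGrp

-- part: N2/SpK/SuzB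
section
/-!
# N2 (S3519), the sporadic rows: bounds for the centralizers in `Suz` (helper26)
-/

set_option autoImplicit false
set_option maxRecDepth 100000

namespace Cfsg.Agent.N2.SpK

open Cfsg Cfsg.Agent.TAB Cfsg.Agent.TAB.Eng Cfsg.Agent.TAB.Use Cfsg.Agent.TH.Spor Cfsg.Agent.TAB.Sm2
open Cfsg.Agent.TwoF.SpO

/-- the certificates -/
def csSuz : List (ℕ × List (ℤ × ℕ)) :=
    [(0, [(1, 14)]), (1, [(1, 2)]), (1, [(1, 1)]), (1, [(1, 36)]), (1, [(1, 28)]), (0, [(1, 13)]), (0, [(90, 10),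
    (35, 15), (1, 31)]), (1, [(1, 15)]), (1, [(1, 4)]), (1, [(1, 31)]), (1, [(1, 33)]), (1, [(1, 35)])]

/-- the steps -/
def stSuz : List St :=
    [.cm 2 0 11, .cm 2 1 34, .cm 3 0 26, .cm 3 1 4, .cm 3 2 14, .cm 5 3 34, .cm 5 0 9, .cm 7 2 14, .cm 7 4 4,
    .cm 7 4 34, .cm 8 0 8, .cm 8 2 34, .cm 8 2 14, .cm 9 5 9, .cm 9 6 9, .cm 10 6 29, .cm 10 2 14, .cm 11 0 11,
    .cm 11 2 4, .cm 12 0 13, .cm 12 5 5, .cm 13 0 13, .cm 13 6 13, .cm 15 7 6, .cm 15 7 31, .cm 15 1 4, .cm 16 0 16,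
    .cm 16 6 9, .cm 16 7 14, .cm 17 5 17, .cm 17 6 9, .cm 18 6 22, .cm 18 6 13, .cm 19 6 19, .cm 20 8 14,
    .cm 20 6 9, .cm 21 3 14, .cm 21 1 4, .cm 21 2 34, .cm 22 6 19, .cm 23 2 34, .cm 23 2 4, .cm 24 0 12, .cm 24 9 4,
    .cm 24 4 34, .cm 25 2 14, .cm 25 5 9, .cm 25 2 34, .cm 26 0 7, .cm 26 4 34, .cm 26 2 14, .cm 27 0 27,
    .cm 27 2 34, .cm 28 2 14, .cm 28 2 36, .cm 28 2 4, .cm 29 0 29, .cm 29 6 13, .cm 30 10 14, .cm 30 1 4,
    .cm 30 4 34, .cm 32 11 4, .cm 32 2 14, .cm 33 5 24, .cm 33 2 4, .cm 35 4 14, .cm 35 2 6, .cm 35 4 34, .pw 3 2,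
    .pw 8 2, .pw 8 3, .pw 10 2, .ds 10 3 1 0, .pw 12 2, .ds 16 3 1 0, .pw 21 2, .pw 23 2, .ds 23 3 1 0, .pw 25 2,
    .pw 32 2, .cm 11 4 13, .cm 24 4 13, .cm 33 2 10]

/-- the bounds -/
def bdSuz : List ℕ :=
    [448345497600, 3317760, 6144, 432, 34992, 40, 3240, 288, 48, 11, 28, 128, 20, 15, 300, 72, 13, 21, 45, 36, 54,
    54, 288, 128, 96, 40, 144, 96, 3456, 84, 384, 161280, 1296, 1536, 1800, 46080, 9797760]

theorem chkSuz : chk TAB.Sz.dat (irows (mkRows TAB.Sz.rowA TAB.Sz.rowB)) (prows (mkRows TAB.Sz.rowA TAB.Sz.rowB)) [] csSuz stSuz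
    (ini TAB.Sz.dat [1, 4, 6, 14, 31, 34, 36]) bdSuz = true := by decide +kernel

theorem okTSuz : okT TAB.Sz.dat (mkRows TAB.Sz.rowA TAB.Sz.rowB) = true := by decide +kernel

theorem bndsSuz : Unif TAB.Sz.td ∧ Bnds TAB.Sz.td bdSuz := by
  have : Finite Spor.Suz := Nat.finite_of_card_ne_zero (by rw [TAB.Sz.mass.1]; decide)
  have := Fintype.ofFinite Spor.Suz
  have h1 := one_of_bnd TAB.Sz.mass (bnd_of_chk TAB.Sz.mass (irr_mkRows TAB.Sz.tab)
    (ms := [[(90, 10), (35, 15), (1, 31)]]) (L := bSuz) (by decide +kernel)) (by decide +kernel)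
  exact ⟨unif_of_one TAB.Sz.mass _ (by decide +kernel) h1, bnd_run TAB.Sz.mass.1 (inh_of_okT TAB.Sz.mass okTSuz)
    (rw_of TAB.Sz.mass TAB.Sz.tab okTSuz) (bnds_ini TAB.Sz.mass h1) chkSuz⟩

end Cfsg.Agent.N2.SpK
end

-- part: N2/SpK/Suz
section
/-!
# N2 (S3519), the sporadic rows: the multipliers for `Suz` (helper26)

An element which commutes with an outer automorphism lies in a type which is one class.
-/

set_option autoImplicit false
set_option maxRecDepth 100000

namespace Cfsg.Agent.N2.SpK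

open Cfsg Cfsg.Spor Cfsg.Agent.TAB Cfsg.Agent.TAB.Eng Cfsg.Agent.TAB.Use Cfsg.Agent.TH.Spor
open Cfsg.Agent.H714.S8.SuzFam Cfsg.Agent.H123.Cls Cfsg.Agent.H123.Cls.SuzDat
open Cfsg.Agent.OddHalf.Table.SuzRep (ψ ψ_injective)
open Cfsg.Agent.OddHalf.Table.SuzGraph (T)
open Cfsg.Agent.OddHalf.Table.SuzNets (nT)
open Cfsg.Agent.Lib.BitNetSimple (appF force force_eq)

theorem suz_rat {τ : MulAut Suz} (hτ : ∀ g, ψ (τ g) = T * ψ g * T⁻¹) {g : Suz} (h : IsConj (τ g) g) :
    RatT TAB.Sz.td (TAB.Sz.td.ty g) := by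
  have h1 : ∀ y, TAB.Sz.td.ty y = TAB.Sz.td.ty g → IsConj g y := fun y hy => by
    obtain ⟨σ, rfl, -⟩ := fam_gal g y (by rw [← TAB.Sz.sw_sw (fam g), ← TAB.Sz.td_ty, ← hy, TAB.Sz.td_ty, TAB.Sz.sw_sw])
    rcases KFacts.SuzOut.out_two τ σ with ⟨n, hn⟩ | ⟨n, hn⟩ | ⟨n, hn⟩
    · exact absurd hn.symm (H323.SuzOut.τ_outer hτ n)
    · rw [← hn]
      exact isConj_iff.2 ⟨n, rfl⟩
    · rw [show σ = τ * MulAut.conj n by rw [hn]; group, MulAut.mul_apply]
      exact h.symm.trans (τ.toMonoidHom.map_isConj (isConj_iff.2 ⟨n, rfl⟩))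
  exact fun x y hx hy => ⟨1, by rw [pow_one]; exact (h1 x hx).symm.trans (h1 y hy)⟩

/-- the representative commutes with the product of a word and of the outer involution -/
noncomputable def suzC (i : ℕ) (n : List ℕ) : Bool :=
  force ((D.map fun x => x.1).getD i 0) fun P => chkL 7 n && allN (fun p => force (lk 11 P p) fun q =>
    Nat.beq (lk 11 P (evw 11 gens n (appF nT p))) (evw 11 gens n (appF nT q))) 1782

theorem suz_word {i : ℕ} (hi : 1 < i ∧ i < 37) {n : List ℕ} (h : suzC i n = true) (k : ℕ) :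
    RatT TAB.Sz.td (TAB.Sz.dat.pwf i k) := by
  obtain ⟨τ, hτ⟩ := H323.SuzOut.exists_τ
  obtain ⟨y, hy⟩ := TAB.Sz.inh i hi.2
  have h1 : fam y = i := by
    rw [← TAB.Sz.sw_sw (fam y), ← TAB.Sz.td_ty, hy]
    exact (if_neg (by omega)).trans (if_neg (by omega))
  obtain ⟨h2, _, ⟨g, rfl⟩, h3, -, b, hb, h4⟩ := fam_spec y
  rw [suzC, force_eq, Bool.and_eq_true, ← h1, List.getD_eq_getElem _ _ (by rwa [List.length_map]),
    List.getElem_map] at h
  have h5 : ∀ p : Fin 1782, (T p : ℕ) = appF nT p := fun p =>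
    (H323.SuzOut.ev_fin T p).symm.trans (H323.SuzOut.ev_perm OddHalf.Table.SuzGraph.okT p.2)
  have h6 := ev_tab n (chkL_iff _ _ h.1)
  have h7 : IsConj (τ g) g := isConj_iff.2 ⟨SporadicRecognition.SuzOrder.el (n.map gn), ψ_injective (by
    rw [map_mul, map_mul, map_inv, hτ, mul_inv_eq_iff_eq_mul, ← mul_assoc, mul_inv_eq_iff_eq_mul]
    refine Equiv.ext fun p => Fin.ext ?_
    have h7 := (allN_iff _ _).1 h.2 p p.2
    rw [force_eq, ← h3, ← h5, ← h5, ← h6, ← h6, ← h3] at h7
    exact (Nat.eq_of_beq_eq_true h7).symm)⟩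
  have h8 := suz_rat hτ (g := g ^ k) (by rw [map_pow]; exact h7.pow k)
  rwa [TAB.Sz.td.pow, TAB.Sz.td_ty, ← fam_conj hb h4, ← TAB.Sz.td_ty, hy] at h8

open Cfsg.Agent.OddHalf.Table.SuzRep (pn pn_perm oT) in
private theorem suz_of (R : Lib.PermNet.Net) {i : ℕ} {n : List ℕ}
    (h : band (Nt.chkG 1782 11 4 [R] [(D.map fun x => x.1).getD i 0]) (band (chkL 7 n)
      (Nat.beq (Nt.appW (Nat.pow 2 11) 4 [pn nT] [0] (Nt.appW (Nat.pow 2 11) 4 SuzNet.ns n
          (Nt.appW (Nat.pow 2 11) 4 [R] [0] (Nt.idP 11))))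
        (Nt.appW (Nat.pow 2 11) 4 [R] [0] (Nt.appW (Nat.pow 2 11) 4 [pn nT] [0]
          (Nt.appW (Nat.pow 2 11) 4 SuzNet.ns n (Nt.idP 11)))))) = true) : suzC i n = true := by
  delta suzC
  rw [force_eq, Bool.and_eq_true]
  generalize (D.map fun x => x.1).getD i 0 = P at h ⊢
  obtain ⟨hP, h1⟩ := band_true h
  obtain ⟨hn, h1⟩ := band_true h1
  have hR := Nt.mdl_of (by norm_num) hP
  have hT : Nt.oks (2 ^ 11) [pn nT] = true := band_eq.2 ⟨oT, rfl⟩
  have eT : ∀ p, appF nT p = Nt.wp [pn nT] [0] p := fun p =>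
    (Lib.BitNetSimple.appF_eq _ _).trans (pn_perm OddHalf.Table.SuzGraph.okT oT p).symm
  have lT : ∀ p < 1782, Nt.wp [pn nT] [0] p < 1782 := fun p hp => by
    rw [← eT, Lib.BitNetSimple.appF_eq]
    exact (OddHalf.Table.SuzGraph.okT.lt_iff p).2 hp
  have h4 : ∀ q < 1782, lk 11 P q = Nt.wp [R] [0] q ∧ Nt.wp [R] [0] q < 1782 := fun q hq =>
    hR.tab 0 Nat.one_pos q hq
  have h5 : ∀ q < 1782, evw 11 gens n q = Nt.wp SuzNet.ns n q ∧ Nt.wp SuzNet.ns n q < 1782 := fun q hq =>
    SuzNet.mdl.ev hq hn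
  have lt : ∀ {q}, q < 1782 → q < 2 ^ 11 := fun hq => lt_trans hq (by norm_num)
  have h2 : Nt.appW (2 ^ 11) 4 [pn nT] [0] (Nt.appW (2 ^ 11) 4 SuzNet.ns n (Nt.appW (2 ^ 11) 4 [R] [0] (Nt.idP 11))) =
      Nt.appW (2 ^ 11) 4 [R] [0] (Nt.appW (2 ^ 11) 4 [pn nT] [0] (Nt.appW (2 ^ 11) 4 SuzNet.ns n (Nt.idP 11))) :=
    Nat.eq_of_beq_eq_true h1
  refine ⟨hn, (allN_iff _ _).2 fun p hp => ?_⟩
  have a1 := lT p hp
  have a2 := h5 _ a1
  have a3 := h4 _ a2.2
  have b1 := h4 p hp
  have b2 := lT _ b1.2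
  have b3 := h5 _ b2
  rw [force_eq, eT, eT, b1.1, a2.1, a3.1, b3.1, Nat.beq_eq]
  refine hR.eq_of (lt a3.2) (lt b3.2) fun c hc => ?_
  have h3 := congrArg (fun x => Nat.testBit x (2 ^ 11 * c + p)) h2
  rwa [Nt.testBit_appW hT hc (lt hp), Nt.testBit_appW SuzNet.mdl.ok hc (lt a1), Nt.testBit_appW hR.ok hc (lt a2.2),
    Nt.testBit_idP (lt a3.2), Nt.testBit_appW hR.ok hc (lt hp), Nt.testBit_appW hT hc (lt b1.2),
    Nt.testBit_appW SuzNet.mdl.ok hc (lt b2), Nt.testBit_idP (lt b3.2)] at h3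

private noncomputable def nt8 : Lib.PermNet.Net := Nt.bn 11 [0x61240caa9bde1d8c5aad949d8f405893e58b040d35a1257bf105dfbaaf8b75d7844e6ffec6a5e6adc34df6249094899d9d180841acdb09956889ffbd8f0c44bb63e32ee09cce0669dba239836fe12df00a9940205261d6380cd21d3cd74f650284cafdb167d1f72eb311b0f984eaa1e591d2a437cf6715c5b5b68fad6a20d5b061240caa9bde1d8c5aad949d8f405893e58b040d35a1257bf105dfbaaf8b75d78453ab3d0e09509c8f53c249fd054790735de1ff24336a9b1b460ece89dc7358d36547b66ce1a28e872a9fbbc2d6953d7e81ca976826034c11721ec2a49d843b6f99501f5ddcac2c5a74beb1e3eb4a1a99b9203ac027c6672d43523e12ac50f4,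
  0xd712275a84492c634d789546182780f158528944c5b4bb6a241b88adf4cb000c94231fdacc8efa3fde26666bb9a64cd9f20d3f711e918c8be27b54be467fa5e0961223f0844d386b45dc91c61567d870fc598941c4b4bf1a451e87a5dbc030cb1471b99f9ef95c78f82300705001a7d701ea517c80c84795905caae0b50b05021f4820d153c062edc45c9eaffc9053d700fec7fd2a23118cb11802a366c3a027889fc508b424c7c96ea7b54a3015275befad714ff42d4d432cfbd941ae939fbf0983f18073e122ce654edfadec1dd69f0afa4f1fe07bdb0cbffa02e736e72027b1065c0a8fcab7b8943deb495f6a4248914d92fd5a5b6845e2c1d7626f044f32,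
  0x262baf2aa337af05c98008b2f54e002468158907da5df6d98c188b8addb15a91a209ace8a13a866a8ffd8877e62c58a7bc8e0d02bbcd63f8590dc61ae1307a80c1258727ff02302dfc23210bd46a33ca8eedfd57425aba26fa9dfdd7db82fc15c18d5b276dcae4ad04a86b97f67277c0ebc8d96e6110de01c2792d3f5ea734e2d4a24b4daf1fd926dd3de0c7149491f17de5bb69b1d7ad0811e42b623f6274014fb279c8eebe3b8ad96d7c4e20b712f867b74eed1983660001b429a50fe25600c20b3d01236cb9552d9249c80537c35869bb12f4834dd1b8c313ac717ff6ba88a234ad2ca34a5706aec320b814ed681089aae25455177519893d78342792bd28,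
  0x397f0dc75f615690e8cc9024f056e3243d778d8fde506b9a68c51520d134e3700aa4d6d89a1cdb6a029363192d31584f9ec4b01ddb1ccb2d42039393a8b20d04ebc586e2a9782ee3f5df78d20a84a64aa3c8c34ecb7af5ca5ddfd2782b2eec9cc70c302b0e6194bb87a18d09c98ba99ba40954051761d0752cc053e14e5b3c22e51626de039e006cf3d50c2bf540c70ea716f7ce2a1450e8ce9d2d2cfd70610c33a8d98122e0b0590aa3c7f9cdb7904023b618c720c1b09e88a943d9ed7a98b0f6a36483a06412a4bd60d6d0fe9833a894a2be9525678b813e33b6989cee96d0e026db188220f7ff2d9c97ac336712f88546ebd9e6aadf0e171868f82b23881a,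
  0xda6f8a98eea689d5976f8795bb84ead050e61047499a5fa640ed9445e4d6dbecb2959d03b5028a5282d52b8435000dc67727378d129fc96f524d19201435cc4610c1657c63b6ad283be865395488256e44e33e0d53903232c4e8ee118309711273436215962e073b5a611285b0630990195644d3ceb89b400b5064fac7f98e04e95e1db0aa5292a2d62414f2ab03b22028fa6bea7e2473c278ab4bcf44307cc2aabd1725d1442151aca759a78165250657ce07f359f50a5ed68cf4879da3a8f2e272734c75b9a754e2635a56bdf1cd44f96ec6991638074082d384982688604021996e4cabd637ad2785ce812b4e2fccb65719ba2966473a98148bb899180530,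
  0xc8513b793e6812a234749885817313d0094f10624d438864037f8af002fa01a06563b374512181003c8cb415b4ceea42a82dcd037a3d9542b02fc53236e9ed082515736946f935eab1750cc3d0095000f5fb848d1c599d1a0fe5ea0009c68a80968b80dc7d42ca4cacfd5540aef0214078e4ebac7b45db7cb89ac1d61b3e71ee469c5adb57554bd8f3299919cd0149da6dcf52726ef740748b2071244b2239201445ff39b0604fd8e361d249a2331eb03b4bb331e2c9927c8e310c318eb38e2000aa06e000362ea2e57ffc04606d38689db2e7c090b2d6d8435008005792046057b07216df2126c4a0510ee360c818305506eec3115673c0b5f6fc8db49f7260,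
  0xe53bde0ece5ca26ce2ab7edc924ce81c9c8d988419693d684fcc4f5ca6ca236aa58fe10a0542915286008010086eae647dfe878015a650a66aa13968007e0c0235d6d8826071711056dc9d7cfd0dd87491ee5860ccb062923e881b8a8a83a63eb3fcf95803cb41c0587099e00166bdc074ae31e8ffdacf5c436be94a6660e64059f0f1486bc97b8aad02a9189caef228ad6a876ee77afe4862557054aafde2fc41d9611204613464cdbda4c29602d22a10e294a85c9e0e62da146004315411c07b70e532cc150df0add8acd09cd8b298c9cadd82a13ce09058401150c2f4c0e401eb003a1b7d5ff06dcb8f5c044a1e58f32093123c4c9446dcf94d82dd296340,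
  0xefc804181464ef44ded8d0c8aaa804049c88b0348e041bba39a8bc78fe601d8c0e8ad4c43706ae88b622f23455d0ca4011981d7a7160462aa8a0f7a0b5e0128a8294ba3e506a91dea404d38039e65678f5ec93ded25019342a8abcacc048cc32b4a8284c12469158f9d8b19c777049484a428d161214cee4cfc6a934210442f0cf4af626a78245447c4ab570e8ac010c03a8ff947e44b8882cee80942f4411b0d7d8cada6246e848f81897f66b38c0d081a0367492909c76dde65f4cec7c8220743ae268da28d6a695d06c6a21e8c2820f4020aed0d01b4216382b1a1050301c51042f16bbb2429851becb6242105ac8574696a424744b2443c4293ac0c4b3ac,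
  0x720aacaed8202a22367cdc56d8fa88ba806244b6ee804c54c6d460806e903254d6dc323474984c36e4ee32f46430e2104084d2501210cc98c2b8fc108052d4a288261412125004ce92c85c9ca226e48244a0e0fcf6a04ca0e2a8d6a8a0500c946064e2404ccc9002280cb6c05e0846587488808406fcd040006c76ba661064aa90a6603222722c024e34a27c506802e03890640482dca884e4a82a72baee66aad4dc68b86660443c382080c80822407806ec00f8fc046c16f2c0901af28888987424ec08ce44c040566a88c0000a624246165a441630d6a0662a9c00be46128850b8be30660cc4c07cbc00e0c03082327034cc2490404c00f074ec00a66880b0,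
  0x40a028e8c4ac0844cac2644c0e2046c00a8e2a40ea0a2804240e880804000028ceace00ec00408404ce0c4ca0c000040ce244800844a608088ece0046800a8422c20a44002462cc0a8200e8a44c8c4ac600cce808200062c840a6820c0c4e004aa4c8e80ce40e6088e6a0880ca8802464c0c0cc84a244820a80c02aca484aa82004c68e248a6288a2a2000c6e4800a0060208a08e2c000a8c0888e0c608042084c84480cea04c02ce48a4e8084404248848004c4868a248c6264460864e802444aec48a008c206a0048e4c02ce800080ac0c20e22c4e04a44a28e448080842206e40ea4004a8c8404c28a0c88044808e8c40a040c0006e0ee8ca0c480c8c0a4e,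
  0x1151510404401054111404501410110414141501401440014011544410001414110111451145010544410414405540101101500011111140515450415501404441410140104410110400104050145404044041551400114150115101040454014150450414114450141450004041411054040010411411445001410110114110105151145444401144010541110145110154151111041145041010444054101155144051400401111045101451004540415011411141110411401011440045101401410145154401001154441100550141041144011101011454411051404441140145501140054404510551411500151001410100014014551100040144154]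

private noncomputable def nt11 : Lib.PermNet.Net := Nt.bn 11 [0x4d908bb691e1f30d9799dd834d04056aa20d87bf700d723e9fd814796d0a24980f3fa5f3c5d8bc9415fe3266e95084cb60afedabc4d9ff7381ee95cf883c22ef7edf58602ff897669147f8d601b39d5ff512e3b962839c03f0d7534740626c159c99b21279fbf004be89022947a47280c6b0e54b655b6f4acab644ac54fc8edb4d908bb691e1f30d9799dd834d04056aa20d87bf700d723e9fd814796d0a24980f0a5557c288a9cce99a08b1648fd6d9b35e1f786b79f75ac5e177165f3264124c62991bde5e9ae01f2187c5f1818bccf98a565438a0dd76cab892e06711d8c45cfa55cde005f89b1b812b66a784447ff8dde2d1e0259f7900c87b350c79db60,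
  0xccb4c1da1edbf036f6b8d45b76ed2a37c5c6aeea96b17960e435c56faff1469fb90576dfe5632db63b66207764ddc017bc95045fe4afd7b459b9cd54da5327508034c24c8f1a0233e13814d97be92e37e7cfab4eb6b8397c7f6dc136eaf1660fb311cf14c22e15cdf19979010342c3cb52b6055977307bf990c0e717cf19810090329567e7276f5e480e1f0f77953df589a47b20eef536eff8b78f7f1a4ac2119aa8e98f2bd20cf3cd4cbc070d93f3ef7cf4db04f203bed2707820db564a41e4a07bd16689356bde08481d2365bc8f74984633606bd7beaef894e4fd98afc1714adbd33912587c464e0abe058247a12aa81707eead5d805c28f341cb1dc1f5ca,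
  0xe6ba162a448b814cde09ea9d1c6eb70504dafafc699c7ffcc463bbcf3b9cb740e29e9c464c00b0755e98365e65e69b74645dfd9f0fb00de8e672faa29337f7c46de90a4adf62c060046584317ec8eb3c97ca1ae21071655806e87da9edd0749c2c3a07ccbf025a680ee15013f7cc7ebe97f24d69203663d5037a7120f0d2540430c41d847aefb89c9e9bddaec89b18cf5123235389c4e786aff99c3ec0632dc3a0a538ed36ded43c9691ef9e4aba42dbc4f132538816c6683759b26fc8a334f07b8dcd418cb116a49cb683aad09e1d531e7f002ff6d4741df347e104914cebc1bb6b9758883f16b737e2e17ad2763f513b0e2c35e826b19c90278b80550d9b00,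
  0x8f1c676e1d3b85e64e9a8682363668aade50fe0b163a846a0d83e681184e3ce03c729566b6366e52e2a810c91ba4c920fe28154ff93e7c09dd7c02e3d432e0819f353db05327b3d971eb56d20d62e2818f1dace6d341e50842cd34c0852de88ca711e94ea7087861940959e87111c40c06408040bf5239ecc9c299b823519aab8276ad92bd371fad30de4d7fa2fe617b8f24af9cfa4497ad7b5a225785764904c29548074b443e3983dbbd1f557f3015e23058c1cac452cb81bb284464bf970eb9fc42ca1f6e94bfd96a17675e6cf39eb7b3425853af99e8ff4a37657027f34109aac0a7690871026277cbaba9b3c2cbbb0c24d6c80ce832112d62296d84c3c,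
  0x5d3e3ac8d21c57b97fe668a0ce9d1fa07ebd489cda1fd6ba32b3c552529b46a4de7c2b08d6ab28925158e2e7d6f821c0a3a1105b9836e222d28514011ea7a6a04329ab4b8eb207c45829d863763042b434d9992aa53a963a26958d2bf97c80f63f9a2cb8d9cc1271b883f83fd0c802f895d58dc42d661ff7a79d04ec08408fcc10df95a09012b6ea02550680139a94023e33b35933dc283beac38ad9d1e896a82860e2ee772827bc4866476d7026271c4283266ef3e940bd22ab054252f7aa9a10f16727a439b833619647a7ad9dc85ef5b1e2539c43070a417ca2814ecd9708f78c84ad94814bd1f0db14249c113568b729cb61f1690ad6bd3880fd345343d4,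
  0x6f9c04653f0d6daf08c34c5535c3fb25c310bea563fbef23c8a0e44b08ccfc0cf2c424ecbb1c3e45c42d91b12b6fe1401e4a41598e4893ae857098fb96b49b67801460d625316e044fedba0965e99909c30dd81893251a45cdae69068da981c11024d323003e9304784767bc00aa6aa137d1ec08ff18e90f12c252ff16dad80d08505a4dade62801337fe4bdce0f55c524406983a941e78cea55dce2e345ce6e2790e0ef0690e1a360eafa7163c01fe9cafa568851f21206b0039d14b2d4390af72d02e8f7d812cd851b67cef1012d83042cb42d0b6d512c5bb15154d775d84f437defcee344afc0758288927c836c0da92a6e4bd1b2382e5484389a8f53ad0,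
  0xfca2b5a29786d18ee119611a24dca2203f92de984dec41e0c418410847286b1407df853066fe4efc63c246c6aa3ac25aa6a19d0089a9922c917d95ea40fbe3e05bb02f38e89cf80cfcfbbee29eb4474cd15e468abd9184f8168d562a409c75349290fa944adb62dc845dc0c05f8f5d4c93b2c70ab68e320497ae35a607f317ee64af6c0ad6084408f745d26e1b6f5a9a47242554ab8d7b5c7aec6a20cc61edb01e34ae06342e313c18b570b8198c492ce94cdd04612c582677941db8d3291310467abf1a212772ecc0500000ed09a92894f090ba322fb024ec4600a0b11c21da1fd78bcc103438f6c296f0f2910a87b217b241a02a806800a29592488eed0dd6,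
  0xc2654d81990aad29d0cd8d06b6015b60f282cf49c108876e8f6b1a0e7c833aa4ecc9a1c09603c606cac8bc8ff529184a9801238151ce1c4c880960a03064000d9a80a24c3d2c2520e7cd1c0ca62989a40d025bcf55879401e9856faa8b46ef2c4c08a20e2aa0106da94cc58a222b4dc28b4b460c912a7ca2cf486ac43608c80f6046566fb40000e985c55440c1092b8620067f63fdee88048807b7015d07cba261c0c880e4a370269422b2a1d3492e449a8305c1840d3e4a6a4e8a898ee0808bdf4acc85e56ee66ab4af4449cc48d0cb6e244e652906c044808c090a3f4f43410189168f09c7ad0fee8f0c01a226c5aad0c031ca3a235147104b5307b820760,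
  0x88229426026e229e74aefc322400ac78bc20ae6010a2644aa82472c6a8da84a4ea9888a080ac4a7c4436eeb8e0c2f840a08854503090c4f808748caa1222a898c846e8b862fa5000b4deaac470c290a8a28ca8e23a427088282aa29262ae4a227e2a2498f622dc0048c46ed89000da349ca8049802904cca307ca88030e244c0809e12908098f48840a8e49876807002e8743aea6030461c00aa8ce8d4662c326eaa98c048e410062cb69000e6a0d8e818e246c8b024b8701adc2888368e2076d8e4ee2206e2ec0e0004305cc8506a2244c880220040e8c6acc28c1626dc88128000c830e63a6a1c7400889a6ca070308054dcf080ba0a224058f284e45e80e0,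
  0x4086e4e8468c404eaca48e420aa2a0ec2c00c084aacca4e8804284420ac0c460c40842848ae2e0ee6a480660c444ce8088006886882040048048ee4044040c48400aa0c26400ee0e0cc66084ae822c8004408200a068e8242244042c06c06a022a0202880e40400a640a80468400c824a8a4204e244ac480c44ca4080e0640ea8846a6428848a0080eac0c04c0acaec8440e80ec0a08824820cc248460046a8a08a402cc040800800e860a004008084c0ecc086ac0a26a8a24600824a48028048e0cc8c0a26404240486e0c04c008a0ea484088800ea4ac48080a020e048046a08a00c860e2cc0a42a4c68e4c2c0e446a842488e8c006a8e44ace024040ca4e0,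
  0x51044410411441541044044141114515100004011450411015144041444555141001440001141114141501415141440040404101001441410441144141100411441410114150111454511010115445101404015411111410414105404110111441410415110504041144140444414510411140411401500154141100044400141014440115504140141115504044144505141441411414051050401440011414501104450454104501115115051104150154454440141401441041404005401014100510411414400001414051504104110051140014440514504441441140110410141404114045145044110110414410110441444144440440441415014115]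

private noncomputable def nt23 : Lib.PermNet.Net := Nt.bn 11 [0x1725fc46d0019c895895828abc37410866c5958d1d41784e878f488896ce5d60deb4e4d456ace1adbce57be1541c38df7923da7da38ba01bb35c9b88fa5113388d95513e86111444dc212ca949d3201cbd12b8a39aee5c4dff4b121ff04b589809bb0f09135970db8f3856496cb820a4687bcda41545dae18c23db561b2161051725fc46d0019c895895828abc37410866c5958d1d41784e878f488896ce5d60deb2103a60e5937add9d3ab6aed509bbecaa3725fd9bf0e05626367023a4c351fcb65b14cf7bb4801fca1cf4e98dfa004599856dd8ec3db0e0ae61058c132894c964db42bae35e40800e5ceac5047f5510f363358441f2c35ebafc37736425a0,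
  0x40f8b479fbebee435d83a39468287ae2b25b0b1055c366363611220b802f89b0fceb5c4e7edd77ba6dfe185da5d8a98e3c5a656c751e4b7008bce9beef171a6c50dcb079abebea4b4d82a316443e3ae2f41a9f1059821e36b51f6a0382a998907268be7c67284597e0adfbdfe65aead666263ec2837a31ceccf2ce2e2611bcb6bf4c26ad20b5d1367ed81918ff27b0b909d2f0e55174e21f7a2e16860cc624791b469fa2dd83c6fd38609e4797615bfec3bab95cffc3a9fe116cc838fb249c90f746242c2a17b2507df2596cbd2f226e89cab2a7d356e08f4a1e84b025d726fc3b26315d919e6100b3533c3bea5705151fe77e2d80a3f35e91a9f72de40d3e6a,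
  0x6501e9563a217909a379d24ba9f3398cc23630497843aa24eb166e4d927c78f463d9c9628148c502ae7b70c941d25b6c7261bbc42101ce76db83444e101bf9747b37b6a6760b718d0480be3b62c3ee9d0d813c1507f156e839de7d3c5a5b31f363146ea2f21ae8bcd4c138d3d3e02f9c22e1bd7004c02fe9b3febc4096cf13fc9f3b5bc0bb8ac6ef55d5879bd51f659f8c4a1e582ccdd81de76e2c0625f77ee795617f6d9b8054c925a7eb8369bc5d2e1d7a964f4c11bc8095122e424574fa78a484a63cb6dad12d5d319f0d3d811ee6f3482741f9ed09e46a894a0d7bbfc4bb04a7e61548489aeff937076b3fc99f31864e401335cb82840e78302828a606ac,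
  0x846844f835e03937af1623cd02671864947c74ec2562ab3f0c83630992de718083d1fb0689f6c3296218ca11fce598f1d7596911d46ee7ce728ceb098acb1c98a3738b65258a05420c285a7dcc80a875e65363071192a9c67eed2a9d404389f0027969d5b4073a93c33bd95e1bbedc6db57e5a5b6502a39bc8149516813a88600de2d2f229f57959324c084953cda1ca0dba981b020a9ace7a2892ed5f9f5d12a203536fcfea578c8434795491793a3c3915f1ffcefe97ea860e4c05f4b91c88fd1d25de889950f3d89fd10dd561438b551529c51cab5ec711e6c4639f689d88b8faab3ea8d74d74376e0688eb97d683595972b40c7d4d6d168d204c6a976ed0,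
  0x6d22154e3b9c3f1c6f1e3588a01607dc569104b2840499e8001e60fb948424a8c67df278f72d2961de7a765d43f36138e76eda9c8a7d28f4a6af5a1c57793a3c5fc024c11e98adae51c564657b0de402e0e5e38578a3c925ae43c6edccb66b28741c155d95580489e57e411014fd818074b9d2f5d593f077f39c971ec6efa27471373bb0002939d13e574607804e3572eb321de4cb3d4402fb522725a92f87943515725e04b1601c354b035ea60f42382e1d9795806c62144c5fb404a868c1643e1bd7c074ed6b703be388ca05c44f48f954fabedc15feb5b940979ef74b6f042c92b3d3d09892c8bd30b2279aa1f2888cad7971bb38d25d694abb01f964c400,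
  0xfb8d33855a6f3b0a96736e81b8620bc8fbf7188cff9fb885e1c4a105e1e6208901a46968e0f48a4bc6b68983665ab8adaed24814aeeae206752a490814157845905a0a87980d92cca776d3a396a298821b71c31e3a56e38287255fca177ccc0f1a9430eb8a2d3049d330b1397a4df1c43351acf05238ae48eac5e4018a1595e3ed3a2212cb1485ce2c9bfb78e850e0043904ba47bf05ab07f4da95463038582ce0b87786d4783e8f44207a9d4e525a8ab8f21556cb701725cb1e9335ef3a35ec339a8e69bb16c56ed4bee20f57a604ed084defdeee6b7ea9a5440bab25003185ca66bfa78af723269e840e9d82842d472a8f8f9b5467030e43c9d84e238cc42,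
  0xa56c962e9b4c231263bbb1e244025082af4397c25c511ab20d2d0c24a832aa224b1b439a706e64ac41bd938c5ea35b280f208d30f3e733a6764cc1da3dd8c4b0716c1ce8d2147284a16cd054bf82fd0eaf86c54460294c9843c450f453a84cb265cfe440282b10501f25064ae77be21c420e022819e71b08440dd4083624f46415e72d60d43c4cb81aafc25ad76cf4e4c408f7b0b4c5cfba5868f1745ae64a9c67243228a954096001b8111678e379e0a90ebbfce128c0281d0a7762b57a9f644d246090bca03c02b955295c046e401cbbaaad4ca0035306f607de449a1018144d5064520b098aa854b12574b870b9f044719b58c3ee4222ff027dd42aba6228,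
  0x16ae17da081c1a922fd4b23088eef4ac35b224209e94942419a06020ee2a5608c2d82fa02802ebd08ba43ec2cb6c9a1a4a4a071474f421b4a7367602ddaca5d0a980367238bc98c8b6b0765e0a2629d436f4925ad20c3a86858472fa5140fac8b512a5b4f7fe6008f5581a12a3ec64c446403834d09046ac86c644d45944435c4c4cb660782afefcd1160c784bdc6200e09849386d3287b0b79a74dc4016248c7d5c0054088a54f4709815304206ef681804d348a3303f0ceaa2907ad06831027880c94417243350b8944544b588ca7899aeb6c4773292905478837222e6828897d62926c4549340f9f873a0e3e2dfe46f68075edcfaff7ae3b8800298508dc0,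
  0xc0760422c85010c080d8505240c808aa047454e880ec44f8ba0044cc482c9844bac802aaca02b612f2ac644a52661c2208f63a56a0de1c84c82220ac22c41038b4cc6440403ad81c305c701c84d2260c88420854c292c018d46622241828e8d6a068c830d8dc3a44d05e50c4804830dcee804c78440c844eda2c4458000048fc2220802c30108a005452d8a428d848d052aad454b854bef8ba60ba9ed04c4490ea103680222e986c643834f02644f8a898ec54dc1a644822826800e4204eee2a70d00cc0001a10b822362a74724286509836b6aa68dcf8b0ac8a80ecd840660214e65c2838b8628ad8641228083064aad290762ad0ea701e68a6424468802232,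
  0x202608c460228008208ece8000a8024a800aa4a680c42e400804048400e0a44024ec8ea86028a84a824c488a2a4c4600aa688040a8422e0846a648208c86048ac4040e00000648e40ac0c4840a80acc042ae2808408800824c62044006808408860c4a088c40284a0480e2080c0080ea2ac28ec04cee6e8e6e800448004e4a0a4cc40c620ecae0800cc0c06e0060080c648084404ca04040848c488400804068c00424048a48ce202ac2e04c0e0c406e8c0882488a0a0200888c42c62648a4c8e044c2c06aae00c04008c0a8262ce0e6a8802ccaea0e8ac8608e06a4ece024a8e406068402e46048ae08c842200008420a48864062a26c84e8ea84408a000282,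
  0x40144154104401004101140144450444405410444451144005000000401111101011011410154111515015144145414114441001400141050411114054140451504004100001041414104044440540040144444101541401514145500440505001140110145011140050114554415141414404510541410114044055054111440155011401544404405140411445011045101410114114410155151041505010511140000104114014544144041505411504541001144110014504414440111440500140111411110145514041111114450544041454444140041444114040104104010011154010115401014001450154050405114115154041011014040154]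

private noncomputable def nt26 : Lib.PermNet.Net := Nt.bn 11 [0x46c1b3541701e8b0875554b8c0ceddc1bd035b67055d882bbe1d60e81e8a6350ab42988be40806aa3af8ed41d35eaeb826d6f5cbe5499f6878f5732caf66b6fc298d5bb16e47b4f949daa8906d4cff899fd468b3f58aa012911c578f1af9e0c0be1d8e8514821502f98e1c170d5d4445a4c8d8a631ca02a6ac9e56cbc85d2bf146c1b3541701e8b0875554b8c0ceddc1bd035b67055d882bbe1d60e81e8a6350ab65b4dfa2c78ed426804f5faaa1edadf1681536c12288237f3d0895cbfea5d2a5236cf4012c0fe76f298f9c3adba3e947f82fec0b67bcd2d6131d339abfdbd8c7d485eec61eb921edd703a8df732a7416d927d79a84e10055471d2571f20280,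
  0x63a48f442cfc9f430b665ae096d1e62627d5780a86d970cbf05674910c6c551ca31cc231a1358d3f0da084dabc3e863658ffdf667f4441aac8181067848c11e025e42f542ffdfff308725e405691aee623d7732b8380f8ebf85614b908ec741c884de4e603f9c4af2858df61cbbdf16513ebb40f76f7863d765695b0ce65012e76ef3636c3ef38bc9a20249362d7b5dec80a2e3b935979c2d1a4fac03a7b4d62d589e77d976865d437fb4b98040477d416a3f6a52f777d98d4cf24a04dced990d7fd72be2ba32abad2a80e9452c795da8a168abb8b797856d126f9c0ba1a5161819a30ce317ef9a9eac155a8021b517de242c42c4f00bcdf80cdd20108ce0d00,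
  0x6d74ece507dc856fb322d5c9cb02677d4335584fab63604e84c2962d45556aec4f55faf1296d220d360595e1898dc0bafd350a0f28bf008da89df61d4f391bf49538f74758296df8dfe647df91f81bd0bb418a5b8c451081861b813ecffec152cfeae42b0c2885e8cce666c4f09e0680aa61da4af51e1e9906268110116580601664337490cec054a652028c344b9e27a2a76460fc006c3dddc27dfa2b54395313473155b980e6d9bc708ecd468fba2d28c54ceaf721003f9dc4d7fc1a1cbc1c9cd1eeb2d76b5f6900b17dcc0387fbe3de414c5cdf665effa12239ad32e1ec589cc32a1a17e54c6551dfe48a92b6bbf0b854b9c0bfe42fd3e5d0ada8b7815e68,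
  0x1230c0b4867bad307ca2278c945b4d3c38f4c1b4a32bbdffdef2f3459d0517cc3308023612c0daaac47d0319dec7bb169049af220584b42807627f1b682f1e14293aa75b23335f8de0bfc31705f55809ed3974ca3a1a5f2d729800e1b55718488eaaf5e15ab0f5586c10c0ce1f842e31de327ea56d71f758da985447fc8516d2230f063705c78e125c64ead46989715fa33c0e2c96758445c0a4cdd570fc5cf413669d07e30a7637e3adf146ece2218045ba152868cc6d7112844c82c6a730c835c8645aa5f44590137d7288cb3bdff21c704c82b314c8b53e875c804caa676e049de6043e8d23e5f0f674032d44961d44b9e22c7abfe274d5a5be430904b620,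
  0x1eb1d271d0cca44f16b1ce15dd1dae2277187be1817c8c88d96deb208fe188e8eac5c3cf30cd44656b87e681084781b456278a10a1abe7137c2286d06723c850bf4ac5f391d10d14b16380c1cdfa0354b925e21c14bde6463527c33314b327f4d26dcf8041ad2ea686a4ceb9f76deabe1a923be17797bf8e7a0f00c0518227a856fbe1921c46f51454e7a211636edae8b991ea1081e57160b971e48e695d4cc43e5f55d4a6c2ff5a7fff5c674564b88092b00eb98ba420f891a41e2cb251369c5b53c45eced1fa917bf9635eb8f4f24065b858059d1156ec3568748fb8e196ac905886176b68080cdc728f7fa5089830cf7347cedd4ea8c5ae7f46a2797e8c40,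
  0xc11ef651300b100f981657062855d10bd459b863bb88af64756b6f841622f2882e14f9f9c87738061e3b7f261dbb292929407e024b638a20045812c8048dd2cb7611f64c7aa9a6cfcb35dd6f4b05a96bc4cea706e282948e58a3f837881771c3c04474d70df0f4ed674c0c766d174ccc5de2a18824bea185a9e5edf468db6be9e42ea6116cae76839032a0f6f136d02b3583a06b21ab800c89a67df49a8d3282fd32e9c467b39003327c9e4a102ecf25bc2a389c0ba030a91dc2972812b99047cc503033be185845f6c98ea6f0c9652f4b374af8c628468cf126200e6b63d1261d3018735e551580f630964474e596452906de19afa6fec8f1e3ae6cf089ef4,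
  0x4c246e60700231ca33053b709ab1f47239d438787a0d78d036805aa058d41134db0e8980e7a6820ab1701100a45a454ad9b0909633b5c1f4bc0e9d58cfce5b8e0dda597285591620780b92628a021b968b2059468f22c5c0048909a8e026e9a4d752d100fa5bb620c50ce760b9f05800308a70129a153e0053d0a0c257008b00288a48428bb49090a6becea446da70a0a00c92b0548bd4a83446dc66a0529a20475cd1c4416260e0219600f43b98af1acc44485a9666b6c28068b254aa2df51c29c42f40d81a7df4537a041863a9e7e073decb3894b094742f0819248060152ebea5f2a405ca3750c65ed65afc39740ac2c8635ec642844a5814383844a14510,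
  0xf594f4f0344895da94063d2cea84faecccc604041c283f00fb884000064c1834387c0f405b5a68042cb83a90ec9cf5a6c484f6482eacea1af6e23832d694e16428b068a2e7e6d450191048a4823016c6737272ac7aa0a40c94b486c28a04c54ebcfed0f0151ca322e80c3d7af0c064c8e9bc747cb62a56d0f3c2cb20dec0e860d4b0a454ec2cebe0c6c234d0d6fe2774946cfefe8c802a10b32ad3dac3b05d0a8ccc39faa7a41ca400603b08995a20309612128081001c1e46743d480988661a0c60aa0c39a4759c0108cf4cc8003c106322a1105818462a20aefcdeb0289f9028482b44cd62eeac808ec4d007146f1c80a405882860feba84a0235ca3a6e40c,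
  0x50228caaf8d8e690388a9c5c92402af01428aed4c854183cbc16e4541070986ecc040884829860b054562048401a30bcc8ca4044dc60601c9c987a6844f2ccd0ba64428020f860c47040b8e41064f6405cba266080a2282e640040f24eea88745426888400084468302a6c804004042848707644043220ec304230f0e4726c40ec086420d8a6d02a908c166828145002c8ce40e40804f41a00d0f000b0bcb460a0a084328cec3022108474a206e81c22104e2854404864b29c5444ea346420c85008222020489828befefcc088e644d810e2a00042906e9e183254e0c4c6402e601440a048844e1c68cc22f630fc1488aa1a004c7600508c40c8ac7c54a8b6dc,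
  0x6e40e006c04684c28408c40eca0e40cce0040e0488608c4c02c4020406cc8c48244840aec00008cc4a2488200e80e0e6e420642ea88e6a26ee8a000808404884e48c2400e0620ac0440466c404c8c00084c024e888c80a8a86044844ea080e8c0ea808ca6408c0848806c46c4ae4c44eeaa0480ca48c840c06cc486ec02084a8a86a80ce80e04c082204a0acc04a0008a48ac8420aa480a6604ee820caaac888004cc0240402e408648ca4e80c44ca200e400ca04880a0eaa4a462cc4ee8a22042ca020acc68800464a00e20aa06ca804008c2648eee02c02046ca2084e00e420c0ce6282c2cc04802aa400c4a800c84860400a20c00a84c8008e0208024068c,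
  0x44011001015445041101510104415451111544114040045114454100040414044100444110500014114014440405401415101441140444141401144004101004151140001041440041044145115140000040104501540114140404014141011104140401100451141404051551404041144101001401100401050144001040444014144415404410114045400014010545140411014114441551144001414155500505104004101441104010040511100150411400114041451441410414411501110104414451054145014114011140550141154411411515010110444011044554444010110454544110045140001144140414040045044004444050104114]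

private noncomputable def nt27 : Lib.PermNet.Net := Nt.bn 11 [0xdcb7a351b2b2e32254e657bab122198084f3b5b62f2450512cc731cb039d52d6033d4874ad598c2224c8bf7d5d548286a9f01d1dbeba5670ff53ab104aba87a78467b9b97208b582e6238da76f668bb38e99daf1d94b2e24a2d37b081302be94e87509facb37b432653df08d192907be290b6b42cc43af9c82fa57ca251652fadcb7a351b2b2e32254e657bab122198084f3b5b62f2450512cc731cb039d52d603350224c8e8cd7c684773fa7726304ef92e8137932facda825383ea06a2a5c23d0b79d1a081639a5ce8f3f792fdd40c80478dc65bada9a5587007013b7044532dfc098290b7ff39ee9cd3c556e0ffaaf839fef9d091a602ff3276b37ea9b98c,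
  0xdd44e3d5146ec8ca71563346244c532d714a9c270ea50d4f59408fa8e43dd3faaf32f64eb625f189f26800d6d1df8d88971ff2472cee2132a12736989194a6d209f5e095346c29ea619065ee146e43ad7599ad950e854d1e7d47afa3e6a8d3baae0c1ec1b293876448120f0d2591a7a0a89593655f837452c9658f8c9a33a46c526ccfc89737e852a930203849b3cb803bea55692c4f6b4f6a5740ee44be08ef8cd8cdf35c7efaf7c15a4fc8661e5f5ecb42fc5d32123d90254a103d070d753172249f469b33f8038130a07803fb2f8939e65720acccee4bbb5788fef0bca9c740ad0ed27307eb7440f8566dc510c65762b86f1a41e961984f24c400698f7204,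
  0x660e4de86c089e1859d0030d8fd1cafc2f86a19ff14f156e080115f386850304e31d4c7dfee83d1008e476b32e99d27c1f8eb8bcfb4e40714187b87a208041c0533474dde4c942b4457f2d4de1200379ee04d6e9cecf220b366dc403e5717380019ef8b407e8e291d3f96c4eb8338f7966b0a23372a9523b3847944ffcfc0316477ffed41718c8f75d7d9573eae7d39413fe87382d7f219c7260f0618c1d3108273bf7945815c8327645155fa510fc8c53ba981075e58e50d81bb49998ff3580e4979229a00943cf7be1bb943ec051090202ef05c4c53894903e062c3ea7b9c346948a34e584508ecfa7f412d8499173b21baf56c5cc939c919ee219198777ca,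
  0xcc39ba02d2b41ee039e66fbaf79402a46770b233907413980de06e8bd508d07c58dbf6b5bde1ef6702e3e555c3211acd5dda3431bb60e524c6b3979df62140480d3081d11bd94365e73941baa141f35b63a1f6013480034575d6f422d9c1e94899f1f5b5e9ca2619d88417aa291dac308b58ca97a3cc4969768f5c21294868645a80826ed7e199f5f63452d54b2217ee4ae2532603db3503b71142f80fb9a7e4ea637060b182932e53d2489d409e604c032776453dc5c7e770e102151c7a6b68bec7f28e59746f5b80f803ed1910e794d1c3328598bc664d82765bfd575196c43f2498633e8fb23acfeca4f74ec93625aca590ac3f5c34fb86a4b19257b99e10,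
  0x9ca18400a8bb24dadda394d34e15b4ca1a9644509b7c0c3e33b563491b600f3ed42a0ecb98c05aa6c19b6bcabccd7d6280142de1bb90be1be5269df79ec0fc3e783cc9a4cf1b1651e034ad789e9a46a09bc4e3be4cee8a70dde6b716fd5729f8c2f473653b76e70682b0f07fe81e2370f354291f9375d55ff75d17558af5610e616b928da9d36c7f5b7e555dad02c94a45481c6dd72a1dd025228c3c0a66213053886df342ca07a2a1086f530aeea054fb1d96e5a4c9870df71dd1e5acc9c804778d701aa6108860209fd20657508cd2edb4f7ce7ffc5f242a6400df333dc97e3bfe3456618015183f5c8ca250a8abfccdd102f92156e795625820fd244dd094,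
  0x17dd60b6318f618648f3e122a457f56c3f6b4cf5bfe04ecc5343149870e29180e102be637166d94a8199bc8282b59d041d737b483177ea0af8191129cac3a8ae68b9b359f22bb18a2ee3d93288b291e05be33703cbd0071a8bdd91384a9723b24a73a1c1ca1d61e03be4cb28bb8250885498867150981a4c38ddd34c22e1e5d495c95ee6c5d81272a70deee027156f129e0f0f32da111114f326bc3831362c4848c61af8e0448a8c9a41ede6d1a241c41e73caab157300ac996fe2fc2a4be4385e4bd2c6384fd05cd4669b9d357a928cabcb89ff6d6e92eac5184c1e4610650022e859a50bd1f9980fd0a8cd1b506aa4b53886b53d399cf4202a89f5f66f1250,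
  0x34fd74e4030033448226ce000f938ec897a037201c6e1d6498309880bcb6b360378e23ec5acf58a650eb37e8214424c8818635f63302bfa60470c6f0b33089ae8220d2b2041b3782185d0ccc9a834c70c8609854fe5d6a54972590b24357c0f09641544897c796e493e620266fd64dbc0d923da03c953a422406142689a38b32cab902d8729002003574ac24e87daa24a55beb5c336a7352ea12fa00214a1780cb0a292ae70b8d36e9f9ca50cb4d4a503210381ca47008dc768ddce0d742df4cd6a5e0b49da279ac0ab54ea4e71aeb3855b5f94046bc16fcd85406585fce5486a2fb02b0492370b8fd07422837cd500084e974c87630551884f5b474830868d4,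
  0x480a01184854682060c0f7c6426aaf2e2b88b2a2bda8687ae1f0af84aa2e2e909720d18053c863000002efa0678ab2b209dc1c580480f2d23052b5986030a69c1a084898a830a030a0200d64a8d0ed0c56245af0331e2f30dd5031121182e9d8ff306172bd38673666f2e6d68ac246305720e672d9c8a280322c6cb05150cb287ce40e6c430285c04554b46c80e8c1d85a102f3c223254cca090245eccc6bd0464e422e0794210d8f8306020465e4d00c8c2c7ce4d20ba448fe865b0ccc08b008c2c36f045c4a60019f8382a79428d80245412b885505594baa6747c091281ac9810e2ec6300d722a9605744ae5612ec0120508480402a4a8620892294804cec,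
  0x262844d8b260a86c2c205014225280c4802200f08868c82a60448020c20c86ea88d262064832f8ee4022cea8289c88c4667054007464feee44009a98103880288cc4643218b088e62450faf82ed4a8fa46ec20dca8d4b6acb69e10a4302842881050d4024890dc0060722046642a28e2341010a092dccab26488eae210d4904ec83a08a4d8dcc890666640046482a44600dcb2201224bec8221c227444ea44d00aaa46e00e9cc03cc4f4401e003062b8a608809480c8faceb8ae0e4c6c26d422183680d2dc24ba8814aa10eedc52c80a82dac02a621476b658caaa106698e21010d4a8e47420a6fecec02438e8ac34a0a054e024f42810e4f422f4e23a90704c,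
  0xe0c8eea04c8820424c004e40004486ca008e640204484a6ee4c0880c8c48c6ca00ca4848a6c800800480ce8a8e8e0a4804e80c00c280480c8e40488a0ca20e20a040e08c2e88e204e0048ec42484a2808448828488644084a48060808c820cae44448e40a0ac6000ac400c8aa62ec0e08c0ac486c6ee000c48026400424ae80cc0000a0864864a8404480a4a02cc84a80e04a0a44e4aa0c608c0c0e080c40a6ce200ac882a8ac8a8080a0ce6ac4a00eca402cc4800846a4a2e2a8284804a042e864a48e0e22824200408408062ae24a8064a8286e0a4c4080468ae282aee8c2e8420ea6a0ee0c8c4844c86820ce66a6e4c040a4e80804e842c88e0c0eca48484,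
  0x40514114415011041500441045140414000410440440544111001101104451041504044511050441010141444411011041401504014051040440511141145110440040051110411044544410101041051010014440401451445011051101104110450410441410014450011441440444110441145414141010141041014145014005015140111140011051440454154141504144141415440105044044504140444110101441141404140014141105454404404544001144114151410504041111040015414510140041014141144010411154444010504144444145411401111414144104415014454114414114411440100451044001154505150441145514]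

theorem suz8 : suzC 8
    [1, 5, 1, 2, 3, 2, 1, 5, 6, 1, 2, 3, 2, 5, 3, 4, 1, 2, 3, 2, 1, 0, 1, 5, 2, 0] = true :=
  suz_of nt8 (by decide +kernel)

theorem suz11 : suzC 11
    [2, 5, 1, 2, 3, 2, 4, 3, 6, 1, 0, 1, 2, 6, 1, 0, 1, 5, 3, 4, 3, 2, 3, 1, 2, 1, 0, 1, 5, 6] = true :=
  suz_of nt11 (by decide +kernel)

theorem suz23 : suzC 23
    [2, 1, 4, 3, 2, 1, 0, 3, 2, 1, 6, 1, 2, 3, 4, 2, 3, 1, 2, 0, 1, 5, 0, 1, 2, 3, 1, 2, 3, 4] = true :=
  suz_of nt23 (by decide +kernel)

theorem suz26 : suzC 26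
    [1, 0, 2, 1, 4, 3, 6, 5, 1, 2, 3, 2, 4, 3, 6, 2, 1, 5, 2, 3, 2, 1, 6, 4, 2, 0, 1] = true :=
  suz_of nt26 (by decide +kernel)

theorem suz27 : suzC 27
    [1, 3, 2, 3, 4, 5, 1, 2, 3, 2, 1, 3, 2, 4, 3, 6, 2, 1, 5, 4, 3, 2, 1, 6, 5, 2, 1, 6, 3, 4, 3, 2] = true :=
  suz_of nt27 (by decide +kernel)

theorem inK_suz {K : Type} [Group K] (h : Spor.IsoSuz K) :
    InK K TAB.Sz.dat (Sm2.mkRows TAB.Sz.rowA TAB.Sz.rowB) [(20, 2), (21, 2), (32, 2)] := by
  obtain ⟨e⟩ := h
  have : Finite Suz := finite_of_mass TAB.Sz.mass (by decide)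
  refine InK.of_equiv ⟨_, TAB.Sz.mass, TAB.Sz.tab, bndsSuz.1, kap_of_bnds TAB.Sz.mass TAB.Sz.inh bndsSuz.1 bndsSuz.2
    (X := [8, 2, 11, 23, 26, 27, 30]) ?_ [(5, 5, 1), (17, 3, 1), (18, 5, 1), (24, 3, 1)] (Y := [(21, 2)])
    (List.forall_mem_singleton.2 (KapT.of_le TAB.Sz.mass (U := 18) (fun x hx => ?_) (by decide) (by decide +kernel)))
    (by decide +kernel)⟩ e
  · simp only [List.forall_mem_cons]
    exact ⟨suz_word (by decide) suz8 1, suz_word (by decide) suz8 3, suz_word (by decide) suz11 1,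
      suz_word (by decide) suz23 1, suz_word (by decide) suz26 1, suz_word (by decide) suz27 1,
      suz_word (by decide) suz27 3, List.forall_mem_nil _⟩
  · have h1 := TID.Suz.cent_mul x
    rw [← TAB.Sz.sw_sw (fam x), ← TAB.Sz.td_ty, hx, show SZ.getD (TAB.Sz.sw 21) 0 = 49816166400 from rfl] at h1
    omega

end Cfsg.Agent.N2.SpK
end

-- part: N2/Sp2/Md
section
/-!
# N2 (S3519), sporadic groups: commuting central elements of Sylow subgroups in a permutation model (helper44)
-/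

set_option autoImplicit false
set_option linter.unusedSectionVars false

namespace Cfsg.Agent.N2.Sp2.Md

open Subgroup Cfsg.Agent.SB.Spor Cfsg.Agent.N2.Tg.PE

/-- sequences -/
abbrev Sq : Type := List (ℕ × ℕ × ℕ)

/-! ### the statements -/

/-- commuting conjugates of a `2`-central involution -/
def Two (G : Type*) [Group G] (F : ℕ) : Prop := ∃ z : G, orderOf z = 2 ∧ 2 ^ F ∣ cn z ∧ ∀ E : Set G, E.Nonempty →
  (∀ x ∈ E, IsConj z x) → (∀ x ∈ E, ∀ y ∈ E, x * y = y * x) → ∃ g : G, g ^ 60 ≠ 1 ∧ ∀ u ∈ closure E, g * u * g⁻¹ ∈ closure E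

/-- commuting conjugates of a `3`-central element -/
def Three (G : Type*) [Group G] (F r : ℕ) : Prop := ∃ z : G, orderOf z = 3 ∧ 3 ^ F ∣ cn z ∧ r ∣ cn z ∧
  ∀ Y : Subgroup G, IsPGroup 3 Y → (∀ c, (∀ y ∈ Y, c * y = y * c) → c ∈ Y) → (∃ x, IsConj z x ∧ ∀ y ∈ Y, x * y = y * x) ∧
    ∃ g : G, g ^ 60 ≠ 1 ∧ ((∀ y ∈ Y, g * y * g⁻¹ ∈ Y) ∨ ∀ x, IsConj z x → (∀ y ∈ Y, x * y = y * x) → g * x = x * g)

theorem cn_map {G K : Type*} [Group G] [Group K] (e : K ≃* G) (x : K) : cn (e x) = cn x :=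
  (Nat.card_congr (e.toEquiv.subtypeEquiv fun y => by
    simp only [mem_centralizer_singleton_iff, MulEquiv.toEquiv_eq_coe, EquivLike.coe_coe, ← map_mul, e.apply_eq_iff_eq])).symm

theorem conj_map {G K : Type*} [Group G] [Group K] (e : K ≃* G) {x y : K} : IsConj (e x) (e y) ↔ IsConj x y :=
  ⟨fun h => by simpa using e.symm.toMonoidHom.map_isConj h, e.toMonoidHom.map_isConj⟩

theorem Two.congr {G K : Type*} [Group G] [Group K] {F : ℕ} (h : Two G F) (e : K ≃* G) : Two K F := by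
  obtain ⟨z, h1, h2, h3⟩ := h
  obtain ⟨z, rfl⟩ := e.surjective z
  refine ⟨z, e.orderOf_eq z ▸ h1, cn_map e z ▸ h2, fun E k1 k2 k3 => ?_⟩
  obtain ⟨g, k4, k5⟩ := h3 (e.toMonoidHom '' E) (k1.image _) (by
    rintro _ ⟨x, hx, rfl⟩
    exact (conj_map e).2 (k2 x hx)) (by
    rintro _ ⟨x, hx, rfl⟩ _ ⟨y, hy, rfl⟩
    rw [← map_mul, ← map_mul, k3 x hx y hy])
  obtain ⟨g, rfl⟩ := e.surjective g
  refine ⟨g, fun k => k4 (by rw [← map_pow, k, map_one]), fun u hu => ?_⟩
  rw [← MonoidHom.map_closure] at k5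
  obtain ⟨v, k6, k7⟩ := k5 _ ⟨u, hu, rfl⟩
  exact e.injective (k7.trans (by simp) : e v = e (g * u * g⁻¹)) ▸ k6

theorem Three.congr {G K : Type*} [Group G] [Group K] {F r : ℕ} (h : Three G F r) (e : K ≃* G) : Three K F r := by
  obtain ⟨z, h1, h2, h3, h4⟩ := h
  obtain ⟨z, rfl⟩ := e.surjective z
  refine ⟨z, e.orderOf_eq z ▸ h1, cn_map e z ▸ h2, cn_map e z ▸ h3, fun Y k1 k2 => ?_⟩
  obtain ⟨⟨x, k3, k4⟩, g, k5, k6⟩ := h4 (Y.map e.toMonoidHom) (k1.map _) fun c hc => by
    obtain ⟨c, rfl⟩ := e.surjective c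
    exact ⟨c, k2 c fun y hy => e.injective (by simpa using hc _ ⟨y, hy, rfl⟩), rfl⟩
  obtain ⟨x, rfl⟩ := e.surjective x
  obtain ⟨g, rfl⟩ := e.surjective g
  refine ⟨⟨x, (conj_map e).1 k3, fun y hy => e.injective (by simpa using k4 _ ⟨y, hy, rfl⟩)⟩, g,
    fun k => k5 (by rw [← map_pow, k, map_one]), k6.imp (fun k y hy => ?_) fun k u hu hc => e.injective ?_⟩
  · obtain ⟨v, k6, k7⟩ := k _ ⟨y, hy, rfl⟩
    exact e.injective (k7.trans (by simp) : e v = e (g * y * g⁻¹)) ▸ k6
  · simpa using k _ ((conj_map e).2 hu) (by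
      rintro _ ⟨y, hy, rfl⟩
      simpa using congrArg e (hc y hy))

variable {G : Type*} [Group G] [Finite G] {n : ℕ} {M : PM G n} {lk : ℕ → ℕ → ℕ} {mk : (ℕ → ℕ) → ℕ}
  {ver : (ℕ → ℕ) → ℕ → (ℕ → ℕ) → Bool} {B : List ℕ}

theorem conj_into {p F : ℕ} (hp : p.Prime) {S X : Subgroup G} (hc : Nat.card S = p ^ F)
    (hN : ¬ p ^ (F + 1) ∣ Nat.card G) (hX : IsPGroup p X) : ∃ c, ∀ x ∈ X, c * x * c⁻¹ ∈ S := by
  have := Fact.mk hp
  obtain ⟨Q, hQ⟩ := hX.exists_le_sylow
  obtain ⟨c, h1⟩ := MulAction.exists_smul_eq G Q ((IsPGroup.of_card hc).toSylow fun h => hN (by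
    rw [← S.card_mul_index, hc, pow_succ]
    exact Nat.mul_dvd_mul_left _ h))
  refine ⟨c, fun y hy => ?_⟩
  have h2 : (MulAut.conj c) • y ∈ ((c • Q : Sylow p G) : Subgroup G) := smul_mem_pointwise_smul _ _ _ (hQ hy)
  rw [h1] at h2
  exact h2

/-! ### fixed points -/

/-- the number of fixed points -/
noncomputable def fixc (f : ℕ → ℕ) (n : ℕ) : ℕ → ℕ :=
  Nat.rec (fun c => c) (fun i ih c => cnd (Nat.beq (f i) i) (frc (Nat.succ c) ih) (ih c)) n

theorem fixc_eq (f : ℕ → ℕ) (n : ℕ) : ∀ c, fixc f n c = c + ((Finset.range n).filter fun i => f i = i).card := by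
  induction n with
  | zero => exact fun _ => rfl
  | succ i ih =>
    intro c
    have e : fixc f (i + 1) c = cnd (Nat.beq (f i) i) (frc (c + 1) (fixc f i)) (fixc f i c) := rfl
    rw [e, Finset.range_add_one, Finset.filter_insert, frc_eq]
    split_ifs with h
    · rw [h, Nat.beq_refl, cnd_true, ih, Finset.card_insert_of_notMem (by simp)]
      omega
    · rw [Bool.eq_false_iff.2 fun k => h (Nat.eq_of_beq_eq_true k), cnd_false, ih]

theorem fix_conj {g h : G} {f f' : ℕ → ℕ} (h1 : M.Rf g f) (h2 : M.Rf h f') (hc : IsConj g h) :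
    fixc f n 0 = fixc f' n 0 := by
  have key : ∀ {g h : G} {f f' : ℕ → ℕ}, M.Rf g f → M.Rf h f' → IsConj g h → fixc f n 0 ≤ fixc f' n 0 := by
    intro g h f f' h1 h2 hc
    obtain ⟨c, rfl⟩ := isConj_iff.1 hc
    rw [fixc_eq, fixc_eq, zero_add, zero_add]
    refine Finset.card_le_card_of_injOn (M.act c) (fun i hi => ?_) fun i hi j hj e => ?_
    · simp only [Finset.coe_filter, Finset.mem_range, Set.mem_ofPred_eq] at hi ⊢
      refine ⟨M.lt _ _ hi.1, ?_⟩
      rw [← h2 _ (M.lt _ _ hi.1), ← M.mul _ _ _ hi.1, inv_mul_cancel_right, M.mul _ _ _ hi.1, h1 _ hi.1, hi.2]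
    · simp only [Finset.coe_filter, Finset.mem_range, Set.mem_ofPred_eq] at hi hj
      rw [← PM.act_inv (M := M) c hi.1, e, PM.act_inv c hj.1]
  exact le_antisymm (key h1 h2 hc) (key h2 h1 hc.symm)

/-! ### the Sylow subgroup -/

theorem evc_zero (gs : Sq) : evc M lk gs 0 = 1 := by
  induction gs with
  | nil => rfl
  | cons g gs ih =>
    show evc M lk gs (0 / g.1) * M.el lk g.2.1 ^ (0 % g.1) = 1
    rw [Nat.zero_div, Nat.zero_mod, ih, pow_zero, one_mul]

theorem exists_evc {A R : Sq} (h : PCok M lk (A ++ R)) {y : G} (hy : y ∈ Mg M lk (A ++ R)) :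
    ∃ k < prodO R, ∃ c < prodO A, y = evc M lk R k * evc M lk A c := by
  obtain ⟨m, c, h1, h2, -, rfl⟩ := (h.nf y hy).append
  rw [← List.append_nil R] at h1
  obtain ⟨_, k, rfl, h3, -, rfl⟩ := h1.append
  exact ⟨k, h3, c, h2, by rw [one_mul]⟩

/-- commuting functions -/
noncomputable def cmB (B : List ℕ) (f g : ℕ → ℕ) : Bool := eqB B (fun q => f (g q)) fun q => g (f q)

/-- `g x = y g` -/
noncomputable def cjB (B : List ℕ) (g x y : ℕ → ℕ) : Bool := eqB B (fun q => g (x q)) fun q => y (g q)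

theorem cj_of (hB : M.Base B) {g x y : G} {fg fx fy : ℕ → ℕ} (h1 : M.Rf g fg) (h2 : M.Rf x fx) (h3 : M.Rf y fy)
    (h : cjB B fg fx fy = true) : g * x * g⁻¹ = y :=
  mul_inv_eq_iff_eq_mul.2 (hB.eq (h1.mul h2) (h3.mul h1) h)

theorem cm_iff (hB : M.Base B) {g x : G} {fg fx : ℕ → ℕ} (h1 : M.Rf g fg) (h2 : M.Rf x fx) :
    cmB B fg fx = true ↔ g * x = x * g :=
  ⟨hB.eq (h1.mul h2) (h2.mul h1), fun h => hB.eqB_of_eq (h1.mul h2) (h ▸ h2.mul h1)⟩

/-- an element with `y ^ p = 1` is in the list `L` or conjugate to a member of `cls` -/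
noncomputable def leaf (lk : ℕ → ℕ → ℕ) (B : List ℕ) (p : ℕ) (gs : Sq) (L cls : List ℕ) (rdf : ℕ → ℕ) (f : ℕ → ℕ) (s : ℕ) : ℕ :=
  cnd (eqB B (itr f p) idf) (frc (rdf s) fun sym => frc (Nat.land sym (nat_lit 127)) fun i =>
    Nat.rec (getK L (nat_lit 0) (fun c => dec lk (fun fr => cnd (eqB B f fr) (Nat.succ s) (nat_lit 0)) gs c idf) i)
      (fun m _ => getK cls (nat_lit 0) (fun c => dec lk (fun fr => dec lk (fun fm =>
        cnd (cjB B fm f fr) (Nat.succ s) (nat_lit 0)) gs m idf) gs c idf) i) (Nat.shiftRight sym (nat_lit 7))) s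

theorem leaf_spec (hB : M.Base B) {p : ℕ} {gs : Sq} (hg : GsIn M lk gs) {L cls : List ℕ} {z : G} (hz : z ^ p = 1)
    (hc : ∀ c ∈ cls, ¬ IsConj z (evc M lk gs c)) (rdf : ℕ → ℕ) (y : G) (f : ℕ → ℕ) (s : ℕ) (hf : M.Rf y f)
    (h : leaf lk B p gs L cls rdf f s ≠ 0) : IsConj z y → ∃ c ∈ L, y = evc M lk gs c := by
  intro hy
  have h0 : y ^ p = 1 := by
    obtain ⟨c, rfl⟩ := isConj_iff.1 hy
    rw [conj_pow, hz, mul_one, mul_inv_cancel]
  unfold leaf at h
  rw [hB.eqB_of_eq (hf.pow p) (h0 ▸ PM.rf_one), cnd_true, frc_eq, frc_eq] at h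
  generalize Nat.shiftRight (rdf s) (nat_lit 7) = m at h
  generalize Nat.land (rdf s) (nat_lit 127) = i at h
  cases m with
  | zero =>
    rcases getK_cases L (nat_lit 0) (fun c => dec lk (fun fr => cnd (eqB B f fr) (Nat.succ s) (nat_lit 0)) gs c idf) i with
      h2 | ⟨c, hc, h2⟩
    · exact absurd h2 h
    obtain ⟨fr, h3, h4⟩ := dec_one (β := ℕ) hg c
    rw [h4] at h2
    exact ⟨c, hc, hB.eq hf h3 (cnd_ne fun k => h (h2.trans k)).1⟩
  | succ m =>
    rcases getK_cases cls (nat_lit 0) (fun c => dec lk (fun fr => dec lk (fun fm =>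
        cnd (cjB B fm f fr) (Nat.succ s) (nat_lit 0)) gs m idf) gs c idf) i with h2 | ⟨c, hc', h2⟩
    · exact absurd h2 h
    obtain ⟨fr, h3, h4⟩ := dec_one (β := ℕ) hg c
    obtain ⟨fm, h5, h6⟩ := dec_one (β := ℕ) hg m
    rw [h4, h6] at h2
    exact absurd (hy.trans (isConj_iff.2 ⟨_, cj_of hB h5 hf h3 (cnd_ne fun k => h (h2.trans k)).1⟩)) (hc c hc')

/-- data for a Sylow subgroup -/
structure Dt where
  p : ℕ
  F : ℕ
  cR : List ℕ
  cA : List ℕ
  rp : ℕ → ℕ
  lev : List (ℕ × List ℕ)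
  z : ℕ
  L : List ℕ
  cls : List ℕ
  rc : ℕ → ℕ

/-- the check of a Sylow subgroup -/
noncomputable def syl (lk : ℕ → ℕ → ℕ) (n : ℕ) (B : List ℕ) (d : Dt) (gs : Sq) (fz : ℕ → ℕ) : Bool :=
  cnd (Nat.blt (nat_lit 0) (pcChk lk B d.rp gs (nat_lit 1)))
    (cnd (Nat.ble (d.p ^ d.F) (chain lk (gs.map fun g => g.2.1) n (fun _ => true) d.lev []))
      (cnd (Nat.beq (prodO gs) (d.p ^ d.F)) (cnd (eqB B fz idf) false (cnd (eqB B (itr fz d.p) idf)
        (cnd (allL gs fun g => cmB B (lk g.2.1) fz)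
          (cnd (frc (fixc fz n 0) fun a => allL d.cls fun c => dec lk (fun f => cnd (Nat.beq a (fixc f n 0)) false true) gs c idf)
            (Nat.blt (nat_lit 0) (enum lk (leaf lk B d.p gs d.L d.cls d.rc) gs idf (nat_lit 1))) false) false) false)) false)
      false) false

/-- what the check gives -/
structure Sy (M : PM G n) (lk : ℕ → ℕ → ℕ) (d : Dt) (gs : Sq) (z : G) : Prop where
  pc : PCok M lk gs
  card : Nat.card (Mg M lk gs) = d.p ^ d.F
  oz : orderOf z = d.p
  cz : Mg M lk gs ≤ centralizer {z}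
  cov : ∀ y ∈ Mg M lk gs, IsConj z y → ∃ c ∈ d.L, y = evc M lk gs c

theorem cnd_not {c t : Bool} (h : cnd c false t = true) : c = false ∧ t = true := by
  cases c
  · exact ⟨rfl, h⟩
  · exact absurd h (by simp [cnd_true])

theorem syl_spec (hB : M.Base B) {d : Dt} (hp : d.p.Prime) {gs : Sq} (hg : GsIn M lk gs) {z : G} {fz : ℕ → ℕ}
    (hz : M.Rf z fz) (h : syl lk n B d gs fz = true) : Sy M lk d gs z := by
  have := Fact.mk hp
  obtain ⟨h1, h⟩ := cnd_and h
  obtain ⟨h2, h⟩ := cnd_and h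
  obtain ⟨h3, h⟩ := cnd_and h
  obtain ⟨h4, h⟩ := cnd_not h
  obtain ⟨h5, h⟩ := cnd_and h
  obtain ⟨h6, h⟩ := cnd_and h
  obtain ⟨h7, h⟩ := cnd_and h
  have h8 := pc_of_chk hB hg h1
  have h9 : z ^ d.p = 1 := hB.eq (hz.pow _) PM.rf_one h5
  rw [frc_eq] at h7
  refine ⟨h8, le_antisymm (Nat.eq_of_beq_eq_true h3 ▸ h8.card_le) (Mg_ge hg rfl h2), orderOf_eq_prime h9 (hB.ne_one hz h4),
    (closure_le _).2 ?_, fun y hy => ?_⟩
  · rintro _ ⟨g, k, rfl⟩
    exact mem_centralizer_singleton_iff.2 ((cm_iff hB (hg g k).rf hz).1 (of_allL h6 g k))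
  · simpa using enum_spec (leaf_spec hB hg h9 (fun c hc k => by
      obtain ⟨f, k1, k2⟩ := dec_one (β := Bool) hg c
      have k3 := of_allL h7 c hc
      rw [k2, fix_conj hz k1 k, Nat.beq_refl] at k3
      exact absurd k3 (by simp [cnd_true])) d.rc) hg 1 idf _ PM.rf_one (ne_of_blt h) y (h8.nf y hy)

/-- the sequence of the first tables -/
noncomputable def tri (p : ℕ) (tl : Sq) (c : List ℕ) : List ℕ → (Sq → Bool) → Bool :=
  List.rec (fun _ κ => κ tl) (fun _ _ ih E κ => List.rec false (fun t E' _ => ih E' fun l => κ ((p, t, nat_lit 0) :: l)) E) c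

theorem tri_spec (p : ℕ) (tl : Sq) (c : List ℕ) : ∀ (E : List ℕ) (κ : Sq → Bool), tri p tl c E κ = true →
    κ (((E.take c.length).map fun t => (p, t, 0)) ++ tl) = true := by
  induction c with
  | nil => exact fun _ _ h => h
  | cons a c ih =>
    intro E κ h
    cases E with
    | nil => cases h
    | cons t E => exact ih E _ h

theorem decF_unif (E : List ℕ) (fuel : ℕ) : ∀ (c : ℕ) (f : ℕ → ℕ), ∃ f', ∀ k : (ℕ → ℕ) → Bool, decF lk E k fuel c f = k f' := by
  have key : ∀ (L : List ℕ) (i : ℕ), (∀ (d : Bool) k, getK L d k i = d) ∨ ∃ a, ∀ (d : Bool) k, getK L d k i = k a := fun L => by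
    induction L with
    | nil => exact fun _ => Or.inl fun _ _ => rfl
    | cons a L ih =>
      intro i
      cases i with
      | zero => exact Or.inr ⟨a, fun _ _ => rfl⟩
      | succ m => exact ih m
  induction fuel with
  | zero => exact fun _ f => ⟨f, fun _ => rfl⟩
  | succ j ih =>
    intro c f
    cases c with
    | zero => exact ⟨f, fun _ => rfl⟩
    | succ m =>
      have e : ∀ k : (ℕ → ℕ) → Bool, decF lk E k (j + 1) (m + 1) f = getK E (k f)
          (fun t => decF lk E k j (Nat.shiftRight (Nat.succ m) (nat_lit 8)) fun q => lk t (f q)) (Nat.land m (nat_lit 255)) :=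
        fun k => frc_eq (Nat.shiftRight (Nat.succ m) (nat_lit 8)) fun c' => getK E (k f)
          (fun t => decF lk E k j c' fun q => lk t (f q)) (Nat.land m (nat_lit 255))
      rcases key E (Nat.land m (nat_lit 255)) with h | ⟨t, h⟩
      · exact ⟨f, fun k => (e k).trans (h _ _)⟩
      · obtain ⟨f', h1⟩ := ih (Nat.shiftRight (Nat.succ m) (nat_lit 8)) fun q => lk t (f q)
        exact ⟨f', fun k => (e k).trans ((h _ _).trans (h1 k))⟩

/-- one environment for two checks -/
theorem ext_and (codes : List ℕ) {k k' : List ℕ → Bool} : ∀ E, ext lk mk codes E (fun E => cnd (k E) (k' E) false) = true →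
    ext lk mk codes E k = true ∧ ext lk mk codes E k' = true := by
  induction codes with
  | nil => exact fun _ h => cnd_and h
  | cons c codes ih =>
    intro E h
    obtain ⟨f, h1⟩ := decF_unif (lk := lk) E (nat_lit 200) c idf
    have e : ∀ κ, ext lk mk (c :: codes) E κ = ext lk mk codes (mk f :: E) κ := fun κ =>
      (h1 fun f => frc (mk f) fun t => ext lk mk codes (t :: E) κ).trans (frc_eq _ _)
    rw [e] at h ⊢
    rw [e]
    exact ih _ h

/-- build the tables -/
noncomputable def setup (lk : ℕ → ℕ → ℕ) (mk : (ℕ → ℕ) → ℕ) (n : ℕ) (B E0 : List ℕ) (d : Dt)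
    (κ : List ℕ → Sq → Sq → Sq → (ℕ → ℕ) → Bool) : Bool :=
  ext lk mk d.cR E0 fun E1 => tri d.p [] d.cR E1 fun R => ext lk mk d.cA E1 fun E => tri d.p [] d.cA E fun A =>
    tri d.p R d.cA E fun gs => dec lk (fun f => frc (mk f) fun t => cnd (syl lk n B d gs (lk t)) (κ E A R gs (lk t)) false)
      gs d.z idf

theorem setup_spec (hT : M.Tab lk mk ver) (hB : M.Base B) {E0 : List ℕ} (hE : AllIn M lk E0) {d : Dt} (hp : d.p.Prime)
    {κ : List ℕ → Sq → Sq → Sq → (ℕ → ℕ) → Bool} (h : setup lk mk n B E0 d κ = true) :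
    ∃ E A R z fz, AllIn M lk E ∧ GsIn M lk (A ++ R) ∧ M.Rf z fz ∧ Sy M lk d (A ++ R) z ∧ κ E A R (A ++ R) fz = true := by
  obtain ⟨E1, h1, h⟩ := ext_spec hT _ _ _ hE.top h
  replace h := tri_spec _ _ _ _ _ h
  obtain ⟨E, h2, h⟩ := ext_spec hT _ _ _ h1 h
  replace h := tri_spec _ _ _ _ _ (tri_spec _ _ _ _ _ h)
  have key : ∀ {E : List ℕ}, (∀ t ∈ E, ∃ g ∈ (⊤ : Subgroup G), M.Rf g (lk t)) → ∀ a,
      GsIn M lk ((E.take a).map fun t => (d.p, t, 0)) := fun hE a g hg => by
    obtain ⟨t, ht, rfl⟩ := List.mem_map.1 hg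
    obtain ⟨g, -, k⟩ := hE t (List.mem_of_mem_take ht)
    exact ⟨g, k⟩
  rw [List.append_nil, List.append_nil] at h
  have h3 : GsIn M lk (((E.take d.cA.length).map fun t => (d.p, t, 0)) ++ (E1.take d.cR.length).map fun t => (d.p, t, 0)) :=
    fun g hg => (List.mem_append.1 hg).elim (key h2 _ g) (key h1 _ g)
  obtain ⟨f, h4, h5⟩ := dec_one (β := Bool) h3 d.z
  rw [h5, frc_eq] at h
  have h6 := hT.mk_spec _ _ h4
  exact ⟨E, _, _, _, _, fun t ht => (h2 t ht).imp fun _ k => k.2, h3, h6, syl_spec hB hp h3 h6 (cnd_and h).1, (cnd_and h).2⟩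

/-- some member of a list -/
noncomputable def anyL {α : Type} (L : List α) (p : α → Bool) : Bool := List.rec false (fun a _ ih => cnd (p a) true ih) L

theorem of_anyL {α : Type} {L : List α} {p : α → Bool} (h : anyL L p = true) : ∃ a ∈ L, p a = true := by
  induction L with
  | nil => cases h
  | cons a L ih =>
    have e : cnd (p a) true (anyL L p) = true := h
    cases k : p a
    · rw [k] at e
      exact (ih e).imp fun _ k => ⟨List.mem_cons_of_mem _ k.1, k.2⟩
    · exact ⟨a, List.mem_cons_self, k⟩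

theorem cnd_or {c t : Bool} (h : cnd c true t = true) : c = true ∨ t = true := by
  cases c
  exacts [Or.inr h, Or.inl rfl]

theorem cnd_of {c t : Bool} (h : c = true → t = true) : cnd c t true = true := by
  cases c
  exacts [rfl, h rfl]

theorem allN_of {n : ℕ} {p : ℕ → Bool} (h : ∀ i < n, p i = true) : allN n p = true := by
  induction n with
  | zero => rfl
  | succ i ih =>
    show cnd (p i) (allN i p) false = true
    rw [h i i.lt_succ_self]
    exact ih fun j hj => h j (hj.trans i.lt_succ_self)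

theorem bad_of (hB : M.Base B) {g : G} {f : ℕ → ℕ} (h : M.Rf g f) (e : eqB B (itr f 60) idf = false) (c : G) :
    (c⁻¹ * g * c) ^ 60 ≠ 1 := fun k => hB.ne_one (h.pow 60) e (by
  have h1 := conj_pow (a := c⁻¹) (b := g) (i := 60)
  rw [inv_inv, k] at h1
  simpa [mul_assoc, eq_inv_mul_iff_mul_eq] using h1)

/-! ### the prime three -/

/-- the check -/
noncomputable def chk3 (lk : ℕ → ℕ → ℕ) (B L : List ℕ) (g y r : ℕ) (E : List ℕ) (A R gs : Sq) (fz : ℕ → ℕ) : Bool :=
  cnd (decF lk E (fun f => cnd (eqB B f idf) false (cnd (eqB B (itr f r) idf) (cmB B f fz) false)) (nat_lit 200) y idf)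
    (frc (prodO A) fun a => frc (prodO R) fun r => dec lk (fun fg => cnd (eqB B (itr fg 60) idf) false
      (cnd (allL R fun t => cnd (allL R fun u => cmB B (lk t.2.1) (lk u.2.1))
        (anyN r fun k => dec lk (fun w => cjB B fg (lk t.2.1) w) R k idf) false)
      (allL L fun c => dec lk (fun f => cnd (cmB B fg f) true (dec lk (fun w => cnd (eqB B f w)
        (allN (Nat.pred a) fun j => dec lk (fun h => cnd (cmB B h f) false true) A (Nat.succ j) idf) false) R
          (Nat.div c a) idf)) gs c idf) false)) gs g idf) false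

theorem three_of (hT : M.Tab lk mk ver) (hB : M.Base B) {E0 : List ℕ} (hE : AllIn M lk E0) {d : Dt} (hp : d.p = 3)
    (hN : ¬ 3 ^ (d.F + 1) ∣ Nat.card G) {g y r : ℕ} (hr : r.Prime)
    (h : setup lk mk n B E0 d (chk3 lk B d.L g y r) = true) : Three G d.F r := by
  obtain ⟨E, A, R, z, fz, hE, hg, hz, S, h⟩ := setup_spec hT hB hE (hp ▸ Nat.prime_three) h
  have hA : GsIn M lk A := fun g k => hg g (List.mem_append_left _ k)
  have hR : GsIn M lk R := fun g k => hg g (List.mem_append_right _ k)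
  obtain ⟨h0, h⟩ := cnd_and h
  have hy : r ∣ cn z := by
    have := Fact.mk hr
    obtain ⟨a, -, f, l3, l4⟩ := decF_spec hE.top (fun f => cnd (eqB B f idf) false (cnd (eqB B (itr f r) idf) (cmB B f fz) false))
      (nat_lit 200) y 1 idf (mem_top _) PM.rf_one
    obtain ⟨l5, l6⟩ := cnd_not (l4.symm.trans h0)
    rw [← orderOf_eq_prime (hB.eq (l3.pow r) PM.rf_one (cnd_and l6).1) (hB.ne_one l3 l5)]
    exact orderOf_dvd_natCard _ (mem_centralizer_singleton_iff.2 ((cm_iff hB l3 hz).1 (cnd_and l6).2))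
  obtain ⟨fg, h1, h2⟩ := dec_one (β := Bool) hg g
  rw [frc_eq, frc_eq, h2] at h
  obtain ⟨h3, h⟩ := cnd_not h
  obtain ⟨h4, h⟩ := cnd_and h
  have h5 : ∀ a ∈ Mg M lk R, ∀ b ∈ Mg M lk R, a * b = b * a := fun a ha b hb =>
    mem_centralizer_iff.1 (closure_le_centralizer_centralizer _ hb) a ((closure_le _).2 (by
      rintro _ ⟨t, k, rfl⟩ _ ⟨u, k', rfl⟩
      exact (cm_iff hB (hR u k').rf (hR t k).rf).1 (of_allL (cnd_and (of_allL h4 u k')).1 t k)) ha)
  have h6 : Mg M lk R ≤ (Mg M lk R).comap (MulAut.conj (evc M lk (A ++ R) g)).toMonoidHom := (closure_le _).2 (by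
    rintro _ ⟨t, k, rfl⟩
    obtain ⟨i, hi⟩ := of_anyN (cnd_and (of_allL h4 t k)).2
    obtain ⟨w, k1, k2⟩ := dec_one (β := Bool) hR i
    rw [k2] at hi
    exact mem_comap.2 (((cj_of hB h1 (hR t k).rf k1 hi).symm ▸ evc_mem R i : _ * _ * _ ∈ Mg M lk R)))
  have h7 := S.card
  rw [hp] at h7
  refine ⟨z, S.oz.trans hp, h7 ▸ card_dvd_of_le S.cz, hy, fun Y hY h9 => ?_⟩
  obtain ⟨c, k2⟩ := conj_into Nat.prime_three h7 hN hY
  refine ⟨⟨c⁻¹ * z * c⁻¹⁻¹, isConj_iff.2 ⟨_, rfl⟩, fun u hu => ?_⟩, _, bad_of hB h1 h3 c, or_iff_not_imp_right.2 fun k1 => ?_⟩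
  · calc _ = c⁻¹ * (z * (c * u * c⁻¹)) * c := by group
      _ = _ := by rw [← mem_centralizer_singleton_iff.1 (S.cz (k2 u hu))]; group
  push Not at k1
  obtain ⟨x, h10, h12, h11⟩ := k1
  obtain ⟨e, k4, k5⟩ := S.cov _ (k2 x (h9 x h12)) (h10.trans (isConj_iff.2 ⟨c, rfl⟩))
  obtain ⟨f, k6, k7⟩ := dec_one (β := Bool) hg e
  have k8 := of_allL h e k4
  rw [k7] at k8
  rw [← k5] at k6
  rcases cnd_or k8 with k8 | k8
  · refine absurd ?_ h11
    have k9 := (cm_iff hB h1 k6).1 k8
    generalize evc M lk (A ++ R) g = b at k9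
    calc _ = c⁻¹ * (b * (c * x * c⁻¹)) * c := by group
      _ = _ := by rw [k9]; group
  obtain ⟨w, k9, k10⟩ := dec_one (β := Bool) hR (Nat.div e (prodO A))
  rw [k10] at k8
  obtain ⟨k11, k12⟩ := cnd_and k8
  have k13 : c * x * c⁻¹ ∈ Mg M lk R := hB.eq k6 k9 k11 ▸ evc_mem R _
  have k14 : ∀ y ∈ Y, c * y * c⁻¹ ∈ Mg M lk R := fun y hy => by
    obtain ⟨i, -, j, l1, l2⟩ := exists_evc S.pc (k2 y hy)
    cases j with
    | zero => rw [l2, evc_zero, mul_one]; exact evc_mem R i
    | succ j =>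
      obtain ⟨u, l3, l4⟩ := dec_one (β := Bool) hA (Nat.succ j)
      have l5 := of_allN k12 j (Nat.lt_pred_iff.2 l1)
      rw [l4, (cm_iff hB l3 k6).2 (mul_left_cancel (a := evc M lk R i) (by
        rw [← mul_assoc (evc M lk R i), ← mul_assoc (evc M lk R i), h5 _ (evc_mem R i) _ k13,
          mul_assoc _ (evc M lk R i), ← l2, conj_mul, conj_mul, h12 y hy]))] at l5
      exact absurd l5 (by simp [cnd_true])
  refine fun y hy => h9 _ fun u hu => ?_
  have l1 := h5 _ (h6 (k14 y hy)) _ (k14 u hu)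
  generalize evc M lk (A ++ R) g = b at l1
  change b * (c * y * c⁻¹) * b⁻¹ * _ = _ * (b * (c * y * c⁻¹) * b⁻¹) at l1
  calc _ = c⁻¹ * (b * (c * y * c⁻¹) * b⁻¹ * (c * u * c⁻¹)) * c := by group
    _ = _ := by rw [l1]; group

/-! ### the prime two -/

/-- a bit -/
noncomputable def bt (m i : ℕ) : Bool := Nat.beq (Nat.land (nat_lit 1) (Nat.shiftRight m i)) (nat_lit 1)

theorem bt_eq (m i : ℕ) : bt m i = m.testBit i := by
  show Nat.beq (1 &&& (m >>> i)) 1 = _
  rw [Nat.testBit, Nat.one_and_eq_mod_two]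
  rcases Nat.mod_two_eq_zero_or_one (m >>> i) with h | h <;> rw [h] <;> rfl

/-- the members of `L` which commute with `f` -/
noncomputable def nbr (lk : ℕ → ℕ → ℕ) (B : List ℕ) (gs : Sq) (f : ℕ → ℕ) (L : List ℕ) : ℕ → ℕ :=
  List.rec (fun m => m) (fun c _ ih m => dec lk (fun h => cnd (cmB B f h)
    (frc (Nat.lor m (Nat.shiftLeft (nat_lit 1) c)) ih) (ih m)) gs c idf) L

theorem nbr_spec (hB : M.Base B) {gs : Sq} (hg : GsIn M lk gs) {x : G} {f : ℕ → ℕ} (hf : M.Rf x f) (L : List ℕ) :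
    ∀ m c, (m.testBit c = true ∨ (c ∈ L ∧ x * evc M lk gs c = evc M lk gs c * x)) → (nbr lk B gs f L m).testBit c = true := by
  induction L with
  | nil => exact fun m c h => h.resolve_right fun k => absurd k.1 List.not_mem_nil
  | cons a L ih =>
    intro m c h
    obtain ⟨u, h1, h2⟩ := dec_one (β := ℕ) hg a
    have e : nbr lk B gs f (a :: L) m = cnd (cmB B f u) (frc (m ||| (1 <<< a)) (nbr lk B gs f L)) (nbr lk B gs f L m) := h2 _
    rw [e, frc_eq]
    cases k : cmB B f u
    · refine ih m c (h.imp id fun h3 => ⟨(List.mem_cons.1 h3.1).resolve_left fun e => ?_, h3.2⟩)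
      rw [(cm_iff hB hf h1).2 (e ▸ h3.2)] at k
      cases k
    · refine ih _ c ?_
      rw [Nat.testBit_or, Nat.one_shiftLeft]
      rcases h with h | ⟨h, h3⟩
      · exact Or.inl (by rw [h, Bool.true_or])
      · exact (List.mem_cons.1 h).imp (fun e => by rw [e, Nat.testBit_two_pow_self, Bool.or_true]) fun h => ⟨h, h3⟩

/-- decode a list of normal forms once -/
noncomputable def decAll (lk : ℕ → ℕ → ℕ) (gs : Sq) (L : List ℕ) : (List (ℕ × (ℕ → ℕ)) → Bool) → Bool :=
  List.rec (fun κ => κ []) (fun c _ ih κ => dec lk (fun f => ih fun l => κ ((c, f) :: l)) gs c idf) L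

theorem decAll_spec {gs : Sq} (hg : GsIn M lk gs) (L : List ℕ) : ∀ κ : List (ℕ × (ℕ → ℕ)) → Bool, decAll lk gs L κ = true →
    ∃ P, κ P = true ∧ (∀ c ∈ L, ∃ u, (c, u) ∈ P) ∧ ∀ e ∈ P, M.Rf (evc M lk gs e.1) e.2 := by
  induction L with
  | nil => exact fun κ h => ⟨[], h, fun _ k => absurd k List.not_mem_nil, fun _ k => absurd k List.not_mem_nil⟩
  | cons a L ih =>
    intro κ h
    obtain ⟨f, h1, h2⟩ := dec_one (β := Bool) hg a
    have e : decAll lk gs (a :: L) κ = decAll lk gs L fun l => κ ((a, f) :: l) := h2 _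
    rw [e] at h
    obtain ⟨P, h3, h4, h5⟩ := ih _ h
    exact ⟨_, h3, List.forall_mem_cons.2 ⟨⟨f, List.mem_cons_self⟩, fun c hc => (h4 c hc).imp fun _ k => List.mem_cons_of_mem _ k⟩,
      List.forall_mem_cons.2 ⟨h1, h5⟩⟩

/-- the decoded elements which commute with `f` -/
noncomputable def nbrP (B : List ℕ) (f : ℕ → ℕ) (P : List (ℕ × (ℕ → ℕ))) : ℕ → ℕ :=
  List.rec (fun m => m) (fun e _ ih m => Prod.rec (fun c h => Bool.rec (ih m)
    (frc (Nat.lor m (Nat.shiftLeft (nat_lit 1) c)) ih) (cmB B f h)) e) P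

theorem nbrP_spec (hB : M.Base B) {gs : Sq} {x : G} {f : ℕ → ℕ} (hf : M.Rf x f) (P : List (ℕ × (ℕ → ℕ)))
    (hP : ∀ e ∈ P, M.Rf (evc M lk gs e.1) e.2) : ∀ m c,
    (m.testBit c = true ∨ ((∃ u, (c, u) ∈ P) ∧ x * evc M lk gs c = evc M lk gs c * x)) → (nbrP B f P m).testBit c = true := by
  induction P with
  | nil => exact fun m c h => h.resolve_right fun ⟨⟨_, k⟩, _⟩ => absurd k List.not_mem_nil
  | cons a P ih =>
    obtain ⟨a, u⟩ := a
    intro m c h
    have h1 : M.Rf (evc M lk gs a) u := hP _ List.mem_cons_self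
    replace ih := ih fun e he => hP e (List.mem_cons_of_mem _ he)
    have e : nbrP B f ((a, u) :: P) m = cnd (cmB B f u) (frc (m ||| (1 <<< a)) (nbrP B f P)) (nbrP B f P m) := rfl
    rw [e, frc_eq]
    cases k : cmB B f u
    · refine ih m c (h.imp id fun ⟨⟨v, h3⟩, h4⟩ => ⟨⟨v, (List.mem_cons.1 h3).resolve_left fun e => ?_⟩, h4⟩)
      rw [(cm_iff hB hf h1).2 ((Prod.mk.inj e).1 ▸ h4)] at k
      cases k
    · refine ih _ c ?_
      rw [Nat.testBit_or, Nat.one_shiftLeft]
      rcases h with h | ⟨⟨v, h⟩, h3⟩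
      · exact Or.inl (by rw [h, Bool.true_or])
      · exact (List.mem_cons.1 h).imp (fun e => by rw [(Prod.mk.inj e).1, Nat.testBit_two_pow_self, Bool.or_true])
          fun h => ⟨⟨v, h⟩, h3⟩

/-- the neighbourhoods inside a decoded list -/
noncomputable def nbsP (lk : ℕ → ℕ → ℕ) (B : List ℕ) (gs : Sq) (P : List (ℕ × (ℕ → ℕ))) (L : List ℕ) :
    (List (ℕ × ℕ) → Bool) → Bool :=
  List.rec (fun κ => κ []) (fun c _ ih κ => dec lk (fun f => frc (nbrP B f P (nat_lit 0)) fun m =>
    ih fun l => κ ((c, m) :: l)) gs c idf) L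

/-- the list of the neighbourhoods -/
noncomputable def nbs (lk : ℕ → ℕ → ℕ) (B : List ℕ) (gs : Sq) (L0 L : List ℕ) : (List (ℕ × ℕ) → Bool) → Bool :=
  fun κ => decAll lk gs L0 fun P => nbsP lk B gs P L κ

theorem nbs_spec (hB : M.Base B) {gs : Sq} (hg : GsIn M lk gs) (L0 L : List ℕ) : ∀ κ : List (ℕ × ℕ) → Bool,
    nbs lk B gs L0 L κ = true → ∃ l, κ l = true ∧ ∀ c ∈ L, ∃ m, (c, m) ∈ l ∧ ∀ e ∈ L0,
      evc M lk gs c * evc M lk gs e = evc M lk gs e * evc M lk gs c → m.testBit e = true := by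
  intro κ h0
  obtain ⟨P, h, p1, p2⟩ := decAll_spec hg L0 _ h0
  clear h0
  induction L generalizing κ with
  | nil => exact ⟨[], h, fun _ k => absurd k List.not_mem_nil⟩
  | cons a L ih =>
    obtain ⟨f, h1, h2⟩ := dec_one (β := Bool) hg a
    have e : nbsP lk B gs P (a :: L) κ = frc (nbrP B f P 0) fun m => nbsP lk B gs P L fun l => κ ((a, m) :: l) := h2 _
    rw [e, frc_eq] at h
    obtain ⟨l, h3, h4⟩ := ih _ h
    refine ⟨_, h3, List.forall_mem_cons.2 ⟨⟨_, List.mem_cons_self, fun c k1 k2 => nbrP_spec hB h1 P p2 0 c (Or.inr ⟨p1 c k1, k2⟩)⟩,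
      fun c hc => (h4 c hc).imp fun _ k => ⟨List.mem_cons_of_mem _ k.1, k.2⟩⟩⟩

/-- the elements which `fg` conjugates into `R` -/
noncomputable def wm (lk : ℕ → ℕ → ℕ) (B : List ℕ) (R gs : Sq) (fg : ℕ → ℕ) (l : List ℕ) : ℕ → ℕ :=
  List.rec (fun m => m) (fun c _ ih m => frc (Nat.shiftRight c (nat_lit 4)) fun e => dec lk (fun f => dec lk (fun w =>
    cnd (cjB B fg f w) (frc (Nat.lor m (Nat.shiftLeft (nat_lit 1) e)) ih) (nat_lit 0)) R (Nat.land c (nat_lit 15)) idf)
      gs e idf) l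

theorem wm_spec (hB : M.Base B) {R gs : Sq} (hR : GsIn M lk R) (hg : GsIn M lk gs) {g : G} {fg : ℕ → ℕ} (hf : M.Rf g fg)
    (l : List ℕ) : ∀ m, (∀ c, m.testBit c = true → g * evc M lk gs c * g⁻¹ ∈ Mg M lk R) →
      ∀ c, (wm lk B R gs fg l m).testBit c = true → g * evc M lk gs c * g⁻¹ ∈ Mg M lk R := by
  induction l with
  | nil => exact fun _ h => h
  | cons a l ih =>
    intro m h
    obtain ⟨f, h1, h2⟩ := dec_one (β := ℕ) hg (a >>> 4)
    obtain ⟨w, h3, h4⟩ := dec_one (β := ℕ) hR (a &&& 15)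
    have e : wm lk B R gs fg (a :: l) m = frc (a >>> 4) fun e => dec lk (fun f => dec lk (fun w =>
      cnd (cjB B fg f w) (frc (m ||| (1 <<< e)) (wm lk B R gs fg l)) 0) R (a &&& 15) idf) gs e idf := rfl
    rw [e, frc_eq, h2, h4, frc_eq]
    cases k : cjB B fg f w
    · exact fun c hc => absurd hc (by simp [cnd_false])
    · refine ih _ fun c hc => ?_
      rw [Nat.testBit_or, Nat.one_shiftLeft, Bool.or_eq_true, Nat.testBit_two_pow, decide_eq_true_eq] at hc
      exact hc.elim (h c) fun e => e ▸ (cj_of hB hf h1 h3 k).symm ▸ evc_mem R _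

/-- the list of the conjugates of `R` -/
noncomputable def wms (lk : ℕ → ℕ → ℕ) (B E : List ℕ) (R gs : Sq) (H : List (ℕ × List ℕ)) : (List ℕ → Bool) → Bool :=
  List.rec (fun κ => κ []) (fun e _ ih κ => decF lk E (fun f => frc (wm lk B R gs f e.2 (nat_lit 0)) fun m =>
    ih fun l => κ (m :: l)) (nat_lit 200) e.1 idf) H

theorem wms_spec (hB : M.Base B) {E : List ℕ} (hE : AllIn M lk E) {R gs : Sq} (hR : GsIn M lk R) (hg : GsIn M lk gs)
    (H : List (ℕ × List ℕ)) : ∀ κ : List ℕ → Bool, wms lk B E R gs H κ = true →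
      ∃ l, κ l = true ∧ ∀ m ∈ l, ∃ g : G, ∀ c, m.testBit c = true → g * evc M lk gs c * g⁻¹ ∈ Mg M lk R := by
  induction H with
  | nil => exact fun κ h => ⟨[], h, fun _ k => absurd k List.not_mem_nil⟩
  | cons a H ih =>
    intro κ h
    obtain ⟨g, -, f, h1, h2⟩ := decF_spec hE.top (fun f => frc (wm lk B R gs f a.2 (nat_lit 0)) fun m =>
      wms lk B E R gs H fun l => κ (m :: l)) (nat_lit 200) a.1 1 idf (mem_top _) PM.rf_one
    replace h := h2.symm.trans h
    rw [frc_eq] at h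
    obtain ⟨l, h3, h4⟩ := ih _ h
    exact ⟨_, h3, List.forall_mem_cons.2 ⟨⟨g, wm_spec hB hR hg h1 _ _ fun c hc => absurd hc (by simp)⟩, h4⟩⟩

/-- inclusion -/
noncomputable def sb (m W : ℕ) : Bool := Nat.beq (Nat.land m W) m

/-- every clique inside `m` lies in a member of `Ws` -/
noncomputable def cov (NL : List (ℕ × ℕ)) (Ws : List ℕ) (d : ℕ) : ℕ → ℕ → Bool :=
  Nat.rec (fun _ m => anyL Ws (sb m)) (fun _ ih C m => cnd (anyL Ws (sb m)) true (anyL Ws fun W => cnd (sb C W)
    (allL NL fun e => pr e fun c N => cnd (bt m c) (cnd (bt W c) true (frc (Nat.lor C (Nat.shiftLeft (nat_lit 1) c)) fun C' =>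
      frc (Nat.land m N) fun m' => ih C' m')) true) false)) d

theorem cov_spec {NL : List (ℕ × ℕ)} {Ws : List ℕ} {P : ℕ → Prop}
    (hP : ∀ c, P c → ∃ N, (c, N) ∈ NL ∧ ∀ e, P e → N.testBit e = true) (d : ℕ) : ∀ C m, (∀ c, P c → m.testBit c = true) →
      cov NL Ws d C m = true → ∃ W ∈ Ws, ∀ c, P c → W.testBit c = true := by
  have key : ∀ m, (∀ c, P c → m.testBit c = true) → anyL Ws (sb m) = true → ∃ W ∈ Ws, ∀ c, P c → W.testBit c = true :=
    fun m h1 h2 => (of_anyL h2).imp fun W k => ⟨k.1, fun c hc => by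
      have h3 := h1 c hc
      rw [← (Nat.eq_of_beq_eq_true k.2 : m &&& W = m), Nat.testBit_and, Bool.and_eq_true] at h3
      exact h3.2⟩
  induction d with
  | zero => exact fun _ => key
  | succ d ih =>
    intro C m h1 h
    rcases cnd_or h with h | h
    · exact key m h1 h
    obtain ⟨W, h2, h⟩ := of_anyL h
    by_cases h3 : ∀ c, P c → W.testBit c = true
    · exact ⟨W, h2, h3⟩
    push Not at h3
    obtain ⟨c, h3, h4⟩ := h3
    obtain ⟨N, h5, h6⟩ := hP c h3
    have h7 := of_allL (cnd_and h).2 _ h5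
    rw [pr_eq, bt_eq, bt_eq, h1 c h3, Bool.eq_false_iff.2 h4, cnd_true, cnd_false, frc_eq, frc_eq] at h7
    exact ih _ _ (fun e he => (Nat.testBit_and m N e).trans (by rw [h1 e he, h6 e he]; rfl)) h7

/-- every subgroup is fixed by one of the permutations -/
noncomputable def subs (Pi : List (ℕ × ℕ)) : Bool :=
  allN 256 fun lo => cnd (allN 8 fun a => cnd (bt lo a)
    (allN (Nat.succ a) fun b => cnd (bt lo b) (bt lo (Nat.xor a b)) true) true)
    (allN 256 fun hi => frc (Nat.add lo (Nat.mul 256 hi)) fun m =>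
      cnd (cnd (Nat.blt m 2) false (allN 16 fun a => cnd (bt m a)
        (allN (Nat.succ a) fun b => cnd (bt m b) (bt m (Nat.xor a b)) true) true))
        (anyL Pi fun e => allN 16 fun k => cnd (bt m k) (bt m (plk 4 15 e.2 k)) true) true) true

theorem subs_spec {Pi : List (ℕ × ℕ)} (h : subs Pi = true) (m : ℕ) (hm : m < 65536) :
    cnd (cnd (Nat.blt m 2) false (allN 16 fun a => cnd (bt m a)
      (allN (Nat.succ a) fun b => cnd (bt m b) (bt m (Nat.xor a b)) true) true))
      (anyL Pi fun e => allN 16 fun k => cnd (bt m k) (bt m (plk 4 15 e.2 k)) true) true = true := by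
  refine cnd_of fun h1 => ?_
  have h2 := of_allN (cnd_not h1).2
  have h3 : ∀ a < 2 ^ 3, bt (m % 2 ^ 8) a = bt m a := fun a ha => by
    rw [bt_eq, bt_eq, Nat.testBit_mod_two_pow, decide_eq_true (show a < 8 from ha), Bool.true_and]
  have h4 := of_allN h (m % 2 ^ 8) (Nat.mod_lt _ (by decide))
  rw [allN_of fun a ha => cnd_of fun k => allN_of fun b hb => cnd_of fun k' => by
    have hb' : b < 2 ^ 3 := lt_of_le_of_lt (Nat.le_of_lt_succ hb) ha
    have h5 := h2 a (lt_trans ha (by decide))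
    rw [← h3 a ha, k, cnd_true] at h5
    have h6 := of_allN h5 b hb
    rw [← h3 b hb', k', cnd_true] at h6
    rw [h3 (Nat.xor a b) (Nat.xor_lt_two_pow ha hb')]
    exact h6, cnd_true] at h4
  have h7 := of_allN h4 (m / 256) (by omega)
  rw [frc_eq, show Nat.add (m % 2 ^ 8) (Nat.mul 256 (m / 256)) = m from Nat.mod_add_div m 256, h1, cnd_true] at h7
  exact h7

/-- the check -/
noncomputable def chk2 (lk : ℕ → ℕ → ℕ) (B L : List ℕ) (z : ℕ) (H : List (ℕ × List ℕ)) (Pi : List (ℕ × ℕ)) (E : List ℕ)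
    (_ R gs : Sq) (_ : ℕ → ℕ) : Bool :=
  cnd (Nat.beq (prodO R) 16) (cnd (allN 16 fun a => dec lk (fun u => allN 16 fun b => dec lk (fun v => dec lk (fun w =>
    eqB B (fun q => u (v q)) w) R (Nat.xor a b) idf) R b idf) R a idf)
    (cnd (allL Pi fun e => decF lk E (fun f => cnd (eqB B (itr f 60) idf) false (allN 16 fun k => dec lk (fun u =>
      dec lk (fun v => cjB B f u v) R (plk 4 15 e.2 k) idf) R k idf)) (nat_lit 200) e.1 idf)
      (nbs lk B gs L L fun NL => wms lk B E R gs H fun Ws =>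
        cov NL Ws 2 (Nat.shiftLeft (nat_lit 1) z) (nbr lk B gs idf L (nat_lit 0))) false) false) false

theorem two_of (hT : M.Tab lk mk ver) (hB : M.Base B) {E0 : List ℕ} (hE : AllIn M lk E0) {d : Dt} (hp : d.p = 2)
    (hN : ¬ 2 ^ (d.F + 1) ∣ Nat.card G) {H : List (ℕ × List ℕ)} {Pi : List (ℕ × ℕ)} (hs : subs Pi = true)
    (h : setup lk mk n B E0 d (chk2 lk B d.L d.z H Pi) = true) : Two G d.F := by
  classical
  obtain ⟨E, A, R, z, fz, hE, hg, hz, S, h⟩ := setup_spec hT hB hE (hp ▸ Nat.prime_two) h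
  have hR : GsIn M lk R := fun g k => hg g (List.mem_append_right _ k)
  obtain ⟨h1, h⟩ := cnd_and h
  obtain ⟨h2, h⟩ := cnd_and h
  obtain ⟨h3, h⟩ := cnd_and h
  obtain ⟨NL, h, h4⟩ := nbs_spec hB hg _ _ _ h
  obtain ⟨Ws, h, h5⟩ := wms_spec hB hE hR hg _ _ h
  have h6 := S.card
  have h7 := S.oz
  rw [hp] at h6 h7
  refine ⟨z, h7, h6 ▸ card_dvd_of_le S.cz, fun X k1 k2 k3 => ?_⟩
  have k4 : ∀ u ∈ closure X, ∀ x ∈ X, x * u = u * x := fun u hu =>
    mem_centralizer_iff.1 ((closure_le (centralizer X)).2 (fun y hy x hx => k3 x hx y hy) hu)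
  have k5 : ∀ u ∈ closure X, u ^ 2 = 1 := fun u hu => by
    induction hu using closure_induction_left with
    | one => exact one_pow 2
    | mul_left x hx u hu ih =>
      obtain ⟨c, hc⟩ := isConj_iff.1 (k2 x hx)
      rw [(show Commute x u from k4 u hu x hx).mul_pow, ih, ← hc, conj_pow, ← h7, pow_orderOf_eq_one]
      simp
    | inv_mul_cancel x hx u hu ih =>
      obtain ⟨c, hc⟩ := isConj_iff.1 (k2 x hx)
      rw [(show Commute x u from k4 u hu x hx).inv_left.mul_pow, ih, inv_pow, ← hc, conj_pow, ← h7, pow_orderOf_eq_one]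
      simp
  obtain ⟨c, k6⟩ := conj_into Nat.prime_two h6 hN (X := closure X) fun u => ⟨1, Subtype.ext (k5 u u.2)⟩
  obtain ⟨W, k7, k8⟩ := cov_spec (P := fun e => e ∈ d.L ∧ ∃ x ∈ X, c * x * c⁻¹ = evc M lk (A ++ R) e) (by
    rintro e ⟨l1, x, l2, l3⟩
    obtain ⟨N, l4, l5⟩ := h4 e l1
    refine ⟨N, l4, ?_⟩
    rintro e' ⟨l6, y, l7, l8⟩
    exact l5 e' l6 (by rw [← l3, ← l8, conj_mul, conj_mul, k3 x l2 y l7])) _ _ _
    (fun e he => nbr_spec hB hg PM.rf_one _ _ e (Or.inr ⟨he.1, by rw [one_mul, mul_one]⟩)) h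
  obtain ⟨g, k9⟩ := h5 W k7
  have k10 : ∀ u ∈ closure X, ∃ k < 16, g * c * u * (g * c)⁻¹ = evc M lk R k := fun u hu => by
    have l1 : closure X ≤ (Mg M lk R).comap (MulAut.conj (g * c)).toMonoidHom := (closure_le _).2 fun x hx => by
      obtain ⟨e, l2, l3⟩ := S.cov _ (k6 x (subset_closure hx)) ((k2 x hx).trans (isConj_iff.2 ⟨c, rfl⟩))
      have l4 := k9 e (k8 e ⟨l2, x, hx, l3⟩)
      rw [← l3] at l4
      show g * c * x * (g * c)⁻¹ ∈ Mg M lk R
      simpa only [mul_inv_rev, mul_assoc] using l4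
    obtain ⟨k, l2, j, l3, l4⟩ := exists_evc (A := []) S.pc.right (l1 hu)
    exact ⟨k, Nat.eq_of_beq_eq_true h1 ▸ l2, l4.trans (mul_one _)⟩
  generalize g * c = b at k10
  let m := Nat.ofBits fun k : Fin 16 => decide (b⁻¹ * evc M lk R k * b ∈ closure X)
  have k11 : ∀ k < 16, bt m k = true ↔ b⁻¹ * evc M lk R k * b ∈ closure X := fun k hk => by
    rw [bt_eq, Nat.testBit_ofBits_lt _ _ hk, decide_eq_true_eq]
  have k12 := subs_spec hs m (Nat.ofBits_lt_two_pow _)
  rw [show cnd (Nat.blt m 2) false _ = true from ?_, cnd_true] at k12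
  · obtain ⟨e, l1, l2⟩ := of_anyL k12
    obtain ⟨a, -, f, l3, l4⟩ := decF_spec hE.top (fun f => cnd (eqB B (itr f 60) idf) false (allN 16 fun k => dec lk (fun u =>
      dec lk (fun v => cjB B f u v) R (plk 4 15 e.2 k) idf) R k idf)) (nat_lit 200) e.1 1 idf (mem_top _) PM.rf_one
    obtain ⟨l5, l6⟩ := cnd_not (l4.symm.trans (of_allL h3 e l1))
    refine ⟨_, bad_of hB l3 l5 b, fun u hu => ?_⟩
    obtain ⟨k, l7, l8⟩ := k10 u hu
    have l9 := of_allN l2 k l7
    rw [(k11 k l7).2 (by rw [← l8]; simpa [mul_assoc] using hu), cnd_true,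
      k11 (plk 4 15 e.2 k) (Nat.lt_succ_of_le Nat.and_le_right)] at l9
    obtain ⟨v, l10, l11⟩ := dec_one (β := Bool) hR k
    obtain ⟨w, l12, l13⟩ := dec_one (β := Bool) hR (plk 4 15 e.2 k)
    have l14 := of_allN l6 k l7
    rw [l11, l13] at l14
    rw [← cj_of hB l3 l10 l12 l14, ← l8] at l9
    simpa only [mul_inv_rev, inv_inv, mul_assoc] using l9
  · obtain ⟨x, k1⟩ := k1
    obtain ⟨k, l1, l2⟩ := k10 x (subset_closure k1)
    have l3 := (k11 k l1).2 (by rw [← l2]; simpa [mul_assoc] using subset_closure k1)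
    have l4 : k ≠ 0 := fun e => by
      rw [e, evc_zero, conj_eq_one_iff] at l2
      rw [(isConj_one_left.1 (l2 ▸ k2 x k1) : z = 1), orderOf_one] at h7
      cases h7
    rw [bt_eq] at l3
    rw [Bool.eq_false_iff.2 fun e => not_le.2 (Nat.blt_eq.mp e)
      ((Nat.le_self_pow l4 2).trans (Nat.ge_two_pow_of_testBit l3)), cnd_false]
    refine allN_of fun a ha => cnd_of fun l5 => allN_of fun e he => cnd_of fun l6 => ?_
    have l7 : e < 16 := by omega
    obtain ⟨u, l8, l9⟩ := dec_one (β := Bool) hR a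
    obtain ⟨v, l10, l11⟩ := dec_one (β := Bool) hR e
    obtain ⟨w, l12, l13⟩ := dec_one (β := Bool) hR (Nat.xor a e)
    have l14 := of_allN h2 a ha
    rw [l9] at l14
    replace l14 := of_allN l14 e l7
    rw [l11, l13] at l14
    rw [k11 (Nat.xor a e) (Nat.xor_lt_two_pow (n := 4) ha l7), ← hB.eq (l8.mul l10) l12 l14]
    simpa only [mul_assoc, mul_inv_cancel_left] using mul_mem ((k11 a ha).1 l5) ((k11 e l7).1 l6)

end Cfsg.Agent.N2.Sp2.Md
end

private theorem dce_46fa955a68d2 : _root_.True := by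
  try have : _root_.True := by simp only [_root_.Cfsg.Agent.N2.SpK.suzC.eq_1]
  exact _root_.True.intro
end

-- part: N2/Sp2/MdCo3
section
prune_inst 0x4010000
set_option linter.all false
open scoped Cfsg.Agent.FastGrp

/-!
# N2 (S3519), sporadic groups: the model of `Co₃` (helper44; generated by notes/N2/sp44/mod)
-/

set_option autoImplicit false
set_option maxRecDepth 100000
set_option Elab.async false

namespace Cfsg.Agent.N2.Sp2.Md.Co3

open Cfsg Cfsg.Agent.SB.Spor Cfsg.Agent.N2.Tg.PE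
open Cfsg.Agent.SB.SporF.Co3 (lk mk E B pm hyp tab hE hB hB0)

/-- the prime two -/
noncomputable def d2 : Dt :=
  ⟨2, 10, [608791387735026553808616676597790, 1110434727667662897913393977377, 162501928835858173546613842911264,
    10984299096753125968977178], [1427660484918907533189500115748, 41132146201953417052496675,
    11165672407011785986658541345, 20604276417174489161147687, 13346109597305391558632486,
    9916866239629919684161970217], rd 9 511
    [0x4000200800080200800100401024101004050341104080602806088722a20080a008221080a00403014050441b1c4811440101c0f044030acc91cf9400],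
    [(109, [1, 2, 3]), (0, [655873, 34477573123])], 512, [28, 60, 64, 76, 108, 112, 123, 128, 159, 171, 192, 204,
    208, 236, 239, 256, 320, 368, 379, 384, 412, 415, 427, 444, 448, 464, 495, 512, 540, 572, 576, 588, 620, 624,
    635, 640, 671, 683, 704, 716, 720, 748, 751, 768, 832, 880, 891, 896, 924, 927, 939, 956, 960, 976, 1007], [0,
    4, 15, 50, 68, 74, 84, 91, 96, 118, 150], rd 17 131071
    [0x1682a241012084805418781c3b661c030e0031000a8009000100036000d000a8001c1907c983c441c020e02821041022080104002e000900088000c028704438421c010e01020c817040b26040032000b000940012018204c17f40b43040487010385a1c480f1105008281415c40a7f053082d8014040a0305c98289014120bfd05f682a5017880a0103308180a240112048a0b4572a28031401890244ff40c4806028a004571629bd1422856cc2c0e17510a1685044280a16250a2085984280616230a0485d0c284214010a7f0afe850042b261424090c8480a0c0106020a12050142a4015038300c1a042402120033000b8007400020030000a00070000000290006800800008002700058007c0006d986fe830061a070c04860b4359218480c1906048344418020c2086044300a18010c24040c8201210020801011200812078b0201840442102100109fd010280806040102002d000880084000a0035000c800a0001911080084012202d100188044400a2001100034000c000980014002c0008000780004002f00098008c000e002b00078006c01000000]⟩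

/-- conjugates of the subgroup of order 16 -/
def H : List (ℕ × List ℕ) :=
  [(3433401994244995321711043620, [1032, 2061, 3077, 4107, 5123, 6150, 7182, 8199, 9231, 10250, 11266, 12300, 13316,
    14337, 15369]), (48423534674251131427693345, [1803, 2551, 3830, 4111, 5892, 6648, 7929, 8197, 9998, 10738,
    12019, 12298, 14081, 14845, 16124]), (23144523068580295817896993, [1970, 2737, 3331, 4104, 6074, 6841, 7435,
    8207, 10173, 10942, 11532, 12295, 14261, 15030, 15620]), (4672550664779119743821882404, [1220, 2059, 3279, 8195,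
    9415, 10248, 11468]), (1113575498704274390404397475882, [961, 1223, 5894, 8205, 9164, 9418, 14091]),
    (8988434692875311378402715427, [967, 3782, 7434, 8203, 9164, 11981, 15617]), (8680139719476891192045676586,
    [1803, 3778, 6599, 8206, 9989, 11980, 14793]), (27862664456688590017864484, [459, 6157, 6598, 8206, 8645, 14339,
    14792]), (12398795743526797958487089962, [453, 1742, 5899, 8199, 8642, 9929, 14092]),
    (35177113299304104480679978, [967, 6159, 7112, 8196, 9155, 14347, 15308]), (13392836068096506301720618, [463,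
    3269, 7434, 8196, 8651, 11457, 15630]), (11464399756818190432460810282, [1732, 2049, 3781, 8201, 9933, 10248,
    11980]), (1825666679511883037862090648097, [1230, 3336, 6601, 8207, 9409, 11527, 14790]),
    (5896120394711200340811720488, [1734, 3333, 7107, 8196, 9922, 11521, 15303]), (27876795244459976013783336,
    [1800, 3279, 7116, 8203, 9987, 11460, 15303])]

/-- elements of the normaliser -/
def Pi : List (ℕ × ℕ) :=
  [(135690198899479596719316344783448104, 18297184900307300640), (14746348173203972238292139998070253610,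
    7474363054725188880), (1192806074108292028510299564072, 8815864563620967120), (3176567576401189738951403643940,
    6029402094212915040), (62531548074451245237249556051601450, 5421456086569486320),
    (812567459704256596850478216718378, 7489409430422657040), (6513787115925526571934557217, 2221019438907079920),
    (26714592436150125828377350460359911464, 17829384969349503360), (36320367704018181098121258,
    4598639525765918400), (67967231372288331627797509487011882, 1755342271746856080), (517453199193954264100,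
    17468268165449599440), (224221907924568259970575903238186, 18282796779979629600), (8069632180785987348206656545,
    17523023007725592000), (1907680202576638185002715849002, 18255263109287807520), (31498554460733448256299814,
    2579832002787474960)]

/-- the prime three -/
noncomputable def d3 : Dt :=
  ⟨3, 7, [123833952915563529040288472964640, 32659925149725858505366817, 9922877518020973969047624990,
    509198223200428067, 8671677016802200207499338274], [137097502960777277740832, 75964636746564914716964], rd 10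
    1023 [0x40000c010000900c010001b02403004001441b2ac66388003cd44805837390f00000], [(95, [1, 2, 3]), (0, [1537,
    1412889688867586])], 1458, [36, 45, 63, 72, 135, 153, 189, 198, 252, 279, 297, 306, 315, 333, 342, 360, 387,
    396, 423, 432, 450, 459, 477, 504, 513, 522, 531, 558, 576, 594, 603, 621, 630, 657, 666, 684, 693, 720, 729,
    738, 747, 783, 801, 819, 828, 846, 873, 882, 900, 909, 945, 954, 963, 990, 1044, 1062, 1071, 1143, 1170, 1224,
    1233, 1269, 1278, 1287, 1305, 1314, 1332, 1341, 1368, 1404, 1413, 1431, 1440, 1449, 1458, 1467, 1476, 1485,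
    1494, 1548, 1557, 1566, 1575, 1584, 1629, 1638, 1656, 1665, 1692, 1710, 1719, 1728, 1737, 1746, 1809, 1818,
    1827, 1836, 1854, 1872, 1881, 1899, 1926, 1935, 1953, 1980, 2043, 2097, 2115, 2124], [0, 1, 2, 3, 4, 6, 8, 9,
    10, 11, 18, 19, 20, 27, 34, 39, 40, 42, 43, 44, 52, 54, 59, 68, 75, 76, 77, 78, 80, 81, 117, 126, 144, 162, 234,
    243, 324, 378, 405, 468, 486, 567, 612, 648, 675], rd 19 524287
    [0x32c060040c0701abb0370b0602a0c6801b808300b061460c14818008300744001240012800670044400058002c0003400144001ac002219922000c4700880008801220005e000142ad10003f0003666088001b0000c00344000a800019c02a3303e00090cc150021f000280015c01151c01f0023e0010c005500060002540067c0029801aa0013e156a801cf8001a000ba00ea8cc8f9992a0ab3e0000400368018a0004400190010500012000aa000c4cc850006a0008200e280085000380001c0014000161980a38014000f0000b8005a0006a15628002600028001140049c002419920000cc00e800053801a7000661568000d0198270004000480e013800100044e000b80050003a70007c00880cc10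055a70001670080cc93800023803c001180011800650007466478002b0011e0000e0087800210001e000be00e780007800520005a0027800349981e00032001702acf000090009c0067800000006c0020e000840031800390070e001500018198070040e00100000e001870006e0003400278002b3320e001a0001d85587000b27001c00040004b0004e0021c2ad2800473802a006540112800150024a000c801ca801153304a0007c0030855950014a00854cc92800040034a000f4cc8a998150074a00028e012800290012a156340022800ac330580043400099992c0041a0001801160018d0003a001782ad61c00d000a2004b001c6803ac3301a00060002d801ac3321a00134e0160008d00756008ac0055801260044c0029800d08012100142008a40094800a90044800e9000520011d0033a002740094001a8001500068c0091800a30009400098004000000,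
    0x2570804a1093420b6843320800810cb821cd04701080e010050201b8411b087021000821960405b08ade10028206e0403a080261014821c0040010800a2c00c59e78b037162542c22058370b07016a5a2c1b4580e0b10f160042da9c58020b4a916bd62e088586e0b77f160702d2305bdc0b52e161e82c14858008b32c1000421a9c401b880051070020cc8429708025100da2007040878800a101fa2016c4006880061034420cb84002080f710a5a201b8400e880f4100a4200044039810130273a040dc0bfc811a502008043dc08028101d020380443c0805010fd020b60401c0804010aa0203e061680838011f40234404034087a010520200204680d8059b7013603e6c1c0d8031b56f360386c1b4d8051b05b360106c014db041b380363446c008d9961b60a36e046c01cd9971b257360086c148d8519b0013603e441c0892b9107322026455d48a461101c22a5a440288b809156d223444403488809103722efe4404089c0110052200844cc8885511007220044400c88009100c0ae04155b4280b050130a35614cb0280e050020a0141403428080570a0aaea14050280e850030a66015c0428d00500b0ae16155d8280a850520a146140042ab79800d3034461c04c0059800a30efe60694c01b9857530e146004cc00f987b8300e0614b4c00e9801c3066460020c003983803065c60010c00118052300026001479c00f6081e6643c16c78050f6561e6583c008780f8f3811e0e03c02c78d00f7011ec0c3c00c780e0f85a1e65c3c01078060f56d1e00e3c07478290f0011e0280d5d41b85030100601a0c0281998030030603a0c05818d583013060180d5b41b8103,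
    0xfd2e0145c010bb81170f72e1f45c01cb80e170702e1e85c004ba60966a72c00459c08b0b1960702c3d4583dcb0021619a2c70059230b1c5163cf2c006583e8b0039600a2c0165946cb380963302c21e58070b006960f42c002581c060050c05b1821e3007060368c1a218efe3003461c00c005183343000861960c6a71804a314b860040c007180dc314b4607b8c0041865c30148607a0c001180082400849960910f12038241b44bc00982212dc0240dc48440912a1200624e0048028952d1203a241c0492b8985a1291825520486e0977f120a4243d04800890fd040140816c10878201c0403a0801c1055020080406e0869413fc82013040e608e741002820f7040080803410d1021f40403e081c0142d02052041e8080041353940252800450688a2969400d281fa501e4a0051451b2801651c04a1e7940c82800650e24a246140132802850070a08794004281ee515b4a07a141e72800250e00901292004240e2481c0912b9270124ada4802892b79200d24344481e490039233224aea4805090099201d24038494b4901b9277f24020480089001920012400638094708c0e52e1c70039230707e8e0071c014381c070b18e7021c2023800873538e52d1c008383dc708d8e01c1c21e3802c73808e3321c1e83868870008e01c32a5a65230c8029900432700647d0c8d11956f32664642a8c803998223206e65dfcc92b9901f320e065c04c8059900a32aea65c28c809990023200664004c80e1000420e024009480d11057520658419588001103802000a41c0882b79001f2000e40df8800190606200b640cc0800510332204ae4004c8029100a3200024007020d104,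
    0x703803e7001ce1c01c52d3800a71818e0019c11b3802870094e0d11c004380da70070e1961c00238cac7004ce3dc1c0aa380b670028e0031c0a3380a470004e3bf937f92606e4ccc8980413007260e04c07c9bdc13004267004ccb89a969306d260384d5bc98d1931a2260264d5d499ce9305b260144dc04980113052260024d5d4300a060370c0e019c0431cd063300c65818008303b060250cefe195b430368601c0c0081800c3197060130c19018190302d8600a0ca5a1828c3029060010c1f46801cd1991a1013434468034d2ba9a39d340266858cd0381a257341ee68010d1c01a7013401668028d3bf9a7f93406e694b4d0879a01c34004683d0d0009a0032e1905cf3cb998177012e0165d230b880970132e3445d4b4b999176a72e0045c094b9c017]⟩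

theorem okS : subs Pi = true := by decide +kernel

theorem ok2 : setup lk mk 276 B E d2 (chk2 lk B d2.L d2.z H Pi) = true := by
  rewrite [show lk = fun t i => Nat.land (Nat.shiftRight t (Nat.mul (nat_lit 9) i)) (nat_lit 511) from rfl]
  decide +kernel

theorem ok3 : setup lk mk 276 B E d3 (chk3 lk B d3.L 5 11152407021308672543118990883 5) = true := by
  rewrite [show lk = fun t i => Nat.land (Nat.shiftRight t (Nat.mul (nat_lit 9) i)) (nat_lit 511) from rfl]
  decide +kernel

theorem two {K : Type} [Group K] (h : Spor.IsoCo3 K) : Two K 10 ∧ Three K 7 5 := by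
  obtain ⟨e⟩ := h
  have := H763.Co3.Model.fin_G3
  exact ⟨(two_of (tab pm) (hB hyp) (hE hyp) (d := d2) rfl (by rw [(hB0 hyp).2]; decide) okS ok2).congr
      (e.trans SporRec.Co3.Model.equivCo3.symm),
    (three_of (tab pm) (hB hyp) (hE hyp) (d := d3) rfl (by rw [(hB0 hyp).2]; decide) Nat.prime_five ok3).congr
      (e.trans SporRec.Co3.Model.equivCo3.symm)⟩

end Cfsg.Agent.N2.Sp2.Md.Co3
end

-- part: N2/SpK/F22
section
set_option linter.all false
open scoped Cfsg.Agent.FastGrp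

/-!
# N2 (S3519), the sporadic rows: the multipliers for `Fi22` (helper26)
-/

set_option autoImplicit false
set_option maxRecDepth 100000

namespace Cfsg.Agent.N2.SpK

open Cfsg Cfsg.Agent.TAB Cfsg.Agent.TAB.Eng Cfsg.Agent.TAB.Use Cfsg.Agent.TH.Spor Cfsg.Agent.H123.Cls.FiDat
open Cfsg.Agent.H494.F22 (rho rho_injective wS wS_cons chkRel rel sw)

theorem rho_el : ∀ w : List ℕ, (∀ x ∈ w, x < 9) → rho (el w) = wS w
  | [], _ => map_one rho
  | x :: w, h => by
    rw [el_cons, map_mul, gn_S (h x List.mem_cons_self), wS_cons,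
      rho_el w fun y hy => h y (List.mem_cons_of_mem _ hy)]

/-- the representative is conjugate to its image under the automorphism of the diagram -/
noncomputable def f22C (t : ℕ) (a b : List ℕ) : Bool :=
  frcL (a ++ F22.wd ((t + 58) % 59) ++ a.reverse) fun u => frcL (b ++ (F22.wd ((t + 58) % 59)).map sw ++ b.reverse)
    fun v => allL (fun x => Nat.blt x 9) (u ++ v) && chkRel (u, v)

theorem f22_word {t : ℕ} (ht : t < 59) {a b : List ℕ} (h : f22C t a b = true) : RatT F22.td t := by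
  rw [f22C, frcL_eq, frcL_eq, Bool.and_eq_true] at h
  have h1 := fun x hx => Nat.blt_eq.mp (allL_spec h.1 x hx)
  rw [List.forall_mem_append] at h1
  have h2 := rel (fun x hx => (h1.1 x hx).trans (by decide)) (fun x hx => (h1.2 x hx).trans (by decide)) h.2
  rw [← rho_el _ h1.1, ← rho_el _ h1.2, rho_injective.eq_iff, el_append, el_append, el_append, el_append, el_reverse,
    el_reverse] at h2
  have h3 : ∀ g, F22.td.ty g = t → IsConj (el (F22.wd ((t + 58) % 59))) g := fun g hg => by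
    obtain ⟨n, h3 | h3⟩ := F22.Cv.exists_word g <;> rw [(F22.ty_iff ht).1 hg] at h3
    · exact isConj_iff.2 ⟨n, h3.symm⟩
    · exact (isConj_iff.2 ⟨_, h2⟩).trans ((isConj_iff.2 ⟨_, rfl⟩ : IsConj _ _).symm.trans (isConj_iff.2 ⟨n, h3.symm⟩))
  exact fun x y hx hy => ⟨1, by rw [pow_one]; exact (h3 x hx).symm.trans (h3 y hy)⟩

theorem inK_fi22 {K : Type} [Group K] (h : Spor.IsoFi22 K) :
    InK K F22.dat (Sm2.mkRows F22.rowA F22.rowB) [(42, 2), (49, 2), (52, 2)] := by
  obtain ⟨e⟩ := h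
  have := F22.fin22
  refine InK.of_equiv ⟨_, F22.mass, F22.tab, bndsF22.1, kap_of_bnds F22.mass F22.inh bndsF22.1 bndsF22.2
    (X := [36, 38, 41]) ?_ [(55, 2, 1), (56, 3, 1)] (List.forall_mem_nil _) (by decide +kernel)⟩ e
  simp only [List.forall_mem_cons]
  exact ⟨f22_word (a := [0]) (b := [0]) (by decide) (by decide +kernel),
    f22_word (a := [8, 4, 2, 3]) (b := [3, 7, 5, 2, 1]) (by decide) (by decide +kernel),
    f22_word (a := [6, 1, 2]) (b := [5, 4, 0]) (by decide) (by decide +kernel), List.forall_mem_nil _⟩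

end Cfsg.Agent.N2.SpK

private theorem dce_8eb869669c49 : _root_.True := by
  try have : _root_.True := by simp only [_root_.Cfsg.Agent.N2.SpK.f22C.eq_1]
  exact _root_.True.intro
end
end
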