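import Cfsg.Agent.N2.Sp2.MdCo3_m3
import Cfsg.Agent.N2.Tri.Suz_m3
import Cfsg.Agent.N2.Tool
import Cfsg.Agent.SM.Sp.Rows
import Cfsg.Agent.TAB.F22.FxA_m3
import Cfsg.Agent.S3993
import Cfsg.Agent.N2.Cl.RAlt.Tri_m3
import Cfsg.Agent.SB.Mon.F24.RowN
import Cfsg.Agent.S0664
import Cfsg.Agent.FastGrp
import Cfsg.Agent.Prune
set_option linter.all false

section
prune_inst 0x7f00000000000000000000000000000000000000000000000000000000000000000000000000000000000000000000000000000000000000000000000000000000000000000000000000000000000000003fffffffffffffffffffffffffffbeffbdffffffff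

-- part: N2/Sp2/MdSuz
section
set_option linter.all false
open scoped Cfsg.Agent.FastGrp

/-!
# N2 (S3519), sporadic groups: the model of `Suz` (helper44; generated by notes/N2/sp44/mod)
-/

set_option autoImplicit false
set_option maxRecDepth 100000
set_option Elab.async false

namespace Cfsg.Agent.N2.Sp2.Md.Suz

open Cfsg Cfsg.Agent.SB.Spor Cfsg.Agent.N2.Tg.PE
open Cfsg.Agent.SporRec.SuzPerm

/-- words -/
def pre : List ℕ :=
  [3650518492220922311935746, 8481462727445249247216390, 38671548673, 43000201731, 144681453760873475,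
    55485194041831981827, 851047853982726, 460550, 565157600297475, 567356640331011, 111113939230780556035,
    92668040672906118149, 289077013007041028, 12918785284, 289081411137569797, 1693265187702532]

/-- the base -/
def B : List ℕ := [0, 1, 2, 160]

/-- the chain -/
def lev : List (ℕ × List ℕ) :=
  [(0, [16, 15, 14, 13]), (1, [12, 11, 10, 9]), (2, [8, 7, 6, 5]), (160, [4, 3, 2, 1])]

/-- the prime two -/
noncomputable def d2 : Dt :=
  ⟨2, 13, [264387179481023614069952959611394, 795392257482455578371090088453, 5587735695772291670366226692,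
    12113110705438264901572612], [1269218657647567493025990707480, 478790320343029885780274776070,
    1428296380030087377938622711835, 1983200589546298680413661104392, 2461356143221105975831332260873,
    1192781928444397992102093196042, 2624462006470393881855854906125, 5921418277833699742829186316,
    2383683910811987725033415975184], rd 12 4095
    [0x10000020010000040020010000080040020010080100080040020010080200100080040220110000400200100080440620110000800400a00d000808406a0810801001800401600900180340120810ca2003002803c02200300883242023b53204002003004803404a047008832c1063ad327800400200100280540920910a58c849d254fb00000],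
    [(417, [1, 2, 3]), (0, [201918465, 218761223, 56019518723])], 4096, [52, 132, 176, 271, 272, 292, 307, 387, 388,
    432, 512, 1024, 1027, 1040, 1060, 1076, 1311, 1459, 1536, 1695, 1935, 2048, 2084, 2196, 2224, 2319, 2320, 2355,
    2356, 2435, 2452, 2480, 2560, 3072, 3075, 3088, 3204, 3220, 3359, 3364, 3380, 3460, 3476, 3507, 3584, 3743,
    3983, 4096, 4148, 4228, 4272, 4367, 4368, 4388, 4403, 4483, 4484, 4528, 4608, 5120, 5123, 5136, 5156, 5172,
    5407, 5555, 5632, 5791, 6031, 6144, 6180, 6292, 6320, 6415, 6416, 6451, 6452, 6531, 6548, 6576, 6656, 7168,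
    7171, 7184, 7300, 7316, 7455, 7460, 7476, 7556, 7572, 7603, 7680, 7839, 8079], [0, 21, 28, 32, 44, 48, 63, 64,
    93, 100, 143, 213, 268, 285, 316, 319], rd 20 1048575
    [0x2082470026a8820018200102911829110237902021827e182921022d6820088204082000825410c0090ce590c0010c0028ca028c1028c9210c02884020846a8840308400884b0084200840008492104a22847f9047e184002840010400184e59041008c0088c2008c0008c0208cfd30c0030c0308ce4f89d48093180945d890500900589516099500900058000280004c0001c0003f0000f00030000004018900189d0b89b0189141890020925989041890005a0002a0004e0001e000550002500047000170108900289040891108910089b00890208900089000570002700035000050003e0000e00046000161010900489201090010991109e5909fd3095410900059000290003800008000540002400031000010004f0001f00039000090004800018000320000280a8500285f02850c28510085040850088500085d8b0592105fd3057e185001055410500185e59050004a0001a000340000400053000230003d0000d4dd0300303fd30368503d2303a2383225030f303caa83a2283fa483024830028380a83c0c83004837f90302183921037e183e590354103001030018346083470036a883020830408384883008830008356007e4f8745e074de079100745d87950079d00791187002076e207c4207141877e187001872818700587e8587ae587d4807d96075160731807b578725987d0c07d0b8778b8741b870098780a07f1c07d8b077190749487e59070090700687fa487004876a88700887005076850780a87caa879150775707a5107c43079110764e8754107fd3070010728107042870c28788287002870c0870408708087000870005c0002c000420001200050000200003a0000a00051000210003b0000b00045000150002f0008000000,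
    0x1d0003700007aeb8a0f30a7a50aaf30afd30a0d30a0030ad0b8a00052000220003c0000c8c8880050834908c8488416880048884888685082d68800688088883870800888d450801488e59080050d8188d0448d0068de590d2d68d0988d6850d0088d3870dc848da468d7190d0048d9150d0888d010884608864e889110800308fd30804088002880208865088c430892108001082c3080c288000884130d0010d0028d2308d0408d0108de930d9210d4928d0208d5410dfd30d64e8d0f30d6508d0008d0030b0c28b6850b0088b8828be590b0048b0028bc02810028168501e590100881fd301c0481004810010b0208b2810b0108b1008b0808b4008b0008b00101010812d6812810108081c808140081000811418b0118b9500bd0b8b2818b9018b0018b6018b5600145d81001817e1811418191181d0b81950010020bf1c0bc598b2598b8120b3180b0058b0038b25981009810058160581d4801f1c0100381002010058881788d0b88f4988e8588c558878b8825a08009884dc08b57883180829b8825988d4808ae588d0b8d80a0dd480d3180df198d78b8d0060db578d29b8d4dc0dc558d0058d0098d2598de858de478de4f8845d889118800208add880b0087e188003889d0084de08a51882818845e089500800188812089d00d14d8d9118d7e18d9500d7cd8d5140d0020da518d0018de4f8dde00d8120d2818d45d8d5600d8e482a2282024826e282fd302d0b826850245d8200282042820c28280a827a5020f302a3d82225020218e7e18e3790e9210e0208e4700e4608e6a88e0010e9118e0018e9110e0088e0408e2d68e0008e7a50ea3d8e2250e0f30ea228e6e28e0248e8e48e0c28e0028e0428e80a8e45d8ed0b8efd30e6850e46082,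
    0x288602086230866a8860288f0208fb208f6a88fb008f0088f0408f0008f0108600886040860008680a8a0c28a4928a0028a0005d0002d000430001300056000260004000010caa8a0228a0248aa228a022865228622a86a2286cb28ffa48fa228f22a8f882860028680a86f02868828f0028f0048f4928f0005e0002e00044000140408a0088a0108a0008a000490001900033000034608a6a88a2308a0208a0005b0002b00041000110010a5410a0018ae590a0004b0001b00036000069210a8610a7e18a7f90aaf30622506aeb860f306af30faeb8f4eb8f0f30fc4306fd306d8b0668506fd30fd0b8f0050f0038f0010f0018f2010fe590f0010610106e5906001867e1867f90602106921067f90f0218f7e18f9210f0004d]⟩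

/-- conjugates of the subgroup of order 16 -/
def H : List (ℕ × List ℕ) :=
  [(1754185318556543721784489611793, [8197, 16395, 24590, 32783, 40970, 49156, 57345, 65548, 73737, 81927, 90114,
    98307, 106502, 114696, 122893]), (1988784646205054292980394762510, [4359, 27131, 30968, 32772, 37123, 59903,
    63740, 65549, 69898, 92662, 96501, 98313, 102670, 125426, 129265]), (1670936287563471103354488360719, [4348,
    16647, 20987, 32783, 37107, 49416, 53748, 65542, 69882, 82177, 86525, 98313, 102645, 114958, 119282]),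
    (8384023803531140460367187728, [2818, 4927, 6204, 32774, 35588, 37689, 38970, 65537, 68355, 70462, 71741, 98311,
    101125, 103224, 104507]), (4358296120798248519045615394, [6918, 16436, 23357, 32778, 39692, 49214, 56119, 65551,
    72457, 81979, 88882, 98309, 105219, 114737, 121656]), (2381826982030766223060143968017, [16973, 33350, 49163,
    65545, 82500, 98895, 114690]), (1275728793948770347328302092302, [2122, 49163, 51265, 65543, 67661, 114700,
    116806]), (7756596044254575554716832272, [16648, 35141, 51277, 65546, 82178, 100687, 116807]),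
    (2149091836884845093198174167569, [17218, 37126, 53837, 65545, 82763, 102671, 119364]),
    (1592947274015610186092711382543, [6222, 49162, 55364, 65541, 71755, 114703, 120897]), (75817782817934926746130,
    [4680, 49161, 53825, 65542, 70222, 114703, 119367]), (6220046420906627729011511056, [840, 16391, 17231, 65546,
    66370, 81933, 82757]), (5608315972540262521701802257, [4359, 33349, 37699, 65537, 69894, 98884, 103234]),
    (4984524324986978086132059664, [16645, 37699, 53830, 65550, 82187, 103245, 119368]),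
    (5604703399074073937047457809, [17228, 33354, 49409, 65543, 82763, 98893, 114950]), (40017814423230139908493326,
    [834, 4358, 4676, 65545, 66379, 69903, 70221]), (30351130519323217335882769, [843, 2116, 2831, 65541, 66382,
    67649, 68362]), (1590165535887917977465638620962, [2120, 49415, 51529, 65542, 67662, 114945, 117071]),
    (2304147453398547110395127009058, [834, 16654, 16972, 65544, 66378, 82182, 82500]),
    (5601076584649953744283373089, [2828, 53834, 55625, 65551, 68355, 119365, 121158]),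
    (1828769996997593393079993439504, [6217, 49415, 55621, 65547, 71746, 114956, 121166]),
    (10234884530161684608822678033, [16392, 39235, 55627, 65550, 81926, 104781, 121157]), (499222358496307319314,
    [4359, 51268, 55619, 65549, 69898, 116809, 121166]), (4349838362499768061821849102, [17230, 35586, 51271, 65547,
    82757, 101129, 116812]), (4667771684593243733172888079, [16967, 39695, 55624, 65546, 82509, 105221, 121154]),
    (1513412044324714179311334067984, [16646, 39243, 55373, 65543, 82177, 104780, 120906]),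
    (19442371784216172298309410, [17221, 39693, 55362, 65546, 82767, 105223, 120904]),
    (10552832019495365056530747407, [4366, 51532, 55361, 65539, 69901, 117071, 120898]),
    (36376759545033846004323600, [16961, 35596, 51533, 65539, 82498, 101135, 117070]), (27970984384144890918081297,
    [2822, 33347, 35147, 65550, 68360, 98893, 100677]), (6209175716866943928526704911, [2115, 37126, 39236, 65537,
    67650, 102663, 104773]), (10875619935916812240436530958, [6918, 33354, 39236, 65544, 72462, 98882, 104780]),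
    (1833414689997129548331680338190, [2121, 37708, 39685, 65540, 67661, 103240, 105217]),
    (4363136545652524513731088655, [6214, 35594, 37700, 65544, 71758, 101122, 103244]),
    (4364340749179967926432829967, [4677, 35144, 39687, 65546, 70223, 100674, 105229]),
    (8697177926093474479073005326, [843, 6212, 6927, 65541, 66382, 71745, 72458]), (9301598519715880038752587554,
    [16399, 35137, 51534, 65542, 81929, 100679, 117064]), (5280687557478669225237287951, [6223, 35140, 37131, 65548,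
    71747, 100680, 102663]), (109262018042947099889934, [4681, 35592, 39233, 65542, 70223, 101134, 104775]),
    (30318000527539565814091536, [6918, 51266, 54093, 65545, 72463, 116811, 119620]), (6840235142641705369168060686,
    [4683, 49409, 54093, 65543, 70220, 114950, 119626]), (5587773679205034781849228560, [6917, 51527, 53826, 65547,
    72462, 117068, 119369]), (7768680726791530121507508240, [16397, 37711, 54082, 65546, 81927, 103237, 119624]),
    (31527036815108328616038158, [2824, 54085, 55373, 65550, 68358, 119627, 120899]), (5609524899583437900996612110,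
    [16972, 37122, 54094, 65547, 82503, 102665, 119621])]

/-- elements of the normaliser -/
def Pi : List (ℕ × ℕ) :=
  [(7154541541496796413185822990, 15417989287981261440), (33329720369398425590158875650843086350,
    8258536122227146320), (1117887783920532105574990619150, 17618955223351347120),
    (387591320749267291106769548414478, 3373576166596624320), (130214502602575567811670024551206926,
    9924487649903846160), (570449919770890707620288118460174, 17400020835952716000)]

/-- the prime three -/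
noncomputable def d3 : Dt :=
  ⟨3, 7, [122252165420368493871363745120513, 40965619328838415819530827929093, 3722339545351701501959342359,
    427123685831770065196125528589828, 5283072260316819941745166597], [6819635885032593375714936583,
    18224073935496336680487433], rd 9 511 [0x80006010002406010006c120300800a21b2d1bc9ebd799457bef064cde600], [(0,
    [1, 2, 3]), (1, [117768963])], 243, [45, 63, 243, 486, 738, 765, 828, 963, 972, 1359, 1368, 1395, 1440, 1476,
    1530, 1575, 1629, 1791, 1827, 1899, 1908, 1944], [0, 5, 7, 9, 10, 12, 17, 18, 20, 22, 24, 27, 32, 34, 39, 44,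
    49, 51, 54, 59, 61, 66, 71, 76, 78, 81, 90, 91, 99, 101, 108, 117, 126, 135, 144, 153, 162, 172, 182, 189, 216,
    261, 288, 306, 360, 387, 396, 531, 549, 729, 1215, 1458, 1701], rd 19 524287
    [0x4582a0145416ca80e053520a19414e70281b8527a0a0a41428c28008500440ceebd1617003a9677548b08c01c38000739c387381c00050011c00340008bc00571ce29004540028c00d7c142e67740006aa0a11801290001c00e700083c142a39c46ceea4000a0021c6770f050bce71722c20458540048c011480012003380081d16178012e0014000eba0a10000af00746006a4005533b9c0030e000020a038000b458387388001d78022e8285200ea801118012039c5e006b916149ce2a003468b01c00030009c0025eceeb801d00012a67746002a40006c141c0010e00e7c000600203677348b0c20a16803ac4585705088008f80009677060066a0a18000ad00259050ac005122c2d00434002c116111ce2c001560060ce70f8000100456cee8a0a160001339c070507c011833bad00734ceec000d68011a677560068800560000f007060027ce70d001b00045a8b0b000d5802224583e0001400819ce300075b05068e715803a267758000411601b3b9f007560048800d600011828060067c01d80012d001348b06800981ce2d00458004ace7110021f000080020c00d4002286775000ea000941ce2845851050a0005441421002420088400d0a2c2100742738859dd0800a10042473849160933b92007250504800c900112001248b09c00d3803a70024f0509c0113b3ba739c4e0029c008f0039e39c3c0087800cf33b9e8283c8b078004f0038b677170502ce7058020b458160042c00c58008b39c490509000d222c2467748004900112003a400148cee65160c80119828327386400cc803990043200264000a800b200006002d000040000200166002c4004000000,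
    0x27126fe25edc48a30987e120042581c490309458120b62400c4805096a01200a2409449618927a12146240704829090ca1206e24d4849ce09001120069401d2ae82505b4a8b094d6d2805253314a04a9401cd9979b458360066c014dae81b00a3602c6c094db50042060800a1016c21ad840760801410c202012845f44af6e940112af5252f64a004945b52809a56074a0086cbd8d8011b5f43604e6ca28db039b0133628c6dedc20020416d0801c110e820a3045f4085ec1000821a9256104a146957cd2806a50524a06e940712800a55f3366a46c02cd8441b06d360a46c0dcd80e1b00136c201001821a90400d080da1014822f98401c0800210cbc50028a00a145862916051f70a0071404a2800c50a3110022251444c748c3f11013225ec459cc8a1d113523001660328c0369801c30be66028cc029180013040c6016cc0051832f3000a6001cc00198458304746000853db8a146146fe2981c50020a406150fc28bd8500591876228b2441b4880e1139c2201a441488800912c3228b0440288ae81111f2202c448e88801914ce2204e60518c0011816d30a5e61edcc002182f630c0e600dc50068a00b14be628070539b8a0a3140a42800453038537f0a00815edc28138587e0a0261400828a3054581c5863801c70028e0031c47438c2070050e05b1c038541b4aa2c950ca2a06e54d48a829150a32a00254d54a97b1543a2a0085581ca813950022a28c561f8ab50052060a04a151602961850030a00a14028282d8501c1c0da3802c70040e00d1cc203814872f98e0011c5ec390e873db8e0271cbd4390ac70a30e0041c00438014a997950252a006548e8a9e015,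
    0x526d404c148600e0c5f31806e3002c60368c3521811030004643f13146260084d81c9bdb93013260044cdfc9813934581800a3002860018c0251865e3005860038c5d0180a4040700c3b0100b0201a041b409ce014590200205edd3013a60044c5ec997a930012643a4c8569851930021d7b73a0047581ce8139d1463a6fe761f8e8099d43a100082051841aa88607110fc20bd8401388002108b09800d302da62c34c47498c213003a60054c01499a80e9619d05b3a40c7400ce8029d0253a8b074028e8028823a100b620cbc41e0084581004a2000c40050806d4cc20981493005a60084cbe6980713006a60014c6a4749e8e8291d0ca3a7387428ce80e1d0373a002741b441a908052108b22032840518801c1006e20004402d8d0071a04a3574068050d4581a66234d6c68018d0020400808d54121d0287e0404e0981c117b021460414650d48a0369401c280a45002ca065145f3280025016c11e0020250465e08028111d020030400a0916013db94607280045009ca0b694004285ec50518a297940a31a06e34034680e0d0521a6a4357cc6b080d0011a0b650014a22c1423a280145001ca197940032840c5004c68010d5f41abd435edc6b038d0041a2da34bd8685182037040da080701029020ca046a4091641000822f62e01c5c5b4bafa171462e0085c008ba1d177b72e00a5cc20b82d972062e0145c1d8bb50170252e6b65c034b9a91701c2e0a45c018baf99706d2ec205c004bbdb90027205ec4051883039016d20008414bc80011023a2065e4016c80029000a2000640818822c10007201944028c800e1005220be640d4880369000b200024004c480209,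
    0x5b2c8b058818b161960252c00a59a80b005160032d0fc5981cb0011637f2c28c59edcb009960272c00858328b029160372c146589e8b00e1639c2c6a458004b02d8f32f1e4743c01c7a2c0f2061e0063c02878028f0041e0043d4bc78a30f16d1ec0e3dedc797b0f0271ebe63c14879a90f0a31e1943c07078058f06d1e0023c16c3184060050c6b6180943350060760c014188183001067b70c874197d03002061460c5ec185b43007060060c0a4197cc31a90600d0c038198403036860010c28c30bd862fa0c004185143004c60138c6071800431338080b0100a028b00400c088f815d002586048e808291301c267384c0dc985193352261944c9e89800932f60263a0451809450143a02026061f80801016730240c4cb0c98051305b2604a4c00c9a2c13]⟩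

/-- read a table -/
noncomputable def lk : ℕ → ℕ → ℕ := plk 12 4095

/-- build a table -/
noncomputable def mk : (ℕ → ℕ) → ℕ := pmk 12 4095 1782 11

/-- the generators -/
def E0 : List ℕ := [tA, tB, tC, tD, tE, tF, tG]

theorem okB : (ext lk mk pre E0 fun E => baseChk lk E 1782 448345497600 lev) = true := by
  rewrite [show mk = pmk (nat_lit 12) (nat_lit 4095) (nat_lit 1782) (nat_lit 11) from rfl,
    show lk = fun t i => Nat.land (Nat.shiftRight t (Nat.mul (nat_lit 12) i)) (nat_lit 4095) from rfl]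
  decide +kernel

theorem okS : subs Pi = true := by decide +kernel

theorem ok2 : (ext lk mk pre E0 fun E => setup lk mk 1782 B E d2 (chk2 lk B d2.L d2.z H Pi)) = true := by
  rewrite [show mk = pmk (nat_lit 12) (nat_lit 4095) (nat_lit 1782) (nat_lit 11) from rfl,
    show lk = fun t i => Nat.land (Nat.shiftRight t (Nat.mul (nat_lit 12) i)) (nat_lit 4095) from rfl]
  decide +kernel

theorem ok3 : (ext lk mk pre E0 fun E => setup lk mk 1782 B E d3 (chk3 lk B d3.L 1 3104616322985833879468509449 7)) = true := by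
  rewrite [show mk = pmk (nat_lit 12) (nat_lit 4095) (nat_lit 1782) (nat_lit 11) from rfl,
    show lk = fun t i => Nat.land (Nat.shiftRight t (Nat.mul (nat_lit 12) i)) (nat_lit 4095) from rfl]
  decide +kernel

theorem two {K : Type} [Group K] (h : Spor.IsoSuz K) : Two K 13 ∧ Three K 7 7 := by
  obtain ⟨e⟩ := h
  have h1 := SporadicRecognition.SuzOrder.card_Suz
  have : Finite Spor.Suz := Nat.finite_of_card_ne_zero (by rw [h1]; norm_num)
  have hT : (PM.ofHom φ).Tab lk mk _ := perm_tab (PM.ofHom φ) (by norm_num) (by norm_num) (by norm_num)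
  have hE : AllIn (PM.ofHom φ) lk E0 := AllIn.cons (Tg.Suz.ins .a) (AllIn.cons (Tg.Suz.ins .b) (AllIn.cons (Tg.Suz.ins .c)
    (AllIn.cons (Tg.Suz.ins .d) (AllIn.cons (Tg.Suz.ins .e) (AllIn.cons (Tg.Suz.ins .f) (AllIn.cons (Tg.Suz.ins .g) AllIn.nil))))))
  obtain ⟨E1, a1, b1⟩ := ext_spec hT _ _ _ hE.top okB
  obtain ⟨E2, a2, b2⟩ := ext_spec hT _ _ _ hE.top ok2
  obtain ⟨E3, a3, b3⟩ := ext_spec hT _ _ _ hE.top ok3
  have hB := (base_of_chk (fun t ht => (a1 t ht).imp fun _ k => k.2) h1.le (B := B) rfl b1).1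
  exact ⟨(two_of hT hB (fun t ht => (a2 t ht).imp fun _ k => k.2) (d := d2) rfl (by rw [h1]; decide) okS b2).congr e,
    (three_of hT hB (fun t ht => (a3 t ht).imp fun _ k => k.2) (d := d3) rfl (by rw [h1]; decide) (by norm_num) b3).congr e⟩

end Cfsg.Agent.N2.Sp2.Md.Suz
end

-- part: N2/Sp/Eng
section
set_option linter.all false
open scoped Cfsg.Agent.FastGrp

/-!
# N2 (S3519), sporadic groups: the linear programs on the rational character table (helper16)

`A` is not good.  An element `a` of `A` has more than `index ^ (1/3)` fixed points, so that the elements of its type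
are dense in `A`.  The sums of the characters on `A` are not negative.
-/

set_option autoImplicit false
set_option linter.unusedSectionVars false

namespace Cfsg.Agent.N2.Sp

open Cfsg Cfsg.Agent.FP3 Cfsg.Agent.TAB.Eng Cfsg.Agent.TAB.Use Cfsg.Agent.SB.SporL Cfsg.Agent.TH.Spor Finset
open Cfsg.Agent.SM.Sp (val okMd md_lt)

variable {K : Type} [Group K] [Finite K] {D : Dat} {T : TD K D} {R : Rows}

/-- the density of the types: `ν t` is the number of elements for a rational class, `N / c` if `c` bounds the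
centralisers -/
def Den (T : TD K D) (ν : List ℕ) : Prop :=
  ∀ (A : Subgroup K) (g : K), fx A g * Nat.card A * ntd ν 0 (T.ty g) ≤ D.N * num T A (T.ty g)

theorem fx_card (A : Subgroup K) (h : K) : fx A h * Nat.card A = Nat.card {g : K // g⁻¹ * h * g ∈ A} := by
  have h1 := card_pre A fun x => h • x = x
  exact h1.symm.trans (Nat.card_congr (Equiv.subtypeEquivRight fun t => smul_mk_iff A h t))

/-- double counting -/
theorem sum_fx (A : Subgroup K) (t : ℕ) [Fintype {h : K // T.ty h = t}] :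
    ∑ h : {h : K // T.ty h = t}, fx A h * Nat.card A = Nat.card K * num T A t := by
  simp only [fx_card]
  rw [← Nat.card_sigma, num, ← Nat.card_prod]
  refine Nat.card_congr ⟨fun q => (q.2.1, ⟨⟨_, q.2.2⟩, ?_⟩), fun q => ⟨⟨q.1 * q.2.1 * q.1⁻¹, (T.conj _ _).trans q.2.2⟩,
    ⟨q.1, ?_⟩⟩, ?_, ?_⟩
  · have h3 := T.conj q.1.1 q.2.1⁻¹
    rw [inv_inv] at h3
    exact h3.trans q.1.2
  · have : q.1⁻¹ * (q.1 * q.2.1 * q.1⁻¹) * q.1 = q.2.1 := by group
    show q.1⁻¹ * (q.1 * q.2.1 * q.1⁻¹) * q.1 ∈ A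
    rw [this]
    exact q.2.1.2
  · rintro ⟨⟨h, hh⟩, ⟨g, hg⟩⟩
    have e : g * (g⁻¹ * h * g) * g⁻¹ = h := by group
    refine Sigma.ext (Subtype.ext e) ?_
    exact (Subtype.heq_iff_coe_eq fun x => by simp only [e]).2 rfl
  · rintro ⟨g, ⟨s, hs⟩⟩
    refine Prod.ext rfl (Subtype.ext (Subtype.ext ?_))
    show g⁻¹ * (g * s * g⁻¹) * g = s
    group

theorem fx_conj (A : Subgroup K) {x y : K} (h : IsConj x y) : fx A x = fx A y := by
  obtain ⟨c, rfl⟩ := isConj_iff.1 h
  refine Nat.eq_of_mul_eq_mul_right (Nat.card_pos (α := A)) ?_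
  rw [fx_card, fx_card]
  refine Nat.card_congr (Equiv.subtypeEquiv (Equiv.mulLeft c) fun g => ?_)
  have : (c * g)⁻¹ * (c * x * c⁻¹) * (c * g) = g⁻¹ * x * g := by group
  rw [Equiv.coe_mulLeft, this]

/-- the check of the densities against the multipliers -/
noncomputable def okK (D : Dat) (L : List (ℕ × ℕ)) (ν : List ℕ) : Bool :=
  allL (fun t => frc (SpK.mu L t) fun m => cond (Nat.blt 0 m) (Nat.ble (Nat.mul (ntd ν 0 t) m) (D.cnt t)) false)
    (List.range D.n)

theorem den_of_kap (hm : T.Mass) {L : List (ℕ × ℕ)} (hk : SpK.Kap T L) {ν : List ℕ} (h : okK D L ν = true) :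
    Den T ν := by
  intro A g
  have h1 := allL_spec h _ (List.mem_range.2 (T.lt g))
  rw [frc_eq] at h1
  obtain ⟨h2, h3⟩ := SM.Sp.cond_ff h1
  rw [Nat.blt_eq] at h2
  rw [Nat.ble_eq, Nat.mul_eq] at h3
  refine Nat.le_of_mul_le_mul_left ?_ h2
  have h4 := Nat.mul_le_mul_right (Nat.card A) (hk.fx A g)
  have h5 := Nat.mul_le_mul_right (fx A g * Nat.card A) h3
  rw [← hm.1, ← A.index_mul_card, num]
  linarith only [h4, h5]

/-- the rows which are sums of characters -/
noncomputable def rowsP (R : Rows) : List (List ℤ) :=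
  frc R.n fun n => mapL (fun r => cond (allL (fun p => decide (p.1 < n) && decide (0 ≤ p.2)) r.1) r.2 []) R.rel

theorem pos_rowsP (h : Tab T R) : ∀ r ∈ rowsP R, PosF T (nth r) := by
  intro r hr
  rw [rowsP, frc_eq, mapL_eq] at hr
  obtain ⟨q, hq, rfl⟩ := List.mem_map.1 hr
  cases h1 : allL (fun p : ℕ × ℤ => decide (p.1 < R.n) && decide (0 ≤ p.2)) q.1 with
  | false => exact fun S => (Finset.sum_eq_zero fun t _ => mul_zero _).ge
  | true =>
    obtain ⟨χ, hE, hR⟩ := h
    refine pos_of_tab (R := ⟨R.deg, [q]⟩) ⟨χ, hE, fun r hr => hR r (List.mem_singleton.1 hr ▸ hq)⟩ ?_ _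
      List.mem_cons_self
    show cond (allL (fun p : ℕ × ℤ => decide (p.1 < R.n) && decide (0 ≤ p.2)) q.1) true false = true
    rw [h1]
    rfl

/-- **what the engine needs from a table** -/
structure Hy (T : TD K D) (R : Rows) (ν : List ℕ) : Prop where
  mass : T.Mass
  tab : Tab T R
  zero : ∀ g, T.ty g = 0 ↔ g = 1
  den : Den T ν

/-- only the type `0` has order one -/
noncomputable def okZ (D : Dat) : Bool := allL (fun t => Nat.beq (D.ord t) 1 == Nat.beq t 0) (List.range D.n)

omit [Finite K] in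
theorem zero_of (h : okZ D = true) (g : K) : T.ty g = 0 ↔ g = 1 := by
  have h1 := allL_spec h _ (List.mem_range.2 (T.lt g))
  rw [← T.ord, beq_iff_eq] at h1
  rw [← orderOf_eq_one_iff, ← Nat.beq_eq, ← h1, Nat.beq_eq]

variable {ν : List ℕ} {A : Subgroup K}

/-- from the tables with multipliers -/
theorem hy_of {L : List (ℕ × ℕ)} (h : SpK.InK K D R L) (hz : okZ D = true) (hk : okK D L ν = true) :
    ∃ T : TD K D, Hy T R ν ∧ Unif T ∧ SpK.Kap T L := by
  obtain ⟨T, h1, h2, h3, h4⟩ := h
  exact ⟨T, ⟨h1, h2, zero_of hz, den_of_kap h1 h4 hk⟩, h3, h4⟩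

omit [Finite K] in
theorem num_ne {t : ℕ} (h : num T A t ≠ 0) : ∃ a ∈ A, T.ty a = t := by
  obtain ⟨⟨s⟩, -⟩ := Nat.card_ne_zero.1 h
  exact ⟨s.1, s.1.2, s.2⟩

theorem num_pos {a : K} (ha : a ∈ A) : 0 < num T A (T.ty a) := by
  have : Nonempty {s : A // T.ty s = T.ty a} := ⟨⟨⟨a, ha⟩, rfl⟩⟩
  exact Nat.card_pos

theorem num_le (A : Subgroup K) (t : ℕ) : num T A t ≤ Nat.card A :=
  Nat.card_le_card_of_injective (fun x => x.1) Subtype.val_injective

theorem Hy.num0 (H : Hy T R ν) (A : Subgroup K) : num T A 0 = 1 :=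
  (Hyp0.mk H.mass H.zero (pos_rowsP H.tab)).num_zero A

/-- many fixed points -/
theorem Hy.le_fx (H : Hy T R ν) (hb : ¬ _root_.Cfsg.Agent.FP3.Good A) {hi f : ℕ} (hh : Nat.card A ≤ hi) (hf : (f - 1) ^ 3 * hi ≤ D.N) {a : K}
    (ha : a ∈ A) : f ≤ fx A a := by
  by_contra h
  refine hb (good_of_le ha (c := f - 1) (by omega) ?_)
  rw [H.mass.1]
  exact (Nat.mul_le_mul_left _ hh).trans hf

/-- **threshold**: a type occurs only in large subgroups -/
theorem Hy.thr (H : Hy T R ν) (hb : ¬ _root_.Cfsg.Agent.FP3.Good A) {a : K} (ha : a ∈ A) (h0 : 0 < ntd ν 0 (T.ty a)) :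
    D.N < (D.N / ntd ν 0 (T.ty a)) ^ 3 * Nat.card A := by
  by_contra h
  refine hb (good_of_le ha ((Nat.le_div_iff_mul_le h0).2 ?_) (H.mass.1.symm ▸ not_lt.1 h :
    (D.N / ntd ν 0 (T.ty a)) ^ 3 * Nat.card A ≤ Nat.card K))
  refine Nat.le_of_mul_le_mul_right ?_ (Nat.card_pos (α := A))
  rw [mul_right_comm]
  exact (H.den A a).trans (Nat.mul_le_mul_left _ (num_le A _))

/-- the fixed points of an element are fixed by its powers -/
theorem Hy.mono (H : Hy T R ν) (A : Subgroup K) {t : ℕ} (ht : t < D.n) (k : ℕ) :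
    ntd ν 0 (D.pwf t k) * num T A t ≤ D.cnt t * num T A (D.pwf t k) := by
  have := Fintype.ofFinite {h : K // T.ty h = t}
  have h0 : 0 < D.N := H.mass.1 ▸ Nat.card_pos
  refine Nat.le_of_mul_le_mul_left ?_ h0
  rw [mul_left_comm, mul_left_comm D.N, ← H.mass.2 t ht, Nat.card_eq_fintype_card, ← smul_eq_mul (Fintype.card _)]
  conv_lhs => rw [← H.mass.1, ← sum_fx, Finset.mul_sum]
  refine Finset.sum_le_card_nsmul _ _ _ fun y _ => ?_
  have h1 := H.den A (y ^ k)
  rw [T.pow, y.2] at h1
  exact le_trans (by rw [mul_comm]; exact Nat.mul_le_mul_right _ (Nat.mul_le_mul_right _ (fx_le_pow A _ k))) h1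

/-! ### vectors -/

/-- `Σ num * F` -/
noncomputable def vf (T : TD K D) (A : Subgroup K) (F : ℕ → ℤ) : ℤ := ∑ t ∈ range D.n, (num T A t : ℤ) * F t

omit [Finite K] in
theorem vf_add (F G : ℕ → ℤ) : vf T A (fun t => F t + G t) = vf T A F + vf T A G := by
  simp only [vf, mul_add, Finset.sum_add_distrib]

theorem vf_const (c : ℤ) : vf T A (fun _ => c) = Nat.card A * c := by
  rw [vf, ← Finset.sum_mul, card_eq_sum (T := T) A]
  push_cast
  rfl

omit [Finite K] in
theorem vf_one {u : ℕ} (hu : u < D.n) (c : ℤ) : vf T A (fun t => cond (Nat.beq t u) c 0) = num T A u * c := by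
  rw [vf, Finset.sum_eq_single u (fun t _ ht => by rw [Bool.eq_false_iff.2 fun h => ht (Nat.eq_of_beq_eq_true h),
    cond_false, mul_zero]) fun h => absurd (mem_range.2 hu) h, Nat.beq_refl, cond_true]

/-- a sparse vector -/
noncomputable def spv (L : List (ℕ × ℤ)) (t : ℕ) : ℤ :=
  List.rec 0 (fun p _ ih => Int.add (cond (Nat.beq t p.1) p.2 0) ih) L

/-- the presence of the powers of the type `t`: the constant and the sparse part -/
noncomputable def prs (D : Dat) (ν : List ℕ) (f t : ℕ) (L : List (ℕ × ℕ)) : (ℕ → List (ℕ × ℤ) → Bool) → Bool :=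
  List.rec (fun κ => κ 0 []) (fun p _ ih κ => frc (D.pwf t p.2) fun u => ih fun c s =>
    frc (Nat.add (Nat.mul p.1 (Nat.mul f (ntd ν 0 u))) c) fun c' => frc (Nat.mul p.1 D.N) fun y =>
      κ c' ((u, Int.ofNat y) :: s)) L

/-- the inequalities between a type and its powers -/
noncomputable def mns (D : Dat) (ν : List ℕ) (L : List (ℕ × ℕ × ℕ)) (s : List (ℕ × ℤ)) :
    (List (ℕ × ℤ) → Bool) → Bool :=
  List.rec (fun κ => κ s) (fun p _ ih κ => cond (Nat.blt p.2.1 D.n) (frc (D.pwf p.2.1 p.2.2) fun u =>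
    cond (Nat.blt u D.n) (ih fun s' => frc (Nat.mul p.1 (D.cnt p.2.1)) fun x => frc (Nat.mul p.1 (ntd ν 0 u)) fun y =>
      κ ((u, Int.ofNat x) :: (p.2.1, Int.neg (Int.ofNat y)) :: s')) false) false) L

omit [Finite K] in
theorem vf_spv_cons {u : ℕ} (hu : u < D.n) (c : ℤ) (s : List (ℕ × ℤ)) :
    vf T A (spv ((u, c) :: s)) = num T A u * c + vf T A (spv s) := by
  rw [← vf_one hu, ← vf_add]
  rfl

theorem Hy.prs (H : Hy T R ν) {f : ℕ} {a : K} (hf : f ≤ fx A a) (L : List (ℕ × ℕ)) :
    ∀ {κ : ℕ → List (ℕ × ℤ) → Bool}, prs D ν f (T.ty a) L κ = true →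
      ∃ c s, κ c s = true ∧ (Nat.card A : ℤ) * c ≤ vf T A (spv s) := by
  induction L with
  | nil => exact fun h => ⟨0, [], h, by simp only [vf, spv, _root_.CharP.cast_eq_zero, _root_.MulZeroClass.mul_zero, _root_.Finset.sum_const_zero, _root_.Std.le_refl]⟩
  | cons p L ih =>
    intro κ h
    have h1 : (frc (D.pwf (T.ty a) p.2) fun u => Sp.prs D ν f (T.ty a) L fun c s =>
      frc (Nat.add (Nat.mul p.1 (Nat.mul f (ntd ν 0 u))) c) fun c' => frc (Nat.mul p.1 D.N) fun y =>
      κ c' ((u, Int.ofNat y) :: s)) = true := h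
    rw [frc_eq] at h1
    obtain ⟨c, s, h2, h3⟩ := ih h1
    rw [frc_eq, frc_eq] at h2
    refine ⟨_, _, h2, ?_⟩
    rw [← T.pow, vf_spv_cons (T.lt _)]
    have h4 : f * Nat.card A * ntd ν 0 (T.ty (a ^ p.2)) ≤ _ :=
      (Nat.mul_le_mul_right _ (Nat.mul_le_mul_right _ (hf.trans (fx_le_pow A a p.2)))).trans (H.den A (a ^ p.2))
    have h5 := Nat.mul_le_mul_left p.1 h4
    simp only [Nat.add_eq, Nat.mul_eq, Int.ofNat_eq_natCast]
    zify at h5
    push_cast
    linarith only [h3, h5]

theorem Hy.mns (H : Hy T R ν) (s : List (ℕ × ℤ)) (L : List (ℕ × ℕ × ℕ)) :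
    ∀ {κ : List (ℕ × ℤ) → Bool}, mns D ν L s κ = true → ∃ s', κ s' = true ∧ vf T A (spv s) ≤ vf T A (spv s') := by
  induction L with
  | nil => exact fun h => ⟨s, h, le_rfl⟩
  | cons p L ih =>
    intro κ h
    have h1 : cond (Nat.blt p.2.1 D.n) (frc (D.pwf p.2.1 p.2.2) fun u =>
      cond (Nat.blt u D.n) (Sp.mns D ν L s fun s' => frc (Nat.mul p.1 (D.cnt p.2.1)) fun x =>
        frc (Nat.mul p.1 (ntd ν 0 u)) fun y =>
      κ ((u, Int.ofNat x) :: (p.2.1, Int.neg (Int.ofNat y)) :: s')) false) false = true := h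
    obtain ⟨h2, h3⟩ := SM.Sp.cond_ff h1
    rw [frc_eq] at h3
    obtain ⟨h4, h5⟩ := SM.Sp.cond_ff h3
    rw [Nat.blt_eq] at h2 h4
    obtain ⟨s', h6, h7⟩ := ih h5
    rw [frc_eq, frc_eq] at h6
    refine ⟨_, h6, ?_⟩
    rw [vf_spv_cons h4, vf_spv_cons h2]
    have h8 := Nat.mul_le_mul_left p.1 (H.mono A h2 p.2.2)
    have h9 : ∀ z : ℤ, Int.neg z = -z := fun _ => rfl
    simp only [Nat.mul_eq, Int.ofNat_eq_natCast, h9]
    zify at h8
    push_cast
    linarith only [h7, h8]

/-- the types of the elements of `A` lie in `S` -/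
def Sup (T : TD K D) (A : Subgroup K) (S : List ℕ) : Prop := ∀ a ∈ A, T.ty a = 0 ∨ T.ty a ∈ S

/-- the vectors have non-negative sums on `A` -/
def Pos (T : TD K D) (A : Subgroup K) (W : List (List ℤ)) : Prop := ∀ w ∈ W, 0 ≤ _root_.Cfsg.Agent.SM.Sp.val T A w

omit [Finite K] in
theorem Pos.cmb {W : List (List ℤ)} (h : Pos T A W) (c : List (ℕ × ℕ)) : 0 ≤ vf T A (nth (_root_.Cfsg.Agent.SB.SporL.cmb W c)) := by
  induction c with
  | nil => exact (Finset.sum_eq_zero fun t _ => mul_zero _).ge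
  | cons p c ih =>
    have h1 : 0 ≤ vf T A (nth (ntd W [] p.2)) := by
      rcases ntd_mem W [] p.2 with h2 | h2
      · rw [h2]
        exact (Finset.sum_eq_zero fun t _ => mul_zero _).ge
      · exact h _ h2
    have h2 : ∀ t, nth (SB.SporL.cmb W (p :: c)) t = p.1 * nth (ntd W [] p.2) t + nth (SB.SporL.cmb W c) t :=
      fun t => nth_comb_cons W _ _ t
    simp only [vf] at h1 ih ⊢
    simp only [h2, mul_add, Finset.sum_add_distrib, mul_left_comm _ (p.1 : ℤ), ← Finset.mul_sum]
    exact add_nonneg (mul_nonneg (Int.natCast_nonneg _) h1) ih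

theorem Hy.pos (H : Hy T R ν) {X : List (List ℤ)} (hX : Pos T A X) : Pos T A (X ++ rowsP R) := fun w hw =>
  (List.mem_append.1 hw).elim (hX w) fun h => pos_rowsP H.tab w h A

/-- steps -/
inductive St : Type
  | pw (t k : ℕ) : St
  | fk (t : ℕ) (c : List (ℕ × ℕ)) (x y : ℕ) (p : List (ℕ × ℕ)) (m : List (ℕ × ℕ × ℕ)) : St

/-- membership -/
noncomputable def mem (S : List ℕ) (t : ℕ) : Bool := List.rec false (fun a _ ih => cond (Nat.beq a t) true ih) S

theorem mem_of {S : List ℕ} {t : ℕ} (h : t ∈ S) : mem S t = true := by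
  induction S with
  | nil => cases h
  | cons a S ih =>
    show cond (Nat.beq a t) true (mem S t) = true
    rcases List.mem_cons.1 h with rfl | h
    · rw [Nat.beq_refl, cond_true]
    · rw [ih h, Bool.cond_self]

/-- a filter which is evaluated -/
noncomputable def flt (p : ℕ → Bool) (S : List ℕ) : (List ℕ → Bool) → Bool :=
  List.rec (fun κ => κ []) (fun a _ ih κ => frc a fun b => cond (p b) (ih fun l => κ (b :: l)) (ih κ)) S

theorem flt_eq (p : ℕ → Bool) (S : List ℕ) (κ : List ℕ → Bool) : flt p S κ = κ (S.filter p) := by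
  induction S generalizing κ with
  | nil => rfl
  | cons a S ih =>
    show (frc a fun b => cond (p b) (flt p S fun l => κ (b :: l)) (flt p S κ)) = _
    rw [frc_eq, List.filter_cons]
    cases p a <;> simp [ih]

/-- the certificate of Farkas: the type `t` does not occur -/
noncomputable def far (D : Dat) (ν : List ℕ) (W : List (List ℤ)) (lo hi f : ℕ) (S : List ℕ) (t : ℕ) (c : List (ℕ × ℕ))
    (x y : ℕ) (p : List (ℕ × ℕ)) (m : List (ℕ × ℕ × ℕ)) : Bool :=
  frcLZ (_root_.Cfsg.Agent.SB.SporL.cmb W c) fun Ψ => prs D ν f t p fun k s => mns D ν m s fun s' =>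
    frcZ (Int.subNatNat y (Nat.add x k)) fun α =>
      cond (decide (nth Ψ 0 + spv s' 0 + α + Int.subNatNat (Nat.mul x hi) (Nat.mul y lo) < 0))
        (allL (fun u => decide (nth Ψ u + spv s' u + α ≤ 0)) S) false

theorem Hy.far (H : Hy T R ν) {W : List (List ℤ)} (hW : Pos T A W) {lo hi f : ℕ} (h1 : lo ≤ Nat.card A)
    (h2 : Nat.card A ≤ hi) {S : List ℕ} (hS : Sup T A S) {a : K} (hf : f ≤ fx A a) {c : List (ℕ × ℕ)} {x y : ℕ}
    {p : List (ℕ × ℕ)} {m : List (ℕ × ℕ × ℕ)} (h : far D ν W lo hi f S (T.ty a) c x y p m = true) : False := by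
  rw [Sp.far, frcLZ_eq] at h
  obtain ⟨k, s, h3, h4⟩ := H.prs hf p h
  obtain ⟨s', h5, h6⟩ := H.mns (A := A) s m h3
  rw [frcZ_eq] at h5
  obtain ⟨h7, h8⟩ := SM.Sp.cond_ff h5
  rw [decide_eq_true_eq] at h7
  simp only [Int.subNatNat_eq_coe, Nat.add_eq, Nat.mul_eq] at h7 h8
  have h9 := hW.cmb c
  set! F : ℕ → ℤ := fun u => nth (_root_.Cfsg.Agent.SB.SporL.cmb W c) u + spv s' u + ((y : ℤ) - ((x + k : ℕ) : ℤ)) with hF
  have e : vf T A F = vf T A (nth (_root_.Cfsg.Agent.SB.SporL.cmb W c)) + vf T A (spv s') + Nat.card A * ((y : ℤ) - ((x + k : ℕ) : ℤ)) := by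
    rw [hF, vf_add, vf_add, vf_const]
  have hn : 0 < D.n := Nat.lt_of_le_of_lt (Nat.zero_le _) (T.lt 1)
  have e2 : vf T A F ≤ F 0 := by
    rw [vf, ← Finset.add_sum_erase _ _ (mem_range.2 hn), H.num0, Nat.cast_one, one_mul, add_le_iff_nonpos_right]
    refine Finset.sum_nonpos fun u hu => ?_
    by_cases h0 : num T A u = 0
    · rw [h0, Nat.cast_zero, zero_mul]
    · obtain ⟨b, hb, rfl⟩ := num_ne h0
      refine mul_nonpos_of_nonneg_of_nonpos (Int.natCast_nonneg _) ?_
      exact of_decide_eq_true (allL_spec h8 _ ((hS b hb).resolve_left (Finset.mem_erase.1 hu).1))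
  have h10 := Nat.mul_le_mul_left x h2
  have h11 := Nat.mul_le_mul_left y h1
  have e3 : F 0 = nth (_root_.Cfsg.Agent.SB.SporL.cmb W c) 0 + spv s' 0 + ((y : ℤ) - ((x + k : ℕ) : ℤ)) := rfl
  zify at h10 h11
  push_cast at e e3 h7
  linarith only [h4, h6, h9, e2, h10, h11, e, e3, h7]

/-- the type of a step -/
def St.ty : St → ℕ
  | .pw t _ => t
  | .fk t _ _ _ _ _ => t

/-- the check of a step -/
noncomputable def stp (D : Dat) (ν : List ℕ) (W : List (List ℤ)) (lo hi f : ℕ) (S : List ℕ) (s : St) : Bool :=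
  St.rec (fun t k => frc (D.pwf t k) fun u => cond (Nat.beq u 0) false (!mem S u))
    (fun t c x y p m => far D ν W lo hi f S t c x y p m) s

/-- the steps for one range -/
noncomputable def run (D : Dat) (ν : List ℕ) (W : List (List ℤ)) (lo hi f : ℕ) (κ : List ℕ → Bool) (L : List St) :
    List ℕ → Bool :=
  List.rec κ (fun s _ ih S => cond (stp D ν W lo hi f S s)
    (frc s.ty fun t => cond (Nat.beq t 0) true (flt (fun u => !Nat.beq u t) S ih)) false) L

theorem Hy.stp (H : Hy T R ν) {W : List (List ℤ)} (hW : Pos T A W) {lo hi f : ℕ} (h1 : lo ≤ Nat.card A)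
    (h2 : Nat.card A ≤ hi) (hf : ∀ a ∈ A, f ≤ fx A a) {S : List ℕ} (hS : Sup T A S) {s : St}
    (h : stp D ν W lo hi f S s = true) {a : K} (ha : a ∈ A) : T.ty a ≠ s.ty := by
  intro e
  cases s with
  | pw t k =>
    have h3 : (frc (D.pwf t k) fun u => cond (Nat.beq u 0) false (!mem S u)) = true := h
    obtain rfl : T.ty a = t := e
    rw [frc_eq, ← T.pow] at h3
    rcases hS _ (A.pow_mem ha k) with h4 | h4
    · rw [h4] at h3
      cases h3
    · rw [mem_of h4] at h3
      generalize Nat.beq (T.ty (a ^ k)) 0 = z at h3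
      cases z <;> cases h3
  | fk t c x y p m =>
    obtain rfl : T.ty a = t := e
    exact H.far hW h1 h2 hS (hf a ha) h

theorem Hy.run (H : Hy T R ν) {W : List (List ℤ)} (hW : Pos T A W) {lo hi f : ℕ} (h1 : lo ≤ Nat.card A)
    (h2 : Nat.card A ≤ hi) (hf : ∀ a ∈ A, f ≤ fx A a) {κ : List ℕ → Bool} (L : List St) :
    ∀ {S : List ℕ}, Sup T A S → run D ν W lo hi f κ L S = true → ∃ S', Sup T A S' ∧ κ S' = true := by
  induction L with
  | nil => exact fun hS h => ⟨_, hS, h⟩
  | cons s L ih =>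
    intro S hS h
    have h3 : cond (Sp.stp D ν W lo hi f S s) (frc s.ty fun t => cond (Nat.beq t 0) true
      (flt (fun u => !Nat.beq u t) S (Sp.run D ν W lo hi f κ L))) false = true := h
    obtain ⟨h4, h5⟩ := SM.Sp.cond_ff h3
    have h6 := fun a (ha : a ∈ A) => H.stp hW h1 h2 hf hS h4 ha
    rw [frc_eq] at h5
    cases h7 : Nat.beq s.ty 0 with
    | true => exact absurd (((H.zero 1).2 rfl).trans (Nat.eq_of_beq_eq_true h7).symm) (h6 1 A.one_mem)
    | false =>
      rw [h7, cond_false, flt_eq] at h5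
      refine ih (fun a ha => (hS a ha).imp id fun h8 => List.mem_filter.2 ⟨h8, ?_⟩) h5
      rw [Bool.eq_false_iff.2 fun h9 => h6 a ha (Nat.eq_of_beq_eq_true h9)]
      rfl

/-- the result: the type, a lower and an upper bound for `|A|` -/
abbrev Out : Type := List (ℕ × ℕ × ℕ)

/-- all types of `S` have entries -/
noncomputable def fin (O : Out) (U lo hi : ℕ) (S : List ℕ) : Bool :=
  cond (Nat.ble hi U) (allL (fun t => O.any fun e => cond (Nat.beq e.1 t)
    (cond (Nat.ble e.2.1 lo) (Nat.ble hi e.2.2) false) false) S) false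

/-- the ranges `(lo, f, steps)` from `hi` down to `b + 1` -/
noncomputable def rngs (D : Dat) (ν : List ℕ) (W : List (List ℤ)) (S : List ℕ) (O : Out) (U b : ℕ)
    (L : List (ℕ × ℕ × List St)) : ℕ → Bool :=
  List.rec (fun hi => Nat.ble hi b) (fun r _ ih hi =>
    cond (Nat.ble (Nat.mul (Nat.pow (Nat.sub r.2.1 1) 3) hi) D.N)
      (cond (flt (fun t => Nat.ble (Nat.mul r.2.1 (ntd ν 0 t)) D.N) S (run D ν W r.1 hi r.2.1 (fin O U r.1 hi) r.2.2))
        (frc (Nat.sub r.1 1) ih) false) false) L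

/-- evaluate rows -/
noncomputable def frcW (L : List (List ℤ)) : (List (List ℤ) → Bool) → Bool :=
  List.rec (fun κ => κ []) (fun r _ ih κ => frcLZ r fun y => ih fun L' => κ (y :: L')) L

theorem frcW_eq (L : List (List ℤ)) (κ : List (List ℤ) → Bool) : frcW L κ = κ L := by
  induction L generalizing κ with
  | nil => rfl
  | cons r L ih =>
    show (frcLZ r fun y => frcW L fun L' => κ (y :: L')) = _
    rw [frcLZ_eq, ih]

/-- **the check**: extra vectors `X` (indices `0, 1, ..`, the rows of the table follow), types `S`, orders in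
`(b, hi]` -/
noncomputable def chk (D : Dat) (R : Rows) (ν : List ℕ) (X : List (List ℤ)) (S : List ℕ) (O : Out) (U b hi : ℕ)
    (L : List (ℕ × ℕ × List St)) : Bool :=
  frcL ν fun ν' => frcW (X ++ rowsP R) fun W => rngs D ν' W S O U b L hi

/-- the conclusion -/
def Res (T : TD K D) (A : Subgroup K) (O : Out) (U : ℕ) : Prop :=
  Nat.card A ≤ U ∧ ∀ a ∈ A, T.ty a = 0 ∨ ∃ e ∈ O, T.ty a = e.1 ∧ e.2.1 ≤ Nat.card A ∧ Nat.card A ≤ e.2.2

theorem Hy.rngs (H : Hy T R ν) (hb : ¬ _root_.Cfsg.Agent.FP3.Good A) {W : List (List ℤ)} (hW : Pos T A W) {S : List ℕ} (hS : Sup T A S)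
    {O : Out} {U b : ℕ} (h0 : b < Nat.card A) (L : List (ℕ × ℕ × List St)) :
    ∀ {hi : ℕ}, Nat.card A ≤ hi → rngs D ν W S O U b L hi = true → Res T A O U := by
  induction L with
  | nil => exact fun h1 h => absurd (Nat.le_of_ble_eq_true h) (by omega)
  | cons r L ih =>
    intro hi h1 h
    have h2 : cond (Nat.ble (Nat.mul (Nat.pow (Nat.sub r.2.1 1) 3) hi) D.N)
      (cond (flt (fun t => Nat.ble (Nat.mul r.2.1 (ntd ν 0 t)) D.N) S (Sp.run D ν W r.1 hi r.2.1 (fin O U r.1 hi) r.2.2))
        (frc (Nat.sub r.1 1) (Sp.rngs D ν W S O U b L)) false) false = true := h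
    obtain ⟨h3, h4⟩ := SM.Sp.cond_ff h2
    obtain ⟨h5, h6⟩ := SM.Sp.cond_ff h4
    rcases Nat.lt_or_ge (Nat.card A) r.1 with h7 | h7
    · rw [frc_eq] at h6
      exact ih (Nat.le_sub_one_of_lt h7) h6
    have hf : ∀ a ∈ A, r.2.1 ≤ fx A a := fun a ha => H.le_fx hb h1 (Nat.le_of_ble_eq_true h3) ha
    rw [flt_eq] at h5
    obtain ⟨S', h8, h9⟩ := H.run hW h7 h1 hf r.2.2 (fun a ha => (hS a ha).imp id fun h8 => List.mem_filter.2 ⟨h8, by
      refine Nat.ble_eq_true_of_le (Nat.le_of_mul_le_mul_right ?_ (Nat.card_pos (α := A)))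
      rw [Nat.mul_eq, mul_right_comm]
      exact ((Nat.mul_le_mul_right _ (Nat.mul_le_mul_right _ (hf a ha))).trans (H.den A a)).trans
        (Nat.mul_le_mul_left _ (num_le A _))⟩) h5
    obtain ⟨h10, h11⟩ := SM.Sp.cond_ff h9
    refine ⟨h1.trans (Nat.le_of_ble_eq_true h10), fun a ha => (h8 a ha).imp id fun h12 => ?_⟩
    obtain ⟨e, h13, h14⟩ := List.any_eq_true.1 (allL_spec h11 _ h12)
    obtain ⟨h15, h16⟩ := SM.Sp.cond_ff h14
    obtain ⟨h17, h18⟩ := SM.Sp.cond_ff h16
    exact ⟨e, h13, (Nat.eq_of_beq_eq_true h15).symm, (Nat.le_of_ble_eq_true h17).trans h7,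
      h1.trans (Nat.le_of_ble_eq_true h18)⟩

/-- **the engine** -/
theorem Hy.res (H : Hy T R ν) (hb : ¬ _root_.Cfsg.Agent.FP3.Good A) {X : List (List ℤ)} (hX : Pos T A X) {S : List ℕ} (hS : Sup T A S)
    {O : Out} {U b hi : ℕ} (h0 : b < Nat.card A) (h1 : Nat.card A ≤ hi) {L : List (ℕ × ℕ × List St)}
    (h : chk D R ν X S O U b hi L = true) : Res T A O U := by
  rw [chk, frcL_eq, frcW_eq] at h
  exact H.rngs hb (H.pos hX) hS h0 L h1 h

omit [Finite K] in
theorem sup_all (A : Subgroup K) : Sup T A (List.range' 1 (D.n - 1)) := fun a _ => by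
  have := T.lt a
  rw [List.mem_range'_1]
  omega

omit [Finite K] in
theorem pos_nil (A : Subgroup K) : Pos T A [] := fun _ h => absurd h List.not_mem_nil

/-- the start: a proper subgroup has index above the least degree -/
theorem Hy.card_le (H : Hy T R ν) {md : ℕ} (h : okMd R md = true) (hA : A ≠ ⊤) : Nat.card A ≤ D.N / (md + 1) := by
  rw [Nat.le_div_iff_mul_le md.succ_pos, ← H.mass.1, ← A.index_mul_card, mul_comm]
  exact Nat.mul_le_mul_right _ (md_lt H.tab h hA)

omit [Finite K] in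
theorem Res.sup {O : Out} {U : ℕ} (h : Res T A O U) : Sup T A (O.map Prod.fst) := fun a ha =>
  (h.2 a ha).imp id fun ⟨e, h1, h2, _⟩ => List.mem_map.2 ⟨e, h1, h2.symm⟩

omit [Finite K] in
theorem Sup.mono {S S' : List ℕ} (h : Sup T A S) (h' : S.all (fun t => S'.contains t) = true) : Sup T A S' :=
  fun a ha => (h a ha).imp id fun h1 => by simpa using List.all_eq_true.1 h' _ h1

/-- differences `(χ a + χ b) - (χ a - χ c)` of rows -/
noncomputable def subL (R : Rows) (P : List (ℕ × ℕ)) : List (List ℤ) :=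
  mapL (fun p => addL (ntd R.rel ([], []) p.1).2 ((ntd R.rel ([], []) p.2).2.map (Int.mul (-1)))) P

/-- the shape of the constituents -/
noncomputable def okSub (R : Rows) (P : List (ℕ × ℕ)) : Bool :=
  okIdx R && allL (fun p => match (ntd R.rel ([], []) p.1).1, (ntd R.rel ([], []) p.2).1 with
    | [a, b], [c, d] => decide (a = c) && decide (0 ≤ b.2) && decide (d.2 ≤ 0)
    | _, _ => false) P

theorem Hy.pos_subL (H : Hy T R ν) (A : Subgroup K) {P : List (ℕ × ℕ)} (h : okSub R P = true) : Pos T A (subL R P) := by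
  intro w hw
  rw [subL, mapL_eq] at hw
  obtain ⟨p, hp, rfl⟩ := List.mem_map.1 hw
  rw [okSub, Bool.and_eq_true] at h
  have h1 := allL_spec h.2 p hp
  have := Fintype.ofFinite A
  obtain ⟨χ, hE, hR⟩ := H.tab
  obtain ⟨m, hm, -⟩ := SM.Sp.exists_mults hE A
  have h2 := (SM.Sp.val_mult hR h.1 hm p.1).2
  have h3 := (SM.Sp.val_mult hR h.1 hm p.2).2
  have h4 : _root_.Cfsg.Agent.SM.Sp.val T A (addL (ntd R.rel ([], []) p.1).2 ((ntd R.rel ([], []) p.2).2.map (Int.mul (-1)))) =
      _root_.Cfsg.Agent.SM.Sp.val T A (ntd R.rel ([], []) p.1).2 - _root_.Cfsg.Agent.SM.Sp.val T A (ntd R.rel ([], []) p.2).2 := by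
    simp only [SM.Sp.val, nth_addL, nth_map_mul, ← Finset.sum_sub_distrib]
    exact Finset.sum_congr rfl fun t _ => by ring
  rw [h4, h2, h3, ← mul_sub]
  refine mul_nonneg (Int.natCast_nonneg _) ?_
  split at h1
  · rename_i a b c d e1 e2
    simp only [Bool.and_eq_true, decide_eq_true_eq] at h1
    obtain ⟨⟨rfl, h5⟩, h6⟩ := h1
    rw [e1, e2]
    simp only [List.map_cons, List.map_nil, List.sum_cons, List.sum_nil]
    linarith only [mul_nonneg h5 (Int.natCast_nonneg (m b.1)), mul_nonneg (neg_nonneg.2 h6) (Int.natCast_nonneg (m d.1))]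
  · cases h1

/-! ### packed rows -/

/-- the number with the digits `F u`, `u < n` -/
def vl (B n : ℕ) (F : ℕ → ℤ) : ℤ := ∑ u ∈ range n, F u * (B : ℤ) ^ u

theorem vl_succ (B n : ℕ) (F : ℕ → ℤ) : vl B (n + 1) F = F 0 + B * vl B n fun u => F (u + 1) := by
  rw [vl, vl, Finset.sum_range_succ', Finset.mul_sum, pow_zero, mul_one, add_comm]
  exact congrArg _ (Finset.sum_congr rfl fun u _ => by ring)

theorem vl_lin (B n : ℕ) (F G : ℕ → ℤ) (k : ℤ) : vl B n (fun u => F u + k * G u) = vl B n F + k * vl B n G := by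
  simp only [vl, add_mul, Finset.sum_add_distrib, Finset.mul_sum, mul_assoc]

theorem vl_lane {B : ℕ} (n : ℕ) : ∀ {x : ℕ} {F : ℕ → ℤ}, (x : ℤ) = vl B n F → (∀ u, 0 ≤ F u ∧ F u < B) → ∀ u < n,
    ((x / B ^ u % B : ℕ) : ℤ) = F u := by
  induction n with
  | zero => exact fun _ _ u hu => absurd hu (Nat.not_lt_zero u)
  | succ n ih =>
    intro x F e h u hu
    rw [vl_succ] at e
    have h0 := h 0
    cases u with
    | zero =>
      rw [pow_zero, Nat.div_one, Int.natCast_mod, e, Int.add_mul_emod_self_left, Int.emod_eq_of_lt h0.1 h0.2]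
    | succ u =>
      rw [pow_succ', ← Nat.div_div_eq_div_mul]
      refine ih (F := fun u => F (u + 1)) ?_ (fun u => h _) u (Nat.lt_of_succ_lt_succ hu)
      rw [Int.natCast_div, e, Int.add_mul_ediv_left _ _ (h0.1.trans_lt h0.2).ne', Int.ediv_eq_zero_of_lt h0.1 h0.2, zero_add]

/-- the positive and the negative part of a row -/
noncomputable def pkR (M w : ℕ) (κ : ℕ → ℕ → ℕ → Bool) (r : List ℤ) : ℕ → ℕ → ℕ → Bool :=
  List.rec κ (fun a _ ih s P Q => frc (Nat.add s w) fun s' => Int.rec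
    (fun m => cond (Nat.ble m M) (ih s' (Nat.add P (Nat.shiftLeft m s)) Q) false)
    (fun m => cond (Nat.blt m M) (ih s' P (Nat.add Q (Nat.shiftLeft (Nat.succ m) s))) false) a) r

theorem pkR_spec {M w : ℕ} {κ : ℕ → ℕ → ℕ → Bool} (r : List ℤ) : ∀ {i P Q : ℕ}, pkR M w κ r (w * i) P Q = true →
    ∃ P' Q', κ (w * (i + r.length)) P' Q' = true ∧ (∀ u, |nth r u| ≤ M) ∧
      ∀ n, r.length ≤ n → (P' : ℤ) - Q' = P - Q + (2 ^ w) ^ i * vl (2 ^ w) n (nth r) := by
  induction r with
  | nil =>
    exact fun {i P Q} h => ⟨P, Q, h, fun _ => Int.natCast_nonneg M, fun n _ => by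
      rw [show vl (2 ^ w) n (nth []) = 0 from Finset.sum_eq_zero fun _ _ => zero_mul _, mul_zero, add_zero]⟩
  | cons a r ih =>
    intro i P Q h
    have key : ∀ P₁ Q₁ : ℕ, pkR M w κ r (Nat.add (w * i) w) P₁ Q₁ = true → |a| ≤ M →
        (P₁ : ℤ) - Q₁ = P - Q + (2 ^ w) ^ i * a → ∃ P' Q', κ (w * (i + (a :: r).length)) P' Q' = true ∧
          (∀ u, |nth (a :: r) u| ≤ M) ∧
          ∀ n, (a :: r).length ≤ n → (P' : ℤ) - Q' = P - Q + (2 ^ w) ^ i * vl (2 ^ w) n (nth (a :: r)) := by
      intro P₁ Q₁ h1 h2 h3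
      obtain ⟨P', Q', h4, h5, h6⟩ := ih (i := i + 1) h1
      refine ⟨P', Q', by rwa [List.length_cons, add_comm r.length, ← add_assoc], fun u => ?_, fun n hn => ?_⟩
      · cases u with
        | zero => exact h2
        | succ u => exact h5 u
      · obtain ⟨n, rfl⟩ := Nat.exists_eq_succ_of_ne_zero (n := n) fun e => absurd (e ▸ hn) (Nat.not_succ_le_zero _)
        rw [h6 n (Nat.le_of_succ_le_succ hn), h3, vl_succ]
        show _ = _ + _ * (a + _ * vl (2 ^ w) n (nth r))
        push_cast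
        ring
    cases a with
    | ofNat m =>
      have h1 : (frc (Nat.add (w * i) w) fun s' => cond (Nat.ble m M)
        (pkR M w κ r s' (Nat.add P (Nat.shiftLeft m (w * i))) Q) false) = true := h
      rw [frc_eq] at h1
      obtain ⟨h2, h3⟩ := SM.Sp.cond_ff h1
      refine key _ _ h3 (by simpa using h2) ?_
      rw [Nat.add_eq, Nat.shiftLeft_eq', Nat.shiftLeft_eq, pow_mul, Int.ofNat_eq_natCast]
      push_cast
      ring
    | negSucc m =>
      have h1 : (frc (Nat.add (w * i) w) fun s' => cond (Nat.blt m M)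
        (pkR M w κ r s' P (Nat.add Q (Nat.shiftLeft (Nat.succ m) (w * i)))) false) = true := h
      rw [frc_eq] at h1
      obtain ⟨h2, h3⟩ := SM.Sp.cond_ff h1
      rw [Nat.blt_eq] at h2
      refine key _ _ h3 (by rw [Int.negSucc_eq, abs_neg, abs_of_nonneg (by omega)]; omega) ?_
      rw [Nat.add_eq, Nat.shiftLeft_eq', Nat.shiftLeft_eq, pow_mul, Int.negSucc_eq]
      push_cast
      ring

/-- the numbers `V` are the rows from the index `i` on, with the offset `M` -/
def PK (n M B : ℕ) (W : List (List ℤ)) (V : List ℕ) (i : ℕ) : Prop :=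
  ∀ j x : ℕ, V[j]? = some x → (∀ u, |nth (ntd W [] (i + j)) u| ≤ M) ∧ (x : ℤ) = vl B n fun u => nth (ntd W [] (i + j)) u + M

/-- the offset -/
noncomputable def ofs (M B n : ℕ) : ℕ := Nat.rec 0 (fun _ ih => Nat.add M (Nat.mul B ih)) n

theorem ofs_eq (M B n : ℕ) : (ofs M B n : ℤ) = vl B n fun _ => M := by
  induction n with
  | zero => rfl
  | succ n ih =>
    rw [vl_succ, ← ih]
    exact_mod_cast rfl

/-- pack the rows -/
noncomputable def pkV (M w s o : ℕ) (L : List (List ℤ)) : (List ℕ → Bool) → Bool :=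
  List.rec (fun κ => κ []) (fun r _ ih κ => pkR M w (fun s' P Q => cond (Nat.ble s' s) (cond (Nat.ble Q (Nat.add P o))
    (frc (Nat.sub (Nat.add P o) Q) fun x => ih fun V => κ (x :: V)) false) false) r 0 0 0) L

/-- pack the rows -/
noncomputable def pkW (n M w B : ℕ) (L : List (List ℤ)) (κ : List ℕ → Bool) : Bool :=
  cond (Nat.blt 0 w) (frc n fun n' => frc (Nat.mul w n') fun s => frc (ofs M B n') fun o => pkV M w s o L κ) false

theorem pkW_spec {n M w B : ℕ} (hB : B = 2 ^ w) {L : List (List ℤ)} {κ : List ℕ → Bool} (h : pkW n M w B L κ = true) :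
    ∃ V, κ V = true ∧ PK n M B L V 0 := by
  obtain ⟨hw, h'⟩ := SM.Sp.cond_ff h
  clear h
  rename' h' => h
  rw [frc_eq, frc_eq, frc_eq] at h
  rw [Nat.blt_eq] at hw
  induction L generalizing κ with
  | nil => exact ⟨[], h, fun j x e => by simp at e⟩
  | cons r L ih =>
    obtain ⟨P, Q, h1, h2, h3⟩ := pkR_spec (i := 0) r h
    obtain ⟨h4, h5⟩ := SM.Sp.cond_ff h1
    obtain ⟨h6, h7⟩ := SM.Sp.cond_ff h5
    rw [frc_eq] at h7
    obtain ⟨V, h8, h9⟩ := ih h7
    refine ⟨_, h8, fun j x e => ?_⟩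
    rw [zero_add]
    cases j with
    | succ j =>
      have h10 := h9 j x e
      rw [zero_add] at h10
      exact h10
    | zero =>
      obtain rfl : P + ofs M B n - Q = x := Option.some.inj e
      refine ⟨h2, ?_⟩
      rw [Nat.ble_eq, zero_add] at h4
      rw [Nat.cast_sub (m := Q) (n := P + ofs M B n) (Nat.le_of_ble_eq_true h6), Nat.cast_add, add_sub_right_comm,
        h3 n (Nat.le_of_mul_le_mul_left h4 hw), ofs_eq, ← hB, Nat.cast_zero, sub_zero, pow_zero, zero_add, add_comm, ← vl_lin]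
      exact congrArg _ (funext fun u => by rw [one_mul, add_comm]; rfl)

/-- drop -/
noncomputable def drp (j : ℕ) : List ℕ → List ℕ :=
  Nat.rec (fun V => V) (fun _ ih V => List.rec [] (fun _ V' _ => ih V') V) j

theorem drp_eq (j : ℕ) : ∀ V, drp j V = V.drop j := by
  induction j with
  | zero => exact fun _ => rfl
  | succ j ih =>
    intro V
    cases V with
    | nil => rfl
    | cons a V => exact ih V

/-- the combination of the packed rows; the indices increase -/
noncomputable def cmP (κ : ℕ → ℕ → Bool) (c : List (ℕ × ℕ)) : List ℕ → ℕ → ℕ → ℕ → Bool :=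
  List.rec (fun _ _ => κ) (fun p _ ih V i X C => cond (Nat.ble i p.2)
    (List.rec false (fun x V' _ => frc (Nat.add X (Nat.mul p.1 x)) fun X' => frc (Nat.add C p.1) (ih V' (Nat.succ p.2) X'))
      (drp (Nat.sub p.2 i) V)) false) c

theorem cmP_spec {n M B : ℕ} {W : List (List ℤ)} {κ : ℕ → ℕ → Bool} (c : List (ℕ × ℕ)) :
    ∀ {V : List ℕ} {i X C : ℕ} {G : ℕ → ℤ}, PK n M B W V i → cmP κ c V i X C = true → (∀ u, |G u| ≤ C * M) →
      ((X : ℤ) = vl B n fun u => G u + C * M) → ∃ X' C' : ℕ, κ X' C' = true ∧ (∀ u, |G u + nth (_root_.Cfsg.Agent.SB.SporL.cmb W c) u| ≤ C' * M) ∧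
        (X' : ℤ) = vl B n fun u => G u + nth (cmb W c) u + C' * M := by
  induction c with
  | nil =>
    intro V i X C G _ h h1 h2
    have e : ∀ u, G u + nth (_root_.Cfsg.Agent.SB.SporL.cmb W []) u = G u := fun u => add_zero _
    exact ⟨X, C, h, by simpa only [e] using h1, by simpa only [e] using h2⟩
  | cons p c ih =>
    intro V i X C G hV h h1 h2
    obtain ⟨h3, h4⟩ := SM.Sp.cond_ff h
    rw [Nat.ble_eq] at h3
    rw [drp_eq, Nat.sub_eq] at h4
    cases e : V.drop (p.2 - i) with
    | nil =>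
      rw [e] at h4
      cases h4
    | cons x V' =>
      rw [e] at h4
      have h5 : (frc (Nat.add X (Nat.mul p.1 x)) fun X' => frc (Nat.add C p.1) (cmP κ c V' (Nat.succ p.2) X')) = true := h4
      rw [frc_eq, frc_eq] at h5
      have h6 : ∀ j, (x :: V')[j]? = V[p.2 - i + j]? := fun j => by rw [← e, List.getElem?_drop]
      obtain ⟨h7, h8⟩ := hV _ x (h6 0).symm
      rw [add_zero, Nat.add_sub_cancel' h3] at h7 h8
      have h9 : ∀ t, G t + nth (_root_.Cfsg.Agent.SB.SporL.cmb W (p :: c)) t = G t + p.1 * nth (ntd W [] p.2) t + nth (_root_.Cfsg.Agent.SB.SporL.cmb W c) t :=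
        fun t => (congrArg _ (nth_comb_cons W _ _ t)).trans (add_assoc _ _ _).symm
      simp only [h9]
      refine ih (fun j y hy => ?_) h5 (fun u => ?_) ?_
      · have h10 := hV _ y ((h6 (j + 1)).symm.trans hy)
        rwa [show i + (p.2 - i + (j + 1)) = p.2.succ + j by omega] at h10
      · refine (abs_add_le _ _).trans ?_
        rw [abs_mul, Nat.abs_cast, Nat.add_eq, Nat.cast_add, add_mul]
        exact add_le_add (h1 u) (mul_le_mul_of_nonneg_left (h7 u) (Int.natCast_nonneg _))
      · rw [Nat.add_eq, Nat.add_eq, Nat.mul_eq, Nat.cast_add, Nat.cast_mul, h2, h8, ← vl_lin, Nat.cast_add]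
        exact congrArg _ (funext fun u => by ring)

/-- the certificate of Farkas on the packed rows -/
noncomputable def far2 (D : Dat) (ν V : List ℕ) (n M w B lo hi f : ℕ) (S : List ℕ) (t : ℕ) (c : List (ℕ × ℕ))
    (x y : ℕ) (p : List (ℕ × ℕ)) (m : List (ℕ × ℕ × ℕ)) : Bool :=
  cmP (fun X C => frc (Nat.mul C M) fun E => cond (Nat.blt (Nat.mul 2 E) B) (prs D ν f t p fun k s => mns D ν m s fun s' =>
    frcZ (Int.subNatNat y (Nat.add (Nat.add x k) E)) fun α =>
      cond (decide (Int.ofNat (Nat.mod X B) + spv s' 0 + α + Int.subNatNat (Nat.mul x hi) (Nat.mul y lo) < 0))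
        (allL (fun u => cond (Nat.blt u n) (cond (allL (fun q => cond (Nat.beq u q.1) false true) s')
          (Nat.ble (Nat.add (Nat.mod (Nat.shiftRight X (Nat.mul w u)) B) y) (Nat.add (Nat.add x k) E))
          (decide (Int.ofNat (Nat.mod (Nat.shiftRight X (Nat.mul w u)) B) + spv s' u + α ≤ 0))) false) S)
        false) false) c V 0 0 0

theorem spv_zero {u : ℕ} {s : List (ℕ × ℤ)} (h : allL (fun q => cond (Nat.beq u q.1) false true) s = true) : spv s u = 0 := by
  induction s with
  | nil => rfl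
  | cons q s ih =>
    obtain ⟨h1, h2⟩ := SM.Sp.cond_ff h
    show Int.add (cond (Nat.beq u q.1) q.2 0) (spv s u) = 0
    rw [ih h2]
    replace h1 : cond (Nat.beq u q.1) false true = true := h1
    revert h1
    cases Nat.beq u q.1 with
    | true => exact fun h1 => Bool.noConfusion h1
    | false => exact fun _ => rfl

theorem prs_mono {f t : ℕ} (L : List (ℕ × ℕ)) : ∀ {κ κ' : ℕ → List (ℕ × ℤ) → Bool},
    (∀ c s, κ c s = true → κ' c s = true) → prs D ν f t L κ = true → prs D ν f t L κ' = true := by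
  induction L with
  | nil => exact fun h => h 0 []
  | cons p L ih =>
    intro κ κ' h h1
    have h3 : (frc (D.pwf t p.2) fun u => prs D ν f t L fun c s =>
      frc (Nat.add (Nat.mul p.1 (Nat.mul f (ntd ν 0 u))) c) fun c' => frc (Nat.mul p.1 D.N) fun y =>
      κ c' ((u, Int.ofNat y) :: s)) = true := h1
    show (frc (D.pwf t p.2) fun u => prs D ν f t L fun c s =>
      frc (Nat.add (Nat.mul p.1 (Nat.mul f (ntd ν 0 u))) c) fun c' => frc (Nat.mul p.1 D.N) fun y =>
      κ' c' ((u, Int.ofNat y) :: s)) = true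
    rw [frc_eq] at h3 ⊢
    refine ih (fun c s h2 => ?_) h3
    rw [frc_eq, frc_eq] at h2 ⊢
    exact h _ _ h2

theorem mns_mono {s : List (ℕ × ℤ)} (L : List (ℕ × ℕ × ℕ)) : ∀ {κ κ' : List (ℕ × ℤ) → Bool},
    (∀ s, κ s = true → κ' s = true) → mns D ν L s κ = true → mns D ν L s κ' = true := by
  induction L with
  | nil => exact fun h => h s
  | cons p L ih =>
    intro κ κ' h h1
    obtain ⟨h2, h3⟩ := SM.Sp.cond_ff h1
    rw [frc_eq] at h3
    obtain ⟨h4, h5⟩ := SM.Sp.cond_ff h3
    show cond (Nat.blt p.2.1 D.n) (frc (D.pwf p.2.1 p.2.2) fun u => cond (Nat.blt u D.n) (mns D ν L s _) false) false = true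
    rw [h2, cond_true, frc_eq, h4, cond_true]
    refine ih (fun s' h6 => ?_) h5
    rw [frc_eq, frc_eq] at h6 ⊢
    exact h _ h6

theorem allL_mono {β : Type} {f g : β → Bool} (h : ∀ a, f a = true → g a = true) {L : List β} (h1 : allL f L = true) :
    allL g L = true := by
  induction L with
  | nil => rfl
  | cons a L ih =>
    obtain ⟨h2, h3⟩ := SM.Sp.cond_ff h1
    show cond (g a) (allL g L) false = true
    rw [h a h2, ih h3, cond_true]

section
variable {W : List (List ℤ)} {V : List ℕ} {n M w B : ℕ} (hV : PK n M B W V 0) (hB : B = 2 ^ w) (hn : 0 < n)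
include hV hB hn

theorem far_of {lo hi f : ℕ} {S : List ℕ} {t : ℕ} {c : List (ℕ × ℕ)} {x y : ℕ} {p : List (ℕ × ℕ)} {m : List (ℕ × ℕ × ℕ)}
    (h : far2 D ν V n M w B lo hi f S t c x y p m = true) : far D ν W lo hi f S t c x y p m = true := by
  obtain ⟨X, C, h, g1, g2⟩ := cmP_spec (G := fun _ => 0) c hV h (fun _ => by simp) (by simp [vl])
  rw [frc_eq] at h
  obtain ⟨g3, h⟩ := SM.Sp.cond_ff h
  simp only [zero_add] at g1 g2
  rw [Nat.blt_eq, Nat.mul_eq, Nat.mul_eq] at g3
  have g4 := vl_lane _ g2 fun u => by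
    have := abs_le.1 (g1 u)
    zify at g3
    constructor <;> linarith only [g3, this.1, this.2]
  refine (frcLZ_eq _ _).trans (prs_mono p (fun k s => mns_mono m fun s' h5 => ?_) h)
  rw [frcZ_eq] at h5 ⊢
  obtain ⟨h7, h8⟩ := SM.Sp.cond_ff h5
  rw [decide_eq_true_eq] at h7
  simp only [Int.subNatNat_eq_coe, Nat.add_eq, Nat.mul_eq, show ∀ a b, Nat.mod a b = a % b from fun _ _ => rfl,
    Int.ofNat_eq_natCast, Nat.shiftRight_eq, Nat.shiftRight_eq_div_pow, pow_mul, ← hB] at h7 h8 ⊢
  have g6 := g4 0 hn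
  rw [pow_zero, Nat.div_one] at g6
  rw [g6] at h7
  rw [decide_eq_true (by push_cast at h7 ⊢; linarith only [h7]), cond_true]
  refine allL_mono (fun u h9 => decide_eq_true ?_) h8
  obtain ⟨g5, g8⟩ := SM.Sp.cond_ff h9
  have g7 := g4 u (Nat.blt_eq.mp g5)
  revert g8
  cases g9 : allL (fun q => cond (Nat.beq u q.1) false true) s' with
  | true =>
    intro g8
    rw [cond_true, Nat.ble_eq, ← Int.ofNat_le, Nat.cast_add, g7] at g8
    rw [spv_zero g9]
    push_cast at g8 ⊢
    linarith only [g8]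
  | false =>
    intro g8
    rw [cond_false, decide_eq_true_eq, g7] at g8
    push_cast at g8 ⊢
    linarith only [g8]

end

/-- the steps for one range on the packed rows -/
noncomputable def run2 (D : Dat) (ν V : List ℕ) (n M w B lo hi f : ℕ) (κ : List ℕ → Bool) (L : List St) :
    List ℕ → Bool :=
  List.rec κ (fun s _ ih S => cond (St.rec (fun t k => stp D ν [] lo hi f S (.pw t k))
      (fun t c x y p m => far2 D ν V n M w B lo hi f S t c x y p m) s)
    (frc s.ty fun t => cond (Nat.beq t 0) true (flt (fun u => !Nat.beq u t) S ih)) false) L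

/-- the ranges on the packed rows -/
noncomputable def rngs2 (D : Dat) (ν V : List ℕ) (n M w B : ℕ) (S : List ℕ) (O : Out) (U b : ℕ)
    (L : List (ℕ × ℕ × List St)) : ℕ → Bool :=
  List.rec (fun hi => Nat.ble hi b) (fun r _ ih hi =>
    cond (Nat.ble (Nat.mul (Nat.pow (Nat.sub r.2.1 1) 3) hi) D.N)
      (cond (flt (fun t => Nat.ble (Nat.mul r.2.1 (ntd ν 0 t)) D.N) S (run2 D ν V n M w B r.1 hi r.2.1 (fin O U r.1 hi) r.2.2))
        (frc (Nat.sub r.1 1) ih) false) false) L

/-- **the check on the packed rows** -/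
noncomputable def chkP (D : Dat) (R : Rows) (ν : List ℕ) (X : List (List ℤ)) (S : List ℕ) (O : Out) (U b hi : ℕ)
    (L : List (ℕ × ℕ × List St)) : Bool :=
  frcL ν fun ν' => frc D.n fun n => frc D.N fun M => frc (Nat.add (Nat.log2 M) 200) fun w => frc (Nat.pow 2 w) fun B =>
    cond (Nat.blt 0 n) (pkW n M w B (X ++ rowsP R) fun V => rngs2 D ν' V n M w B S O U b L hi) false

section
variable {W : List (List ℤ)} {V : List ℕ} {n M w B : ℕ} (hV : PK n M B W V 0) (hB : B = 2 ^ w) (hn : 0 < n)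
include hV hB hn

theorem run_of {lo hi f : ℕ} {κ : List ℕ → Bool} (L : List St) :
    ∀ {S : List ℕ}, run2 D ν V n M w B lo hi f κ L S = true → run D ν W lo hi f κ L S = true := by
  induction L with
  | nil => exact id
  | cons s L ih =>
    intro S h
    obtain ⟨h1, h2⟩ := SM.Sp.cond_ff h
    have h3 : stp D ν W lo hi f S s = true := by
      cases s with
      | pw t k => exact h1
      | fk t c x y p m => exact far_of hV hB hn h1
    show cond (stp D ν W lo hi f S s) (frc s.ty fun t => cond (Nat.beq t 0) true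
      (flt (fun u => !Nat.beq u t) S (run D ν W lo hi f κ L))) false = true
    rw [frc_eq, flt_eq] at h2
    rw [h3, cond_true, frc_eq, flt_eq]
    revert h2
    cases Nat.beq s.ty 0 with
    | true => exact fun _ => rfl
    | false => exact ih

theorem rngs_of {S : List ℕ} {O : Out} {U b : ℕ} (L : List (ℕ × ℕ × List St)) :
    ∀ {hi : ℕ}, rngs2 D ν V n M w B S O U b L hi = true → rngs D ν W S O U b L hi = true := by
  induction L with
  | nil => exact id
  | cons r L ih =>
    intro hi h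
    obtain ⟨h1, h2⟩ := SM.Sp.cond_ff h
    obtain ⟨h3, h4⟩ := SM.Sp.cond_ff h2
    show cond (Nat.ble (Nat.mul (Nat.pow (Nat.sub r.2.1 1) 3) hi) D.N)
      (cond (flt (fun t => Nat.ble (Nat.mul r.2.1 (ntd ν 0 t)) D.N) S (run D ν W r.1 hi r.2.1 (fin O U r.1 hi) r.2.2))
        (frc (Nat.sub r.1 1) (rngs D ν W S O U b L)) false) false = true
    rw [flt_eq] at h3
    rw [frc_eq] at h4
    rw [h1, cond_true, flt_eq, run_of hV hB hn _ h3, cond_true, frc_eq, ih h4]

end

theorem chk_of {X : List (List ℤ)} {S : List ℕ} {O : Out} {U b hi : ℕ} {L : List (ℕ × ℕ × List St)}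
    (h : chkP D R ν X S O U b hi L = true) : chk D R ν X S O U b hi L = true := by
  rw [chkP, frcL_eq, frc_eq, frc_eq, frc_eq, frc_eq] at h
  obtain ⟨h1, h2⟩ := SM.Sp.cond_ff h
  obtain ⟨V, h3, h4⟩ := pkW_spec rfl h2
  rw [chk, frcL_eq, frcW_eq]
  exact rngs_of h4 rfl (Nat.blt_eq.mp h1) L h3

end Cfsg.Agent.N2.Sp

private theorem dce_d4aabe9034f5 : _root_.True := by
  try have : _root_.True := by simp only [_root_.Cfsg.Agent.N2.Sp.subL.eq_1]
  try have : _root_.True := by simp only [_root_.Cfsg.Agent.N2.Sp.okSub.eq_1]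
  try have : _root_.True := by simp only [_root_.Cfsg.Agent.N2.Sp.chk.eq_1]
  try have : _root_.True := by simp only [_root_.Cfsg.Agent.N2.Sp.far.eq_1]
  try have : _root_.True := by simp only [_root_.Cfsg.Agent.N2.Sp.spv.eq_1]
  try have : _root_.True := by simp only [_root_.Cfsg.Agent.N2.Sp.rowsP.eq_1]
  try have : _root_.True := by simp only [_root_.Cfsg.Agent.N2.Sp.vf.eq_1]
  try have : _root_.True := by simp only [_root_.Cfsg.Agent.N2.Sp.okSub._sparseCasesOn_2.else_eq]
  try have : _root_.True := by simp only [_root_.Cfsg.Agent.N2.Sp.okSub._sparseCasesOn_1.else_eq]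
  exact _root_.True.intro
end
end

-- part: N2/Sp/GSuz
section
set_option linter.all false

/-!
# N2 (S3519), sporadic rows: Suz (helper16; generated by notes/N2/sp16/emit.py.txt)

Types which are left, with order, letter in the order of the table, and bound for the fixed points: 1 = 2a (3317760),
      2 = 4a (3072), 3 = 6a (432), 4 = 3a (34992), 6 = 3b (3240), 7 = 12a (288), 14 = 5a (300), 22 = 4b (288), 28 =
      6c (3456), 31 = 2b (161280), 32 = 6d (1296), 33 = 4c (1536), 34 = 5b (1800), 35 = 4d (46080), 36 = 3c (9797760).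
-/

set_option autoImplicit false
set_option Elab.async false

namespace Cfsg.Agent.N2.Sp.Suz

open Cfsg Cfsg.Agent.FP3 Cfsg.Agent.TAB.Eng Cfsg.Agent.TAB.Use

/-- the data -/
abbrev D : Dat := TAB.Sz.dat

/-- the table -/
noncomputable abbrev R : Rows := (TAB.Sm2.mkRows TAB.Sz.rowA TAB.Sz.rowB)

/-- the densities -/
def nu : List ℕ :=
  [1, 135135, 145945800, 1037836800, 12812800, 22417274880, 138378240, 1556755200, 18681062400, 40758681600,
      16012339200, 7005398400, 22417274880, 29889699840, 1494484992, 6227020800, 68976230400, 42699571200,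
      19926466560, 12454041600, 8302694400, 24908083200, 1556755200, 14010796800, 9340531200, 11208637440,
      6227020800, 18681062400, 129729600, 5337446400, 2335132800, 2779920, 345945600, 291891600, 249080832, 9729720,
      45760]

/-- type, lower and upper bound for the order -/
def O : Out :=
  [(1, 1, 189267), (2, 16, 189267), (3, 5562, 189267), (4, 1, 189267), (6, 16, 189267), (7, 18769, 189267), (14,
      16606, 189267), (22, 18769, 63344), (28, 14, 189267), (31, 1, 189267), (32, 206, 189267), (33, 124, 189267),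
      (34, 77, 189267), (35, 1, 189267), (36, 1, 189267)]

/-- the types -/
def S : List ℕ := [1, 2, 3, 4, 6, 7, 14, 22, 28, 31, 32, 33, 34, 35, 36]

/-- the certificates -/
def L : List (ℕ × ℕ × List St) := [
  (2594592000, 6, [.fk 16 [(192000000000, 4), (576000000000, 6), (192000000000, 18), (360000000000, 24),
      (192000000000, 25), (192000000000, 26), (64000000000, 29), (1000000000000, 30), (96000000000, 35)] 0 165722278
      [(15, 1)] [],
    .fk 17 [(45070538128, 8), (372214936540, 9), (169989108523, 13), (279628834886, 20), (845317947341, 22),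
      (169512072099, 23), (270871198456, 26), (102013982810, 27), (1000000000000, 28), (59787995210, 29),
      (429529694520, 30), (181072083794, 36)] 0 242198484 [(8, 1), (7, 3)] [(1253, 7, 2), (237, 26, 2), (3558921, 35,
      2)],
    .fk 9 [(263937233563, 1), (487635990560, 10), (36812047756, 13), (19302152147, 14), (78228220348, 15),
      (766569008543, 16), (67235967535, 17), (129573227509, 20), (197604060501, 21), (834820143702, 23),
      (679098255190, 24), (1000000000000, 25), (720108741658, 26), (528534738753, 27), (159333278029, 28),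
      (877233919000, 29), (108517863733, 32), (161150083127, 34), (85793515286, 36)] 0 415044116 [(10, 1)] [(138, 10,
      2)],
    .fk 0 [(189933523, 4), (343237010, 7), (595125040, 8), (520960521, 10), (958259847, 11), (730791842, 12),
      (1550671551, 13), (2275584498, 14), (2878397323, 15), (2703839371, 16), (3181838737, 17), (3121693122, 18),
      (3716818161, 19), (4311943201, 20), (6054357165, 21), (5825532492, 22), (6600189934, 23), (6800976801, 24),
      (7954144621, 25), (7739791073, 26), (8443449555, 27), (8329037218, 28), (10000000000, 29), (9922669923, 30),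
      (205761317, 31), (760638538, 32), (927508705, 33), (1962194184, 34), (2844028400, 35), (4015963460, 36)] 0
      7104007 [] []]),
  (2162159999, 6, [.fk 16 [(192000000000, 4), (576000000000, 6), (192000000000, 18), (360000000000, 24),
      (192000000000, 25), (192000000000, 26), (64000000000, 29), (1000000000000, 30), (96000000000, 35)] 0 198866733
      [(15, 1)] [],
    .fk 17 [(45070538128, 8), (372214936540, 9), (169989108523, 13), (279628834886, 20), (845317947341, 22),
      (169512072099, 23), (270871198456, 26), (102013982810, 27), (1000000000000, 28), (59787995210, 29),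
      (429529694520, 30), (181072083794, 36)] 0 290638181 [(8, 1), (7, 3)] [(1253, 7, 2), (237, 26, 2), (3558921, 35,
      2)],
    .fk 9 [(263937233563, 1), (487635990560, 10), (36812047756, 13), (19302152147, 14), (78228220348, 15),
      (766569008543, 16), (67235967535, 17), (129573227509, 20), (197604060501, 21), (834820143702, 23),
      (679098255190, 24), (1000000000000, 25), (720108741658, 26), (528534738753, 27), (159333278029, 28),
      (877233919000, 29), (108517863733, 32), (161150083127, 34), (85793515286, 36)] 0 498052939 [(10, 1)] [(138, 10,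
      2)],
    .fk 0 [(189933523, 4), (343237010, 7), (595125040, 8), (520960521, 10), (958259847, 11), (730791842, 12),
      (1550671551, 13), (2275584498, 14), (2878397323, 15), (2703839371, 16), (3181838737, 17), (3121693122, 18),
      (3716818161, 19), (4311943201, 20), (6054357165, 21), (5825532492, 22), (6600189934, 23), (6800976801, 24),
      (7954144621, 25), (7739791073, 26), (8443449555, 27), (8329037218, 28), (10000000000, 29), (9922669923, 30),
      (205761317, 31), (760638538, 32), (927508705, 33), (1962194184, 34), (2844028400, 35), (4015963460, 36)] 0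
      8524809 [] []]),
  (2075673601, 6, [.fk 16 [(192000000000, 4), (576000000000, 6), (192000000000, 18), (360000000000, 24),
      (192000000000, 25), (192000000000, 26), (64000000000, 29), (1000000000000, 30), (96000000000, 35)] 0 207152847
      [(15, 1)] [],
    .fk 17 [(45070538128, 8), (372214936540, 9), (169989108523, 13), (279628834886, 20), (845317947341, 22),
      (169512072099, 23), (270871198456, 26), (102013982810, 27), (1000000000000, 28), (59787995210, 29),
      (429529694520, 30), (181072083794, 36)] 0 302748105 [(8, 1), (7, 3)] [(1253, 7, 2), (237, 26, 2), (3558921, 35,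
      2)],
    .fk 9 [(263937233563, 1), (487635990560, 10), (36812047756, 13), (19302152147, 14), (78228220348, 15),
      (766569008543, 16), (67235967535, 17), (129573227509, 20), (197604060501, 21), (834820143702, 23),
      (679098255190, 24), (1000000000000, 25), (720108741658, 26), (528534738753, 27), (159333278029, 28),
      (877233919000, 29), (108517863733, 32), (161150083127, 34), (85793515286, 36)] 0 518805144 [(10, 1)] [(138, 10,
      2)],
    .fk 0 [(189933523, 4), (343237010, 7), (595125040, 8), (520960521, 10), (958259847, 11), (730791842, 12),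
      (1550671551, 13), (2275584498, 14), (2878397323, 15), (2703839371, 16), (3181838737, 17), (3121693122, 18),
      (3716818161, 19), (4311943201, 20), (6054357165, 21), (5825532492, 22), (6600189934, 23), (6800976801, 24),
      (7954144621, 25), (7739791073, 26), (8443449555, 27), (8329037218, 28), (10000000000, 29), (9922669923, 30),
      (205761317, 31), (760638538, 32), (927508705, 33), (1962194184, 34), (2844028400, 35), (4015963460, 36)] 0
      8880009 [] []]),
  (75017192, 7, [.fk 0 [(587, 3), (587, 4), (4785, 5), (18424, 7), (18692, 8), (22890, 9), (26428, 10), (31446, 11),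
      (40037, 12), (67923, 13), (91132, 14), (106423, 15), (110919, 16), (125376, 17), (134091, 18), (147998, 19),
      (166690, 20), (232750, 21), (245010, 22), (274549, 23), (271627, 24), (316870, 25), (321815, 26), (341725, 27),
      (349121, 28), (406994, 29), (405718, 30), (9012, 31), (25841, 32), (42590, 33), (85259, 34), (107431, 35),
      (161850, 36)] 0 10000 [] []]),
  (22458415, 19, [.fk 0 [(140755, 8), (137890, 9), (39755, 10), (1433, 11), (38323, 12), (120699, 13), (120699, 14),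
      (558007, 15), (409372, 16), (482436, 17), (341681, 18), (482436, 19), (623191, 20), (359947, 21), (751053, 22),
      (674050, 23), (1065156, 24), (777199, 25), (1037220, 26), (816238, 27), (1177259, 28), (1218447, 29), (1406837,
      30), (39755, 32), (89181, 33), (311238, 34), (278824, 35), (408119, 36)] 0 100000 [] []]),
  (4591717, 28, [.fk 0 [(1502, 4), (7335, 12), (1663, 13), (3740, 14), (4531, 15), (4200, 16), (14100, 17), (20, 19),
      (14100, 20), (14504, 21), (22009, 22), (17647, 23), (7154, 24), (15210, 25), (15849, 26), (20895, 27), (28873,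
      28), (17011, 29), (32001, 30), (6764, 33), (3953, 34), (8718, 35), (16737, 36)] 0 10000 [] []]),
  (4054051, 47, [.fk 0 [(237781, 4), (273567, 12), (240380, 15), (318777, 16), (138091, 17), (562625, 20), (40020,
      21), (527265, 22), (528329, 23), (864721, 24), (518943, 25), (653657, 26), (659275, 27), (982872, 28), (813424,
      29), (1000000, 30), (332682, 32), (79576, 33), (52897, 34), (224908, 35)] 0 365042 [] []]),
  (3378375, 49, [.fk 0 [(237781, 4), (273567, 12), (240380, 15), (318777, 16), (138091, 17), (562625, 20), (40020,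
      21), (527265, 22), (528329, 23), (864721, 24), (518943, 25), (653657, 26), (659275, 27), (982872, 28), (813424,
      29), (1000000, 30), (332682, 32), (79576, 33), (52897, 34), (224908, 35)] 0 438051 [] []]),
  (2847289, 52, [.fk 20 [(1000000000000, 4), (106887629374, 8), (79113274191, 21), (28369886644, 33)] 0 4993632343
      [(31, 1)] [],
    .fk 11 [(1000000000000, 7), (326409495549, 8), (173095944609, 25), (574183976261, 28), (6099571381, 29),
      (379162545335, 36)] 0 84145635944 [(34, 1), (37, 2)] [],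
    .fk 15 [(980730086804, 1), (67943708223, 7), (305057326020, 8), (479029824018, 12), (267860807836, 22),
      (188433383905, 25), (706625189645, 26), (173702065668, 29), (1000000000000, 30), (657394432796, 34),
      (114634332833, 35), (428144278867, 36)] 0 238690682547 [(29, 1)] [],
    .fk 0 [(1331, 13), (2981, 14), (1387, 15), (5674, 16), (6909, 17), (3278, 20), (6526, 22), (6399, 23), (8903,
      24), (7488, 25), (5448, 26), (5815, 27), (10000, 28), (6862, 29), (9039, 30), (2976, 35)] 0 5282 [] []]),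
  (1423644, 55, [.fk 0 [(388097622215, 13), (5539697010, 14), (46091076206, 15), (289683310666, 16), (301654436490,
      17), (370561890671, 20), (869269128644, 22), (208615424469, 23), (380620027599, 24), (226111302078, 25),
      (438174091953, 26), (227207285299, 27), (923634878172, 28), (400671538810, 29), (1000000000000, 30),
      (221577916934, 35), (244573637618, 36)] 0 778959622790 [] [(677, 26, 2)]]),
  (1201201, 69, [.fk 15 [(10000000000, 1)] 0 899100 [(1, 1), (1, 2)] [],
    .fk 26 [(10000000000, 4)] 0 0 [(22, 1), (22, 2)] [],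
    .fk 29 [(1000000000000, 6), (158490166578, 14), (443598590978, 16), (154531422205, 19), (396334651664, 26),
      (298779718736, 28), (411916623873, 29), (170727889440, 35)] 0 265290783243 [(33, 1)] [],
    .fk 0 [(481, 13), (1178, 15), (5417, 17), (2986, 19), (5164, 22), (6373, 23), (9418, 24), (8608, 25), (3930, 26),
      (2529, 27), (1822, 28), (3434, 29), (10000, 30), (2452, 34), (565, 36)] 0 9241 [] []]),
  (565165, 73, [.fk 0 [(187, 13), (805, 14), (3342, 16), (1747, 17), (190, 21), (944, 22), (4367, 23), (4874, 24),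
      (5670, 25), (4134, 26), (2420, 27), (77, 28), (2987, 29), (1059, 30), (1648, 34), (185, 35)] 0 10000 [] []]),
  (470970, 93, [.fk 0 [(204, 13), (500, 15), (2298, 17), (1267, 19), (2191, 22), (2704, 23), (3996, 24), (3652, 25),
      (1667, 26), (1073, 27), (773, 28), (1457, 29), (4243, 30), (1040, 34), (240, 36)] 0 10000 [] []]),
  (392474, 99, [.fk 0 [(170, 13), (416, 15), (1915, 17), (1056, 19), (1826, 22), (2253, 23), (3330, 24), (3043, 25),
      (1389, 26), (894, 27), (644, 28), (1214, 29), (3536, 30), (867, 34), (200, 36)] 0 10000 [] []]),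
  (327060, 105, [.fk 30 [(326022513713, 7), (388379258561, 9), (149499769365, 14), (307112662173, 17), (255606360488,
      23), (453809937538, 25), (7872479950, 27), (310545412937, 28), (360024149962, 30), (59198299016, 31),
      (19535094899, 35)] 0 1000000000000 [(21, 1)] [],
    .fk 7 [(339241171532, 17), (41726374192, 19), (314830458627, 23), (182415381699, 24), (419908793328, 25),
      (58645504256, 26), (55790949860, 27), (52635512590, 29), (309339171961, 30), (181151699763, 33), (78878527279,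
      36)] 0 1000000000000 [(10, 1), (1, 2)] [],
    .fk 22 [(2608720714, 14), (137698829001, 18), (439370736189, 22), (82140613297, 23), (574468021149, 24),
      (169498668022, 26), (251610574626, 28), (216853946240, 29), (1311537030, 34), (16061394658, 36)] 0
      1000000000000 [(17, 1)] [(16844829, 35, 2)],
    .fk 0 [(11, 12), (8, 15), (12, 17), (8, 18), (22, 19), (3, 23), (7, 27), (20, 28), (9, 29), (78, 30), (4, 34),
      (1, 36)] 0 100 [] []]),
  (272549, 112, [.fk 30 [(287666131728, 7), (340145478175, 9), (128316475113, 14), (254247323078, 17), (210976675452,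
      23), (376711742044, 25), (265499679483, 28), (298439285665, 30), (49136797962, 31), (19503392090, 35)] 0
      1000000000000 [(19, 1)] [],
    .fk 7 [(286432021520, 17), (20863110548, 20), (283100714718, 23), (154523778950, 24), (357679732676, 25),
      (63336329091, 26), (30557100159, 27), (48281521934, 29), (199993371096, 30), (189099763107, 33), (103995500802,
      36)] 0 1000000000000 [(10, 1), (2, 2)] [],
    .fk 22 [(68857941098, 18), (377938236090, 22), (123134482630, 23), (525569661805, 24), (154018805217, 26),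
      (115809616121, 28), (134603313444, 29), (9585864584, 34), (81009107403, 36)] 0 1000000000000 [(17, 1)] [],
    .fk 0 [(932, 12), (705, 15), (1012, 17), (663, 18), (1792, 19), (281, 23), (594, 27), (1671, 28), (730, 29),
      (6538, 30), (343, 34), (103, 36)] 0 10000 [] []]),
  (227123, 119, [.fk 30 [(526105938779, 7), (575629229631, 9), (113095742230, 14), (138243739571, 17), (182498595226,
      23), (340282375561, 25), (68559903364, 26), (354542273495, 28), (30814492086, 29), (31025229494, 30)] 0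
      1000000000000 [(24, 1)] [],
    .fk 7 [(23869212517240, 17), (1738583615030, 20), (23591605043086, 23), (12876915434054, 24), (29806491282131,
      25), (5278000312682, 26), (2546411933081, 27), (4023439493911, 29), (16666028649291, 30), (15758232646685, 33),
      (8666247217405, 36)] 0 100000000000000 [(833, 1), (170, 2)] [],
    .fk 22 [(57381322830, 18), (314946912282, 22), (102611541772, 23), (437972468430, 24), (128348345058, 26),
      (96507517703, 28), (112168851690, 29), (7988179453, 34), (67507242737, 36)] 0 1000000000000 [(14, 1)] [],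
    .fk 14 [(98732094734, 12), (61761504622, 18), (130971472276, 19), (5754177449, 23), (66604603975, 26),
      (11748112292, 28), (43507975047, 29), (690693099828, 30), (21817922828, 31), (92066839188, 34)] 0 1000000000000
      [(3, 1)] [],
    .fk 3 [(223863, 13), (6263, 14), (36301, 18), (28971, 20), (12889, 22), (131960, 23), (347585, 25), (192810, 26),
      (139264, 27), (119940, 29), (80324, 30), (87922, 34)] 0 1000000 [] [],
    .fk 32 [(1492, 13), (912, 14), (1216, 18), (205, 21), (1719, 23), (2153, 25), (495, 28), (560, 29), (4207, 30),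
      (11, 33), (612, 34)] 0 10000 [] [],
    .fk 0 [(30, 18), (51, 20), (2378, 23), (934, 24), (2270, 25), (400, 27), (276, 29), (4201, 30), (945, 34)] 0
      10000 [] []]),
  (189268, 126, [.fk 30 [(518619005567, 7), (579892234823, 9), (82524234181, 14), (105244505187, 17), (107582927427,
      23), (226722378913, 25), (62659501411, 26), (320980677270, 28), (72513889988, 29), (45089869877, 35)] 0
      1000000000000 [(23, 1)] [],
    .fk 22 [(282338525567, 22), (83246109234, 23), (369679929283, 24), (104635928421, 26), (89646517024, 28),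
      (79201108786, 29), (3940116809, 34), (24672712914, 35), (53991806874, 36)] 0 1000000000000 [(12, 1)] [],
    .fk 14 [(1060005604187, 12), (4318806617057, 16), (2270417408967, 18), (11631412845939, 19), (1174600804639, 23),
      (3466504813691, 26), (59281529634134, 30), (28648800113, 33), (13336016452671, 34), (3523802413917, 35)] 0
      100000000000000 [(475, 1)] [(257052, 7, 2)],
    .fk 0 [(186552, 13), (5219, 14), (30251, 18), (24142, 20), (10741, 22), (109966, 23), (289653, 25), (160674, 26),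
      (116053, 27), (99949, 29), (66936, 30), (73268, 34)] 0 1000000 [] []]),
  (157722, 134, [.fk 30 [(432178851132, 7), (483239443862, 9), (68769613794, 14), (87703012908, 17), (89651681635,
      23), (188933718573, 25), (52215809760, 26), (267481636518, 28), (60427730819, 29), (37574573920, 35)] 0
      1000000000000 [(19, 1)] [],
    .fk 22 [(235280115654, 22), (69371171253, 23), (308064003457, 24), (87195869891, 26), (74704799322, 28),
      (66000366041, 29), (3283402917, 34), (20560420283, 35), (44992792040, 36)] 0 1000000000000 [(10, 1)] []]),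
  (131434, 142, [.fk 30 [(482525620967, 7), (416030780993, 9), (140091406234, 14), (69047955791, 17), (72252153385,
      25), (6176780470, 26), (323240337890, 28), (56689855668, 29), (89260588230, 35)] 0 1000000000000 [(21, 1)] [],
    .fk 22 [(196065271305, 22), (57808869545, 23), (256718049672, 24), (72662672064, 26), (62253525786, 28),
      (54999886574, 29), (2736148280, 34), (17133553211, 35), (37493708100, 36)] 0 1000000000000 [(9, 1)] []]),
  (109527, 151, [.fk 30 [(405681519173, 7), (326518450247, 9), (135530081925, 14), (60105773881, 17), (64678255359,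
      25), (281881222541, 28), (35076846874, 29), (70789802370, 35)] 0 1000000000000 [(18, 1)] [],
    .fk 22 [(163385737102, 22), (48173471512, 23), (213929103782, 24), (60551489593, 26), (51877306624, 28),
      (45832680865, 29), (2280095810, 34), (14277787198, 35), (31244376395, 36)] 0 1000000000000 [(7, 1)] []]),
  (91271, 160, [.fk 30 [(328804101887, 7), (223699382515, 9), (141325749495, 14), (77232583583, 17), (81647796151,
      25), (239012770128, 28), (45095713602, 35)] 0 1000000000000 [(16, 1)] [],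
    .fk 22 [(136152543309, 22), (40143899845, 23), (178271323338, 24), (50458745392, 26), (43230378380, 28),
      (38193273031, 29), (1900048615, 34), (11897960460, 35), (26036552429, 36)] 0 1000000000000 [(6, 1)] []]),
  (76058, 170, [.fk 30 [(79811233639, 7), (8733144106, 9), (56199399574, 14), (409730010992, 17), (215228875585, 25),
      (49123935599, 31)] 0 1000000000000 [(24, 1)] [],
    .fk 22 [(113458712395, 22), (33452736734, 23), (148557157371, 24), (42048309508, 26), (36024762727, 28),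
      (31827239322, 29), (1583349559, 34), (9914814965, 35), (21696794214, 36)] 0 1000000000000 [(5, 1)] []]),
  (63380, 181, [.fk 30 [(1000000000000, 1), (116689280868, 9), (1356852103, 17), (44097693351, 21)] 0 122522075072
      [(38, 1)] [],
    .fk 22 [(94546440764, 22), (27876547558, 23), (123794375795, 24), (35039336514, 26), (30019846192, 28),
      (26522002002, 29), (1319423269, 34), (8262128540, 35), (18080186401, 36)] 0 1000000000000 [(4, 1)] []]),
  (63345, 192, [.fk 30 [(1000000000000, 1)] 0 0 [(321, 1), (285, 2)] [],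
    .fk 22 [(94371698097, 22), (28799239029, 23), (125946177603, 24), (33394629205, 26), (29922069764, 28),
      (27111797881, 29), (8947728577, 35), (16552624626, 36)] 0 1000000000000 [(4, 1)] []]),
  (52786, 193, []),
  (43987, 205, []),
  (36655, 217, []),
  (18769, 231, []),
  (16606, 289, []),
  (5562, 301, []),
  (206, 433, []),
  (124, 1299, []),
  (77, 1539, []),
  (16, 1807, []),
  (14, 3104, [.fk 6 [] 1000000000000 0 [(33, 1)] []]),
  (11, 3256, [.fk 28 [] 1000000000000 0 [(29, 1)] []]),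
  (8, 3553, []),
  (5, 4002, []),
  (3, 4822, []),
  (1, 6075, [])]

theorem okz : okZ D = true := by decide +kernel

theorem ok : chk D R nu [] (List.range' 1 (D.n - 1)) O 189267 0 3113510400 L = true :=
  chk_of (by decide +kernel)

variable {K : Type} [Group K] [Finite K] {T : TD K D} {A : Subgroup K}

theorem res (H : Hy T R nu) (hb : ¬ Good A) (hA : A ≠ ⊤) : Res T A O 189267 :=
  H.res hb (pos_nil A) (sup_all A) Nat.card_pos
    ((H.card_le (md := 143) (by decide +kernel) hA).trans (by decide +kernel)) ok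

theorem sup (H : Hy T R nu) (hb : ¬ Good A) (hA : A ≠ ⊤) : Nat.card A ≤ 189267 ∧ Sup T A S :=
  ⟨(res H hb hA).1, (res H hb hA).sup.mono (by decide +kernel)⟩

end Cfsg.Agent.N2.Sp.Suz
end

section
prune_inst 0x7ffdfefafbe9bddfffff7e7ffff9dffd81e4cfffefdffb73ffe9ebbfdfbf0327bbe5fbaf7de0d8ffdef6e2be30b87853fb7eeeffe86fdc7ffffd5ff45ffbee0ff5f7bd0951d69c340fbe6fffe3f17f8e7f3fffffffffffffffffffffffffffffffffffffffff

-- part: N2/Sp1/Sieve
section
prune_inst 0x201050416422000000000000020000a12100010000088000610002040b0d0000804008004200000010c400801000000811100040020000000a000000000500208028400002000104000001802007180c00000000000000000000000000000000000000000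
set_option linter.all false
open scoped Cfsg.Agent.FastGrp

-- part: N2/Sp1/Dfs
section
/-!
# N2 (S3519), sporadic groups: an exact search for the numbers of the elements of the types (helper45)

The unknown numbers `a t` satisfy inequalities, congruences in triangular form, and have a given sum.
-/

set_option autoImplicit false

namespace Cfsg.Agent.N2.Sp1

open Cfsg Cfsg.Agent.TAB.Eng Cfsg.Agent.TH.Spor Cfsg.Agent.N2.Sp
open Cfsg.Agent.SM.Sp (cond_ff)

/-- `p + x b` -/
private noncomputable def mad (x : ℕ) (p b : ℤ) (k : ℤ → Bool) : Bool :=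
  Int.rec (fun u => Int.rec (fun v => frc (Nat.add u (Nat.mul x v)) fun y => k (Int.ofNat y))
      (fun v => frc (Nat.mul x (Nat.succ v)) fun s => @Bool.rec (fun _ => Bool)
        (frc (Nat.sub (Nat.sub s u) 1) fun y => k (Int.negSucc y)) (frc (Nat.sub u s) fun y => k (Int.ofNat y))
        (Nat.ble s u)) b)
    (fun u => Int.rec (fun v => frc (Nat.mul x v) fun s => @Bool.rec (fun _ => Bool)
        (frc (Nat.sub (Nat.sub s u) 1) fun y => k (Int.ofNat y)) (frc (Nat.sub u s) fun y => k (Int.negSucc y))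
        (Nat.ble s u))
      (fun v => frc (Nat.add u (Nat.mul x (Nat.succ v))) fun y => k (Int.negSucc y)) b) p

private theorem mad_eq (x : ℕ) (p b : ℤ) (k : ℤ → Bool) : mad x p b k = k (p + x * b) := by
  have key : ∀ (s u : ℕ) (f g : ℕ → Bool), (s ≤ u → g (u - s) = k (p + x * b)) →
      (u < s → f (s - u - 1) = k (p + x * b)) → @Bool.rec (fun _ => Bool)
        (frc (Nat.sub (Nat.sub s u) 1) f) (frc (Nat.sub u s) g) (Nat.ble s u) = k (p + x * b) := fun s u f g h1 h2 => by
    cases h : Nat.ble s u with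
    | true => exact (frc_eq (u - s) g).trans (h1 (Nat.le_of_ble_eq_true h))
    | false => exact (frc_eq (s - u - 1) f).trans (h2 (not_le.1 fun h1 => by rw [Nat.ble_eq_true_of_le h1] at h; cases h))
  cases p with
  | ofNat u => cases b with
    | ofNat v => exact frc_eq (u + x * v) fun y => k (Int.ofNat y)
    | negSucc v =>
      have e : (x : ℤ) * Int.negSucc v = -((x * (v + 1) : ℕ) : ℤ) := by
        rw [Int.negSucc_eq]
        push_cast
        ring
      refine (frc_eq (x * (v + 1)) fun s => @Bool.rec (fun _ => Bool)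
        (frc (Nat.sub (Nat.sub s u) 1) fun y => k (Int.negSucc y)) (frc (Nat.sub u s) fun y => k (Int.ofNat y))
        (Nat.ble s u)).trans (key _ _ _ _ (fun h => congrArg k ?_) fun h => congrArg k ?_) <;>
      rw [e] <;> generalize x * (v + 1) = s at h <;> simp only [Int.ofNat_eq_natCast] <;> omega
  | negSucc u => cases b with
    | ofNat v =>
      have e : (x : ℤ) * Int.ofNat v = ((x * v : ℕ) : ℤ) := (Int.natCast_mul x v).symm
      refine (frc_eq (x * v) fun s => @Bool.rec (fun _ => Bool)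
        (frc (Nat.sub (Nat.sub s u) 1) fun y => k (Int.ofNat y)) (frc (Nat.sub u s) fun y => k (Int.negSucc y))
        (Nat.ble s u)).trans (key _ _ _ _ (fun h => congrArg k ?_) fun h => congrArg k ?_) <;>
      rw [e] <;> generalize x * v = s at h
      · omega
      · simp only [Int.ofNat_eq_natCast]
        omega
    | negSucc v =>
      refine (frc_eq (u + x * (v + 1)) fun y => k (Int.negSucc y)).trans (congrArg k ?_)
      simp only [Int.negSucc_eq]
      push_cast
      ring

/-- `P + x c` -/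
noncomputable def upZ (x : ℕ) (P : List ℤ) : List ℤ → (List ℤ → Bool) → Bool :=
  List.rec (fun _ k => k []) (fun p _ ih c k => List.rec (k []) (fun b c' _ =>
    mad x p b fun y => ih c' fun l => k (y :: l)) c) P

theorem upZ_eq (x : ℕ) (P c : List ℤ) (k : List ℤ → Bool) :
    upZ x P c k = k (List.zipWith (fun p b => p + (x : ℤ) * b) P c) := by
  induction P generalizing c k with
  | nil => rfl
  | cons p P ih =>
    cases c with
    | nil => rfl
    | cons b c => exact (mad_eq x p b fun y => upZ x P c fun l => k (y :: l)).trans (ih c _)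

/-- `Q + x c` -/
noncomputable def upN (x : ℕ) (Q : List ℕ) : List ℕ → (List ℕ → Bool) → Bool :=
  List.rec (fun _ k => k []) (fun p _ ih c k => List.rec (k []) (fun b c' _ =>
    frc (Nat.add p (Nat.mul x b)) fun y => ih c' fun l => k (y :: l)) c) Q

theorem upN_eq (x : ℕ) (Q c : List ℕ) (k : List ℕ → Bool) :
    upN x Q c k = k (List.zipWith (fun p b => p + x * b) Q c) := by
  induction Q generalizing c k with
  | nil => rfl
  | cons p P ih =>
    cases c with
    | nil => rfl
    | cons b c => exact (frc_eq (p + x * b) fun y => upN x P c fun l => k (y :: l)).trans (ih c _)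

theorem fa_zip {α β : Type} {r s : α → β → Prop} {f : α → α → α} {g : β → α} (hf : ∀ p w, r p w → s (f p (g w)) w)
    {P : List α} {W : List β} (h : List.Forall₂ r P W) : List.Forall₂ s (List.zipWith f P (W.map g)) W := by
  induction h with
  | nil => exact .nil
  | cons h _ ih => exact .cons (hf _ _ h) ih

theorem fa_map {α β : Type} {r : α → β → Prop} {g : β → α} {W : List β} (h : ∀ w ∈ W, r (g w) w) :
    List.Forall₂ r (W.map g) W := by
  induction W with
  | nil => exact .nil
  | cons w W ih => exact .cons (h w List.mem_cons_self) (ih fun v hv => h v (List.mem_cons_of_mem _ hv))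

/-- some inequality fails -/
noncomputable def cut (r : ℕ) (P : List ℤ) : List ℤ → Bool :=
  List.rec (fun _ => false) (fun p _ ih c => List.rec false (fun b c' _ =>
    Int.rec (fun u => Int.rec (fun _ => ih c')
        (fun v => @Bool.rec (fun _ => Bool) true (ih c') (Nat.ble (Nat.mul r (Nat.succ v)) u)) b)
      (fun u => Int.rec (fun v => @Bool.rec (fun _ => Bool) (ih c') true (Nat.ble (Nat.mul r v) u)) (fun _ => true) b)
      p) c) P

theorem cut_false {β : Type} {r : ℕ} {g : β → ℤ} {P : List ℤ} {W : List β}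
    (h : List.Forall₂ (fun p w => 0 ≤ p + (r : ℤ) * g w) P W) : cut r P (W.map g) = false := by
  induction h with
  | nil => rfl
  | @cons p w P W h _ ih =>
    rw [List.map_cons]
    generalize g w = b at h
    cases p with
    | ofNat u => cases b with
      | ofNat v => exact ih
      | negSucc v =>
        have h1 : r * (v + 1) ≤ u := by
          rw [Int.negSucc_eq, Int.ofNat_eq_natCast] at h
          zify
          linarith
        show @Bool.rec (fun _ => Bool) true (cut r P (W.map g)) (Nat.ble (r * (v + 1)) u) = false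
        rw [Nat.ble_eq_true_of_le h1]
        exact ih
    | negSucc u => cases b with
      | ofNat v =>
        have h1 : ¬ r * v ≤ u := by
          rw [Int.negSucc_eq, Int.ofNat_eq_natCast] at h
          zify
          linarith
        show @Bool.rec (fun _ => Bool) (cut r P (W.map g)) true (Nat.ble (r * v) u) = false
        rw [show Nat.ble (r * v) u = false from Bool.eq_false_iff.2 fun e => h1 (Nat.le_of_ble_eq_true e)]
        exact ih
      | negSucc v =>
        have h1 : (r : ℤ) * Int.negSucc v ≤ 0 := mul_nonpos_of_nonneg_of_nonpos (Int.natCast_nonneg r) (Int.negSucc_lt_zero v).le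
        have h2 := Int.negSucc_lt_zero u
        omega

/-- some entry is negative -/
noncomputable def neg (P : List ℤ) : Bool := anyL (fun p => Int.rec (fun _ => false) (fun _ => true) p) P

/-- the largest value -/
private noncomputable def mxs (w : List ℤ) (V : List ℕ) : ℤ :=
  List.rec 0 (fun u V' ih => List.rec (nth w u) (fun _ _ _ => max (nth w u) ih) V') V

private theorem le_mxs (w : List ℤ) (V : List ℕ) : ∀ u ∈ V, nth w u ≤ mxs w V := by
  induction V with
  | nil => exact fun u hu => absurd hu List.not_mem_nil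
  | cons v V ih =>
    intro u hu
    cases V with
    | nil => exact List.mem_singleton.1 hu ▸ le_rfl
    | cons v' V =>
      show _ ≤ max (nth w v) (mxs w (v' :: V))
      rcases List.mem_cons.1 hu with rfl | hu
      · exact le_max_left _ _
      · exact le_max_of_le_right (ih _ hu)

/-- the largest value -/
noncomputable def mxz (w : List ℤ) (t : ℕ) (V : List ℕ) : ℤ := mxs w (t :: V)

theorem le_mxz (w : List ℤ) (t : ℕ) (V : List ℕ) : ∀ u ∈ t :: V, nth w u ≤ mxz w t V := le_mxs w (t :: V)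

/-- a loop -/
noncomputable def lp (go : ℕ → Bool) (c : ℕ) : Bool := Nat.rec true (fun i ih => cond (go i) ih false) c

theorem lp_spec {go : ℕ → Bool} {c : ℕ} (h : lp go c = true) : ∀ i < c, go i = true := by
  induction c with
  | zero => exact fun _ h => absurd h (Nat.not_lt_zero _)
  | succ c ih =>
    obtain ⟨h1, h2⟩ := cond_ff (show cond (go c) (lp go c) false = true from h)
    exact fun i hi => (Nat.lt_succ_iff_lt_or_eq.1 hi).elim (ih h2 i) fun e => e ▸ h1

/-- the searches: remaining sum, partial sums, values -/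
abbrev Fn : Type := ℕ → List ℤ → List ℕ → List (ℕ × ℕ) → Bool

/-- the last level -/
noncomputable def leaf (κ : List (ℕ × ℕ) → Bool) : Fn := fun rem P _ acc =>
  cond (Nat.beq rem 0) (cond (neg P) true (κ acc)) true

/-- one value -/
noncomputable def go (t : ℕ) (cp : List ℤ) (cq : List ℕ) (nx : Fn) (rem : ℕ) (P : List ℤ) (Q : List ℕ)
    (acc : List (ℕ × ℕ)) (x : ℕ) : Bool :=
  frc (Nat.sub rem x) fun rem' => upZ x P cp fun P' => upN x Q cq fun Q' => nx rem' P' Q' ((t, x) :: acc)

/-- one level -/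
noncomputable def node (t lo g s : ℕ) (cp mx : List ℤ) (cq : List ℕ) (nx : Fn) : Fn := fun rem P Q acc =>
  cond (cut rem P mx) true (List.rec false (fun q Q' _ => cond (Nat.beq (Nat.mod q g) 0)
    (frc (Nat.mod (Nat.sub s (Nat.mod (Nat.div q g) s)) s) fun r =>
      cond (cond (Nat.beq r 0) (nx rem P Q' ((t, 0) :: acc)) true)
        (frc (Nat.div lo s) fun i0 => lp (fun i => frc (Nat.add (Nat.mul s (Nat.add i0 i)) r) fun x =>
          cond (Nat.ble lo x) (cond (Nat.ble x rem) (go t cp cq nx rem P Q' acc x) true) true)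
          (Nat.sub (Nat.succ (Nat.div rem s)) i0)) false) true) Q)

/-- the levels -/
noncomputable def lev (M : ℕ) (lo : ℕ → ℕ) (WP : List (List ℤ)) (κ : List (ℕ × ℕ) → Bool) (V : List ℕ) :
    List (List ℕ) → (Fn → Bool) → Bool :=
  List.rec (fun _ k => k (leaf κ)) (fun t V' ih WM k => List.rec false (fun w WM' _ =>
    cond (allL (fun u => Nat.beq (ntd w 0 u) 0) V')
      (frc (cond (Nat.beq (ntd w 0 t) 0) M (ntd w 0 t)) fun g => cond (Nat.beq (Nat.mod M g) 0)
        (frc (Nat.div M g) fun s => frc (lo t) fun l => frcLZ (mapL (fun v => nth v t) WP) fun cp =>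
          frcLZ (mapL (fun v => mxz v t V') WP) fun mx => frcL (mapL (fun v => ntd v 0 t) WM') fun cq =>
            ih WM' fun nx => k (node t l g s cp mx cq nx)) false) false) WM) V

variable {a : ℕ → ℕ}

/-- the sum of an integral vector -/
noncomputable def sZ (a : ℕ → ℕ) (V : List ℕ) (w : List ℤ) : ℤ := (V.map fun t => (a t : ℤ) * nth w t).sum

/-- the sum of a natural vector -/
noncomputable def sN (a : ℕ → ℕ) (V : List ℕ) (w : List ℕ) : ℕ := (V.map fun t => a t * ntd w 0 t).sum

/-- the values -/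
def vals (a : ℕ → ℕ) (V : List ℕ) (acc : List (ℕ × ℕ)) : List (ℕ × ℕ) := V.foldl (fun l t => (t, a t) :: l) acc

/-- the search is sound -/
def Snd (a : ℕ → ℕ) (M : ℕ) (WP : List (List ℤ)) (κ : List (ℕ × ℕ) → Bool) (V : List ℕ) (WM : List (List ℕ)) (F : Fn) :
    Prop := ∀ P Q acc, List.Forall₂ (fun p w => 0 ≤ p + sZ a V w) P WP →
  List.Forall₂ (fun q w => M ∣ q + sN a V w) Q WM → F (V.map a).sum P Q acc = true → κ (vals a V acc) = true

theorem sZ_le {V : List ℕ} {w : List ℤ} {b : ℤ} (h : ∀ u ∈ V, nth w u ≤ b) : sZ a V w ≤ ((V.map a).sum : ℕ) * b := by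
  induction V with
  | nil => simp [sZ]
  | cons t V ih =>
    have h1 := ih fun u hu => h u (List.mem_cons_of_mem _ hu)
    have h2 := mul_le_mul_of_nonneg_left (h t List.mem_cons_self) (Int.natCast_nonneg (a t))
    simp only [sZ, List.map_cons, List.sum_cons, Nat.cast_add, add_mul] at h1 ⊢
    exact add_le_add h2 h1

theorem sN_zero {V : List ℕ} {w : List ℕ} (h : ∀ u ∈ V, ntd w 0 u = 0) : sN a V w = 0 :=
  List.sum_eq_zero fun x hx => by
    obtain ⟨u, hu, rfl⟩ := List.mem_map.1 hx
    rw [h u hu, mul_zero]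

theorem res_eq {g s q x : ℕ} (hg : 0 < g) (hs : 0 < s) (h : g * s ∣ q + x * g) :
    q % g = 0 ∧ x % s = (s - q / g % s) % s := by
  have h1 : g ∣ q := (Nat.dvd_add_left (dvd_mul_left g x)).1 ((dvd_mul_right g s).trans h)
  obtain ⟨u, rfl⟩ := h1
  rw [mul_comm x, ← mul_add, Nat.mul_dvd_mul_iff_left hg] at h
  rw [Nat.mul_div_cancel_left _ hg]
  refine ⟨Nat.mul_mod_right g u, ?_⟩
  have h2 : s ∣ u % s + x % s := by
    rw [Nat.dvd_iff_mod_eq_zero, ← Nat.add_mod]
    exact Nat.mod_eq_zero_of_dvd h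
  have h3 := Nat.mod_lt u hs
  have h4 := Nat.mod_lt x hs
  obtain ⟨c, hc⟩ := h2
  have h5 : c < 2 := Nat.lt_of_mul_lt_mul_left (a := s) (by omega)
  obtain rfl | rfl : c = 0 ∨ c = 1 := by omega
  · have h6 : u % s = 0 := by omega
    rw [h6, Nat.sub_zero, Nat.mod_self]
    omega
  · rw [show s - u % s = x % s by omega, Nat.mod_mod]

theorem snd_leaf {M : ℕ} {WP : List (List ℤ)} {κ : List (ℕ × ℕ) → Bool} {WM : List (List ℕ)} :
    Snd a M WP κ [] WM (leaf κ) := by
  intro P Q acc hP _ h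
  have h1 : cond (neg P) true (κ acc) = true := h
  cases h2 : neg P with
  | false => rwa [h2] at h1
  | true =>
    obtain ⟨p, h3, h4⟩ := anyL_spec h2
    obtain ⟨i, hi, rfl⟩ := List.getElem_of_mem h3
    have h5 := (List.forall₂_iff_get.1 hP).2 i hi (hP.length_eq ▸ hi)
    obtain ⟨n, hn⟩ := Int.eq_ofNat_of_zero_le (show 0 ≤ P[i] by simpa [sZ] using h5)
    rw [hn] at h4
    cases h4

theorem snd_node {M t lo g s : ℕ} {WP : List (List ℤ)} {κ : List (ℕ × ℕ) → Bool} {V : List ℕ} {w : List ℕ}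
    {WM : List (List ℕ)} {nx : Fn} (h0 : 0 < M) (hM : M = g * s) (hg : g = ntd w 0 t ∨ (g = M ∧ ntd w 0 t = 0))
    (hw : ∀ u ∈ V, ntd w 0 u = 0) (hl : a t = 0 ∨ lo ≤ a t) (hn : Snd a M WP κ V WM nx) :
    Snd a M WP κ (t :: V) (w :: WM) (node t lo g s (WP.map fun v => nth v t) (WP.map fun v => mxz v t V)
      (WM.map fun v => ntd v 0 t) nx) := by
  intro P Q acc hP hQ h
  obtain ⟨q, Q', h1, h2, rfl⟩ : ∃ q Q', M ∣ q + sN a (t :: V) w ∧
      List.Forall₂ (fun q w => M ∣ q + sN a (t :: V) w) Q' WM ∧ Q = q :: Q' := by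
    cases hQ with
    | cons h1 h2 => exact ⟨_, _, h1, h2, rfl⟩
  have h3 : cut ((t :: V).map a).sum P (WP.map fun v => mxz v t V) = false :=
    cut_false (hP.imp fun p v h3 => h3.trans (add_le_add_right (sZ_le (le_mxz v t V)) p))
  have hg0 : 0 < g := Nat.pos_of_mul_pos_right (hM ▸ h0)
  have hs0 : 0 < s := Nat.pos_of_mul_pos_left (hM ▸ h0)
  have h4 : g * s ∣ q + a t * g := by
    have h4 : sN a (t :: V) w = a t * ntd w 0 t + sN a V w := rfl
    rw [h4, sN_zero hw, add_zero] at h1
    rcases hg with h5 | ⟨h5, h6⟩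
    · rwa [← hM, h5]
    · rw [h6, mul_zero, add_zero] at h1
      rw [← hM, h5]
      exact dvd_add h1 (dvd_mul_left _ _)
  obtain ⟨h5, h6⟩ := res_eq hg0 hs0 h4
  rw [node, h3, cond_false] at h
  have h7 : cond (Nat.beq (q % g) 0) (frc ((s - q / g % s) % s) fun r =>
      cond (cond (Nat.beq r 0) (nx ((t :: V).map a).sum P Q' ((t, 0) :: acc)) true)
        (frc (lo / s) fun i0 => lp (fun i => frc (s * (i0 + i) + r) fun x =>
          cond (Nat.ble lo x) (cond (Nat.ble x ((t :: V).map a).sum) (go t (WP.map fun v => nth v t)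
            (WM.map fun v => ntd v 0 t) nx ((t :: V).map a).sum P Q' acc x) true) true)
          (((t :: V).map a).sum / s + 1 - i0)) false) true = true := h
  rw [h5, Nat.beq_refl, cond_true, frc_eq, ← h6, frc_eq] at h7
  obtain ⟨h8, h9⟩ := cond_ff h7
  have e1 : ((t :: V).map a).sum = a t + (V.map a).sum := rfl
  have e2 : ∀ v, sZ a (t :: V) v = a t * nth v t + sZ a V v := fun _ => rfl
  have e3 : ∀ v, sN a (t :: V) v = a t * ntd v 0 t + sN a V v := fun _ => rfl
  show κ (vals a V ((t, a t) :: acc)) = true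
  rcases hl with hl | hl
  · rw [hl, Nat.zero_mod, Nat.beq_refl, cond_true, e1, hl, zero_add] at h8
    rw [hl]
    exact hn P Q' _ (hP.imp fun p v h => by simpa [e2, hl] using h) (h2.imp fun p v h => by simpa [e3, hl] using h) h8
  · have h10 := Nat.div_le_div_right (c := s) hl
    have h11 := Nat.div_le_div_right (c := s) (show a t ≤ ((t :: V).map a).sum from Nat.le_add_right _ _)
    have h12 := lp_spec h9 (a t / s - lo / s) (by omega)
    rw [frc_eq, Nat.add_sub_cancel' h10, Nat.div_add_mod, Nat.ble_eq_true_of_le hl, cond_true,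
      Nat.ble_eq_true_of_le (show a t ≤ ((t :: V).map a).sum from Nat.le_add_right _ _), cond_true, go, frc_eq, upZ_eq,
      upN_eq, e1, Nat.sub_eq, Nat.add_sub_cancel_left] at h12
    exact hn _ _ _ (fa_zip (fun p v h => by rw [add_assoc]; exact h) hP) (fa_zip (fun p v h => by rw [add_assoc]; exact h) h2)
      h12

theorem snd_lev {M : ℕ} {lo : ℕ → ℕ} {WP : List (List ℤ)} {κ : List (ℕ × ℕ) → Bool} (h0 : 0 < M) (V : List ℕ)
    (hl : ∀ t ∈ V, a t = 0 ∨ lo t ≤ a t) : ∀ {WM : List (List ℕ)} {k : Fn → Bool}, lev M lo WP κ V WM k = true →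
      ∃ F, k F = true ∧ Snd a M WP κ V WM F := by
  induction V with
  | nil => exact fun h => ⟨_, h, snd_leaf⟩
  | cons t V ih =>
    intro WM k h
    cases WM with
    | nil => cases h
    | cons w WM =>
    have h1 : cond (allL (fun u => Nat.beq (ntd w 0 u) 0) V)
      (frc (cond (Nat.beq (ntd w 0 t) 0) M (ntd w 0 t)) fun g => cond (Nat.beq (M % g) 0)
        (frc (M / g) fun s => frc (lo t) fun l => frcLZ (mapL (fun v => nth v t) WP) fun cp =>
          frcLZ (mapL (fun v => mxz v t V) WP) fun mx => frcL (mapL (fun v => ntd v 0 t) WM) fun cq =>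
            lev M lo WP κ V WM fun nx => k (node t l g s cp mx cq nx)) false) false = true := h
    obtain ⟨h2, h3⟩ := cond_ff h1
    rw [frc_eq] at h3
    obtain ⟨h4, h5⟩ := cond_ff h3
    rw [frc_eq, frc_eq, frcLZ_eq, frcLZ_eq, frcL_eq, mapL_eq, mapL_eq, mapL_eq] at h5
    obtain ⟨F, h6, h7⟩ := ih (fun u hu => hl u (List.mem_cons_of_mem _ hu)) h5
    refine ⟨_, h6, snd_node h0 (Nat.mul_div_cancel' (Nat.dvd_of_mod_eq_zero (Nat.eq_of_beq_eq_true h4))).symm ?_
      (fun u hu => Nat.eq_of_beq_eq_true (allL_spec h2 u hu)) (hl t List.mem_cons_self) h7⟩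
    cases h8 : Nat.beq (ntd w 0 t) 0 with
    | true => exact Or.inr ⟨rfl, Nat.eq_of_beq_eq_true h8⟩
    | false => exact Or.inl rfl

theorem look_vals (V : List ℕ) : ∀ (acc : List (ℕ × ℕ)) (t : ℕ), (t ∈ V ∨ look acc t = a t) →
    look (vals a V acc) t = a t := by
  induction V with
  | nil => exact fun _ _ h => h.resolve_left List.not_mem_nil
  | cons u V ih =>
    intro acc t h
    refine ih ((u, a u) :: acc) t (or_iff_not_imp_left.2 fun h1 => ?_)
    rw [look]
    split_ifs with h2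
    · exact congrArg a h2
    · exact h.resolve_left fun h3 => (List.mem_cons.1 h3).elim (fun e => h2 e.symm) h1

end Cfsg.Agent.N2.Sp1
end

-- part: N2/Sp1/Sieve
section
/-!
# N2 (S3519), sporadic groups: the exact sieve on a character table (helper45)

* `Vec T A v` : `v` is the list of the numbers of the elements of the types in `A`;
* `Hy.sub` : all vectors of subgroups with given order and types; `Hy.bad` : the same for subgroups which are not good.
-/

set_option autoImplicit false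
set_option linter.unusedSectionVars false

namespace Cfsg.Agent.N2.Sp1

open Cfsg Cfsg.Agent.FP3 Cfsg.Agent.TAB.Eng Cfsg.Agent.TAB.Use Cfsg.Agent.SB.SporL Cfsg.Agent.TH.Spor Cfsg.Agent.N2.Sp
open Cfsg.Agent.SM.Sp (cond_ff val)

variable {K : Type} [Group K] [Finite K] {D : Dat} {T : TD K D} {R : Rows} {ν : List ℕ} {A : Subgroup K}

/-- the numbers of the elements of the types -/
def Vec (T : TD K D) (A : Subgroup K) (v : List ℕ) : Prop := ∀ t < D.n, num T A t = ntd v 0 t

/-- the sum is divisible by the order -/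
def Dv (T : TD K D) (A : Subgroup K) (w : List ℤ) : Prop := (Nat.card A : ℤ) ∣ val T A w

theorem dv_rel (h : Tab T R) (hi : okIdx R = true) (A : Subgroup K) : ∀ w ∈ mapL Prod.snd R.rel, Dv T A w := by
  intro w hw
  rw [mapL_eq] at hw
  obtain ⟨r, hr, rfl⟩ := List.mem_map.1 hw
  obtain ⟨i, h1, rfl⟩ := List.getElem_of_mem hr
  obtain ⟨χ, hE, hR⟩ := h
  have := Fintype.ofFinite A
  choose! m hm using fun j (hj : j < R.n) => SM.Sp.exists_mult (hE.irr j hj) A
  have h2 := (SM.Sp.val_mult hR hi hm i).2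
  rw [ntd_eq _ _ h1] at h2
  exact ⟨_, h2⟩

theorem sum_ite (A : Subgroup K) (p : ℕ → Prop) [DecidablePred p] :
    ∑ t ∈ Finset.range D.n, (if p t then num T A t else 0) = Nat.card {x : A // p (T.ty x)} := by
  classical
  have := Fintype.ofFinite A
  have h1 := sum_num (T := T) A fun t => if p t then 1 else 0
  rw [Nat.card_eq_fintype_card, Fintype.card_subtype, Finset.card_filter, h1]
  exact Finset.sum_congr rfl fun t _ => by split_ifs <;> simp

/-- the rows of Frobenius -/
noncomputable def fro (D : Dat) (m d : ℕ) : List ℤ :=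
  mapL (fun t => cond (Nat.beq (Nat.mod d (D.ord t)) 0) (Int.ofNat (Nat.div m d)) (Int.ofNat 0)) (List.range D.n)

theorem nth_range (f : ℕ → ℤ) {n t : ℕ} (h : t < n) : nth (mapL f (List.range n)) t = f t := by
  rw [mapL_eq, nth_eq, List.getD_eq_getElem _ _ (by simpa using h), List.getElem_map, List.getElem_range]

theorem dv_fro {d : ℕ} (h : d ∣ Nat.card A) : Dv T A (fro D (Nat.card A) d) := by
  have h1 := S3993.result d h
  have h2 : Nat.card {x : A // D.ord (T.ty x) ∣ d} = Nat.card {g : A // g ^ d = 1} :=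
    Nat.card_congr (Equiv.subtypeEquivRight fun x => by rw [← T.ord, Subgroup.orderOf_coe, orderOf_dvd_iff_pow_eq_one])
  rw [← h2, ← sum_ite (T := T) A fun t => D.ord t ∣ d] at h1
  have h3 : val T A (fro D (Nat.card A) d) =
      ((Nat.card A / d * ∑ t ∈ Finset.range D.n, (if D.ord t ∣ d then num T A t else 0) : ℕ) : ℤ) := by
    rw [val, Finset.mul_sum, Nat.cast_sum]
    refine Finset.sum_congr rfl fun t ht => ?_
    rw [fro, nth_range _ (Finset.mem_range.1 ht)]
    split_ifs with h3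
    · rw [show Nat.mod d (D.ord t) = 0 from Nat.mod_eq_zero_of_dvd h3, mul_comm, Nat.cast_mul]
      rfl
    · rw [show Nat.beq (Nat.mod d (D.ord t)) 0 = false from
        Bool.eq_false_iff.2 fun e => h3 (Nat.dvd_of_mod_eq_zero (Nat.eq_of_beq_eq_true e))]
      simp
  rw [Dv, h3, Int.natCast_dvd_natCast]
  conv_lhs => rw [← Nat.div_mul_cancel h]
  exact Nat.mul_dvd_mul_left _ h1

theorem dv_cmb {W : List (List ℤ)} (h : ∀ w ∈ W, Dv T A w) (c : List (ℕ × ℕ)) : Dv T A (cmb W c) := by
  have h0 : Dv T A [] := by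
    rw [Dv, val, Finset.sum_eq_zero fun t _ => by rw [nth_nil, mul_zero]]
    exact dvd_zero _
  induction c with
  | nil => exact h0
  | cons p c ih =>
    have h1 : Dv T A (ntd W [] p.2) := (ntd_mem W [] p.2).elim (fun e => e.symm ▸ h0) (h _)
    have h2 : ∀ t, nth (cmb W (p :: c)) t = p.1 * nth (ntd W [] p.2) t + nth (cmb W c) t :=
      fun t => nth_comb_cons W _ _ t
    simp only [Dv, val] at h1 ih ⊢
    simp only [h2, mul_add, Finset.sum_add_distrib, mul_left_comm _ (p.1 : ℤ), ← Finset.mul_sum]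
    exact dvd_add (h1.mul_left _) ih

/-- reduction -/
noncomputable def red (M : ℕ) (w : List ℤ) : List ℕ := mapL (fun z => Int.toNat (Int.emod z (Int.ofNat M))) w

theorem red_mod {M : ℕ} (h : 0 < M) (w : List ℤ) (t : ℕ) :
    ((ntd (red M w) 0 t : ℕ) : ℤ) ≡ nth w t [ZMOD M] := by
  induction w generalizing t with
  | nil => rfl
  | cons z w ih =>
    cases t with
    | zero =>
      show ((Int.toNat (z % M) : ℕ) : ℤ) ≡ z [ZMOD M]
      rw [Int.toNat_of_nonneg (Int.emod_nonneg _ (Int.natCast_ne_zero.2 h.ne'))]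
      exact Int.mod_modEq _ _
    | succ t => exact ih t

omit [Finite K] in
theorem num_zero {V : List ℕ} (hS : Sup T A V) {t : ℕ} (h : t ∉ 0 :: V) : num T A t = 0 := by
  by_contra h1
  obtain ⟨a, ha, rfl⟩ := num_ne h1
  exact h (List.mem_cons.2 (hS a ha))

omit [Finite K] in
theorem sum_split {M : Type} [AddCommMonoid M] {V : List ℕ} (hS : Sup T A V) (h1 : (0 :: V).Nodup)
    (h2 : ∀ t ∈ V, t < D.n) (F : ℕ → ℕ → M) (hF : ∀ t, F 0 t = 0) :
    ∑ t ∈ Finset.range D.n, F (num T A t) t = F (num T A 0) 0 + (V.map fun t => F (num T A t) t).sum := by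
  rw [← Finset.sum_subset (s₁ := (0 :: V).toFinset) (fun t ht => ?_) fun t _ ht => ?_, List.sum_toFinset _ h1]
  · rfl
  · rcases List.mem_cons.1 (List.mem_toFinset.1 ht) with rfl | ht
    exacts [Finset.mem_range.2 (Nat.lt_of_le_of_lt (Nat.zero_le _) (T.lt 1)), Finset.mem_range.2 (h2 t ht)]
  · rw [num_zero hS fun e => ht (List.mem_toFinset.2 e), hF]

/-- evaluate rows -/
noncomputable def frcV (L : List (List ℕ)) : (List (List ℕ) → Bool) → Bool :=
  List.rec (fun κ => κ []) (fun r _ ih κ => frcL r fun y => ih fun L' => κ (y :: L')) L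

theorem frcV_eq (L : List (List ℕ)) (κ : List (List ℕ) → Bool) : frcV L κ = κ L := by
  induction L generalizing κ with
  | nil => rfl
  | cons r L ih =>
    show (frcL r fun y => frcV L fun L' => κ (y :: L')) = _
    rw [frcL_eq, ih]

/-- the vector is in the list -/
noncomputable def sol (n : ℕ) (SOL : List (List ℕ)) (acc : List (ℕ × ℕ)) : Bool :=
  frcL (mapL (look acc) (List.range n)) fun y => anyL (fun v => allL (fun t => Nat.beq (ntd v 0 t) (ntd y 0 t))
    (List.range n)) SOL

/-- the residue of an integer -/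
private noncomputable def rz (m : ℕ) (z : ℤ) : ℕ :=
  Int.rec (fun n => Nat.mod n m) (fun n => Nat.sub (Nat.sub m 1) (Nat.mod n m)) z

private theorem rz_lt {m : ℕ} (h : 0 < m) (z : ℤ) : rz m z < m := by
  cases z with
  | ofNat n => exact Nat.mod_lt n h
  | negSucc n => exact (Nat.sub_le _ _).trans_lt (Nat.sub_lt h Nat.one_pos)

private theorem rz_mod {m : ℕ} (h : 0 < m) (z : ℤ) : ((rz m z : ℕ) : ℤ) ≡ z [ZMOD m] := by
  cases z with
  | ofNat n =>
    show ((n % m : ℕ) : ℤ) ≡ (n : ℤ) [ZMOD m]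
    rw [Int.natCast_mod]
    exact Int.mod_modEq _ _
  | negSucc n =>
    show ((m - 1 - n % m : ℕ) : ℤ) ≡ Int.negSucc n [ZMOD m]
    have h1 := Nat.mod_lt n h
    have h2 := Nat.div_add_mod n m
    refine (Int.modEq_iff_dvd.2 ⟨-((n / m : ℕ) : ℤ) - 1, ?_⟩)
    rw [Int.negSucc_eq, Nat.cast_sub (by omega), Nat.cast_sub (by omega)]
    have h3 : (n : ℤ) = m * (n / m : ℕ) + (n % m : ℕ) := by exact_mod_cast h2.symm
    rw [h3, ← h3]
    generalize ((n / m : ℕ) : ℤ) = q at h3
    generalize ((n % m : ℕ) : ℤ) = r at h3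
    rw [h3]
    push_cast
    ring

/-- a packed row of residues -/
private noncomputable def pkr (m : ℕ) (w : List ℤ) : ℕ :=
  List.rec 0 (fun z _ ih => Nat.add (rz m z) (Nat.mul 340282366920938463463374607431768211456 ih)) w

/-- a packed combination -/
private noncomputable def pcs (m : ℕ) (W : List (List ℤ)) (c : List (ℕ × ℕ)) : ℕ :=
  List.rec 0 (fun p _ ih => Nat.add (Nat.mul p.1 (pkr m (ntd W [] p.2))) ih) c

/-- the sum of the coefficients -/
private noncomputable def scs (c : List (ℕ × ℕ)) : ℕ := List.rec 0 (fun p _ ih => Nat.add p.1 ih) c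

/-- the digits -/
private noncomputable def unp (m n : ℕ) : ℕ → List ℕ :=
  Nat.rec (fun _ => []) (fun _ ih X => Nat.rec [] (fun _ _ =>
    Nat.mod (Nat.mod X 340282366920938463463374607431768211456) m ::
      frc (Nat.div X 340282366920938463463374607431768211456) ih) X) n

/-- `f` are the digits of `X` -/
private def Rp (X : ℕ) (f : ℕ → ℕ) : Prop :=
  ∃ x : ℕ → ℕ, x 0 = X ∧ ∀ k, x k = f k + 340282366920938463463374607431768211456 * x (k + 1)

private theorem rp_pkr (m : ℕ) (w : List ℤ) : Rp (pkr m w) fun t => rz m (nth w t) := by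
  induction w with
  | nil => exact ⟨fun _ => 0, rfl, fun _ => (Nat.zero_mod m).symm⟩
  | cons z w ih =>
    obtain ⟨x, h1, h2⟩ := ih
    refine ⟨fun k => Nat.rec (pkr m (z :: w)) (fun s _ => x s) k, rfl, fun k => ?_⟩
    cases k with
    | zero => exact congrArg (fun y => rz m z + 340282366920938463463374607431768211456 * y) h1.symm
    | succ k => exact h2 k

private theorem rp_pcs {m : ℕ} (h : 0 < m) (W : List (List ℤ)) (c : List (ℕ × ℕ)) :
    ∃ f, Rp (pcs m W c) f ∧ ∀ t, f t ≤ scs c * m ∧ ((f t : ℕ) : ℤ) ≡ nth (cmb W c) t [ZMOD m] := by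
  induction c with
  | nil => exact ⟨fun _ => 0, ⟨fun _ => 0, rfl, fun _ => rfl⟩, fun _ => ⟨Nat.zero_le _, rfl⟩⟩
  | cons p c ih =>
    obtain ⟨f, ⟨y, h1, h2⟩, h3⟩ := ih
    obtain ⟨x, h4, h5⟩ := rp_pkr m (ntd W [] p.2)
    refine ⟨fun t => p.1 * rz m (nth (ntd W [] p.2) t) + f t, ⟨fun k => p.1 * x k + y k, ?_, fun k => ?_⟩, fun t => ⟨?_, ?_⟩⟩
    · show p.1 * x 0 + y 0 = p.1 * pkr m (ntd W [] p.2) + pcs m W c
      rw [h1, h4]
    · show p.1 * x k + y k = p.1 * rz m (nth (ntd W [] p.2) k) + f k +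
        340282366920938463463374607431768211456 * (p.1 * x (k + 1) + y (k + 1))
      rw [h5 k, h2 k]
      ring
    · show p.1 * rz m (nth (ntd W [] p.2) t) + f t ≤ (p.1 + scs c) * m
      rw [add_mul]
      exact Nat.add_le_add (Nat.mul_le_mul_left _ (rz_lt h _).le) (h3 t).1
    · have h6 : nth (cmb W (p :: c)) t = p.1 * nth (ntd W [] p.2) t + nth (cmb W c) t := nth_comb_cons W _ _ t
      rw [h6, Nat.cast_add, Nat.cast_mul]
      exact ((rz_mod h _).mul_left _).add (h3 t).2

private theorem ntd_unp (m n : ℕ) : ∀ {X : ℕ} {f : ℕ → ℕ}, Rp X f → (∀ t, f t < 340282366920938463463374607431768211456) →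
    ∀ t < n, ntd (unp m n X) 0 t = f t % m := by
  induction n with
  | zero => exact fun _ _ t ht => absurd ht (Nat.not_lt_zero t)
  | succ n ih =>
    rintro X f ⟨x, h1, h2⟩ h3 t ht
    cases X with
    | zero =>
      have h4 : ∀ k, x k = 0 := fun k => by
        induction k with
        | zero => exact h1
        | succ k ih' =>
          have := h2 k
          omega
      have h5 := h2 t
      rw [h4 t] at h5
      rw [show f t = 0 by omega]
      exact (Nat.zero_mod m).symm
    | succ X =>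
      have h4 := h2 0
      have h5 := h3 0
      rw [h1] at h4
      cases t with
      | zero =>
        show (X + 1) % 340282366920938463463374607431768211456 % m = _
        rw [h4, Nat.add_mul_mod_self_left, Nat.mod_eq_of_lt h5]
      | succ t =>
        show ntd (frc ((X + 1) / 340282366920938463463374607431768211456) (unp m n)) 0 t = _
        rw [frc_eq, h4, Nat.add_mul_div_left _ _ (by norm_num), Nat.div_eq_of_lt h5, Nat.zero_add]
        exact ih (f := fun t => f (t + 1)) ⟨fun k => x (k + 1), rfl, fun k => h2 (k + 1)⟩ (fun t => h3 (t + 1)) t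
          (Nat.lt_of_succ_lt_succ ht)

/-- the reduced combination -/
private noncomputable def rcm (m n : ℕ) (W : List (List ℤ)) (c : List (ℕ × ℕ)) : List ℕ :=
  cond (Nat.blt (Nat.mul (scs c) m) 340282366920938463463374607431768211456) (frc (pcs m W c) (unp m n))
    (red m (cmb W c))

private theorem rcm_mod {m n : ℕ} (h : 0 < m) (W : List (List ℤ)) (c : List (ℕ × ℕ)) {t : ℕ} (ht : t < n) :
    ((ntd (rcm m n W c) 0 t : ℕ) : ℤ) ≡ nth (cmb W c) t [ZMOD m] := by
  rw [rcm]
  cases h1 : Nat.blt (Nat.mul (scs c) m) 340282366920938463463374607431768211456 with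
  | false => exact red_mod h _ t
  | true =>
    obtain ⟨f, h2, h3⟩ := rp_pcs h W c
    rw [cond_true, frc_eq, ntd_unp m n h2 (fun t => (h3 t).1.trans_lt (Nat.blt_eq ▸ h1 :)) t ht, Int.natCast_mod]
    exact (Int.mod_modEq _ _).trans (h3 t).2

private theorem sN_rcm {a : ℕ → ℕ} {m n : ℕ} (h : 0 < m) (W : List (List ℤ)) (c : List (ℕ × ℕ)) (V : List ℕ)
    (hV : ∀ t ∈ V, t < n) : (sN a V (rcm m n W c) : ℤ) ≡ sZ a V (cmb W c) [ZMOD m] := by
  induction V with
  | nil => rfl
  | cons t V ih =>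
    show ((a t * ntd (rcm m n W c) 0 t + sN a V (rcm m n W c) : ℕ) : ℤ) ≡ a t * nth (cmb W c) t + sZ a V (cmb W c) [ZMOD m]
    push_cast
    exact ((rcm_mod h W c (hV t List.mem_cons_self)).mul_left _).add (ih fun u hu => hV u (List.mem_cons_of_mem _ hu))

/-- concatenation -/
private noncomputable def apL (W F : List (List ℤ)) : List (List ℤ) := List.rec F (fun a _ ih => a :: ih) W

private theorem apL_eq (W F : List (List ℤ)) : apL W F = W ++ F := by
  induction W with
  | nil => rfl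
  | cons a W ih => exact congrArg (a :: ·) ih

/-- the check for the order `m` and the types `V` -/
noncomputable def one (D : Dat) (WP WR : List (List ℤ)) (SOL : List (List ℕ)) (lo : ℕ → ℕ) (m : ℕ) (V ds : List ℕ)
    (C : List (List (ℕ × ℕ))) : Bool :=
  cond (allL (fun d => Nat.beq (Nat.mod m d) 0) ds && decide (0 :: V).Nodup && allL (fun t => Nat.blt t D.n) V)
    (frcV (mapL (rcm m D.n (apL WR (mapL (fro D m) ds))) C) fun WM =>
      List.rec false (fun w WM' _ => cond (allL (fun u => Nat.beq (ntd w 0 u) 0) V)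
        (cond (Nat.beq (Nat.mod (ntd w 0 0) m) 0) (lev m lo WP (sol D.n SOL) V WM' fun F =>
          frcLZ (mapL (fun v => nth v 0) WP) fun P => frcL (mapL (fun v => ntd v 0 0) WM') fun Q =>
            F (Nat.sub m 1) P Q [(0, 1)]) true) false) WM) false

theorem one_spec (h0 : num T A 0 = 1) {WP WR : List (List ℤ)} (hP : Pos T A WP) (hR : ∀ w ∈ WR, Dv T A w)
    {V : List ℕ} (hS : Sup T A V) {lo : ℕ → ℕ} (hl : ∀ t ∈ V, num T A t = 0 ∨ lo t ≤ num T A t)
    {SOL : List (List ℕ)} {ds : List ℕ} {C : List (List (ℕ × ℕ))}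
    (h : one D WP WR SOL lo (Nat.card A) V ds C = true) : ∃ v ∈ SOL, Vec T A v := by
  obtain ⟨h1, h2⟩ := cond_ff h
  rw [Bool.and_eq_true, Bool.and_eq_true, decide_eq_true_eq] at h1
  obtain ⟨⟨h3, h4⟩, h5⟩ := h1
  have h6 : ∀ t ∈ V, t < D.n := fun t ht => Nat.blt_eq ▸ allL_spec h5 t ht
  have e1 : ∀ w, val T A w = nth w 0 + sZ (num T A) V w := fun w => by
    rw [val, sum_split hS h4 h6 (fun x t => (x : ℤ) * nth w t) fun t => by simp, h0, Nat.cast_one, one_mul]
    rfl
  have e2 : Nat.card A - 1 = (V.map (num T A)).sum := by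
    rw [card_eq_sum (T := T) A, sum_split hS h4 h6 (fun x _ => x) fun _ => rfl, h0, Nat.add_sub_cancel_left]
  have hm : 0 < Nat.card A := Nat.card_pos
  rw [frcV_eq, apL_eq] at h2
  have h7 : ∀ w ∈ mapL (rcm (Nat.card A) D.n (WR ++ mapL (fro D (Nat.card A)) ds)) C,
      Nat.card A ∣ ntd w 0 0 + sN (num T A) V w := fun w hw => by
    rw [mapL_eq] at hw
    obtain ⟨c, -, rfl⟩ := List.mem_map.1 hw
    have h7 := dv_cmb (T := T) (A := A) (W := WR ++ mapL (fro D (Nat.card A)) ds) (fun w hw => (List.mem_append.1 hw).elim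
      (hR w) fun h7 => by
        rw [mapL_eq] at h7
        obtain ⟨d, hd, rfl⟩ := List.mem_map.1 h7
        exact dv_fro (Nat.dvd_of_mod_eq_zero (Nat.eq_of_beq_eq_true (allL_spec h3 d hd)))) c
    rw [Dv, e1] at h7
    rw [← Int.natCast_dvd_natCast, Nat.cast_add]
    exact (((rcm_mod hm _ _ (Nat.lt_of_le_of_lt (Nat.zero_le _) (T.lt 1))).add (sN_rcm hm _ _ V h6)).dvd_iff).2 h7
  generalize mapL (rcm (Nat.card A) D.n (WR ++ mapL (fro D (Nat.card A)) ds)) C = WM at h2 h7
  cases WM with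
  | nil => cases h2
  | cons w WM =>
  obtain ⟨h8, h9⟩ := cond_ff (show cond (allL (fun u => Nat.beq (ntd w 0 u) 0) V)
    (cond (Nat.beq (ntd w 0 0 % Nat.card A) 0) (lev (Nat.card A) lo WP (sol D.n SOL) V WM fun F =>
      frcLZ (mapL (fun v => nth v 0) WP) fun P => frcL (mapL (fun v => ntd v 0 0) WM) fun Q =>
        F (Nat.card A - 1) P Q [(0, 1)]) true) false = true from h2)
  have h10 := h7 w List.mem_cons_self
  rw [sN_zero fun u hu => Nat.eq_of_beq_eq_true (allL_spec h8 u hu), add_zero] at h10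
  rw [Nat.mod_eq_zero_of_dvd h10, Nat.beq_refl, cond_true] at h9
  obtain ⟨F, h11, h12⟩ := snd_lev hm V hl h9
  rw [frcLZ_eq, frcL_eq, mapL_eq, mapL_eq, e2] at h11
  have h13 := h12 _ _ _ (fa_map fun v hv => e1 v ▸ hP v hv) (fa_map fun v hv => h7 v (List.mem_cons_of_mem _ hv)) h11
  rw [sol, frcL_eq] at h13
  obtain ⟨v, hv, h14⟩ := anyL_spec h13
  refine ⟨v, hv, fun t ht => ?_⟩
  rw [Nat.eq_of_beq_eq_true (allL_spec h14 t (List.mem_range.2 ht)), mapL_eq, ntd_eq _ _ (by simpa using ht),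
    List.getElem_map, List.getElem_range, look_vals V _ t (or_iff_not_imp_left.2 fun h15 => ?_)]
  rw [look]
  split_ifs with h16
  · exact h16 ▸ h0.symm
  · exact (num_zero hS fun e => (List.mem_cons.1 e).elim (fun e => h16 e.symm) h15).symm

/-- the check for an arbitrary subgroup of order `m` with types in `V` -/
noncomputable def chkS (D : Dat) (R : Rows) (SOL : List (List ℕ)) (m : ℕ) (V ds : List ℕ) (C : List (List (ℕ × ℕ))) :
    Bool := cond (okIdx R) (Sp.frcW (rowsP R) fun WP => one D WP (mapL Prod.snd R.rel) SOL (fun _ => 1) m V ds C) false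

/-- **subgroups with given order and types** -/
theorem sub (H : Sp.Hy T R ν) {V : List ℕ} (hS : Sup T A V) {m : ℕ} (hm : Nat.card A = m) {SOL : List (List ℕ)}
    {ds : List ℕ} {C : List (List (ℕ × ℕ))} (h : chkS D R SOL m V ds C = true) : ∃ v ∈ SOL, Vec T A v := by
  subst hm
  obtain ⟨h1, h2⟩ := cond_ff h
  rw [Sp.frcW_eq] at h2
  exact one_spec (H.num0 A) (H.pos (pos_nil A)) (dv_rel H.tab h1 A) hS (fun t _ => Nat.eq_zero_or_pos _) h2

/-- the lower bound -/
noncomputable def thr (D : Dat) (ν : List ℕ) (f m t : ℕ) : ℕ :=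
  Nat.div (Nat.sub (Nat.add (Nat.mul (Nat.mul f m) (ntd ν 0 t)) D.N) 1) D.N

theorem thr_le (H : Sp.Hy T R ν) {f : ℕ} {a : K} (hf : f ≤ fx A a) : thr D ν f (Nat.card A) (T.ty a) ≤ num T A (T.ty a) := by
  have h0 : 0 < D.N := H.mass.1 ▸ Nat.card_pos
  have h1 := (Nat.mul_le_mul_right _ (Nat.mul_le_mul_right _ hf)).trans (H.den A a)
  show (f * Nat.card A * ntd ν 0 (T.ty a) + D.N - 1) / D.N ≤ _
  rw [← Nat.lt_succ_iff, Nat.div_lt_iff_lt_mul h0, Nat.succ_mul, mul_comm (num T A _)]
  omega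

/-- certificates: order, bound for the fixed points, divisors, combinations -/
abbrev Ct : Type := ℕ × ℕ × List ℕ × List (List (ℕ × ℕ))

/-- the check for one order -/
noncomputable def oneB (D : Dat) (ν : List ℕ) (O : Sp.Out) (WP WR : List (List ℤ)) (SOL : List (List ℕ)) (c : Ct) : Bool :=
  cond (Nat.ble (Nat.mul (Nat.pow (Nat.sub c.2.1 1) 3) c.1) D.N)
    (flt (fun t => anyL (fun e => Nat.beq e.1 t && Nat.ble e.2.1 c.1 && Nat.ble c.1 e.2.2) O &&
      Nat.beq (Nat.mod c.1 (D.ord t)) 0 && Nat.ble (thr D ν c.2.1 c.1 t) c.1) (mapL Prod.fst O) fun V0 =>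
      flt (fun t => allL (fun d => frc (D.pwf t d) fun u => Nat.beq u 0 || mem V0 u) [2, 3, 5]) V0 fun V =>
        one D WP WR SOL (thr D ν c.2.1 c.1) c.1 V c.2.2.1 c.2.2.2) false

theorem anyL_of {α : Type} {f : α → Bool} {l : List α} {x : α} (hx : x ∈ l) (h : f x = true) : anyL f l = true := by
  induction l with
  | nil => cases hx
  | cons b l ih =>
    show cond (f b) true (anyL f l) = true
    rcases List.mem_cons.1 hx with rfl | hx
    · rw [h, cond_true]
    · rw [ih hx, Bool.cond_self]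

theorem allL_of {α : Type} {f : α → Bool} {l : List α} (h : ∀ x ∈ l, f x = true) : allL f l = true := by
  induction l with
  | nil => rfl
  | cons b l ih =>
    show cond (f b) (allL f l) false = true
    rw [h b List.mem_cons_self, cond_true]
    exact ih fun x hx => h x (List.mem_cons_of_mem _ hx)

/-- the check for a list of orders -/
noncomputable def chkB (D : Dat) (R : Rows) (ν : List ℕ) (O : Sp.Out) (SOL : List (List ℕ)) (CL : List Ct) : Bool :=
  cond (okIdx R) (frcL ν fun ν' => Sp.frcW (rowsP R) fun WP => Sp.frcW (mapL Prod.snd R.rel) fun WR =>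
    allL (oneB D ν' O WP WR SOL) CL) false

/-- **subgroups which are not good** -/
theorem bad (H : Sp.Hy T R ν) (hb : ¬ Good A) {O : Sp.Out} {U : ℕ} (hO : Res T A O U) {SOL : List (List ℕ)} {CL : List Ct}
    (h : chkB D R ν O SOL CL = true) (hm : Nat.card A ∈ CL.map Prod.fst) : ∃ v ∈ SOL, Vec T A v := by
  obtain ⟨h1, h2⟩ := cond_ff h
  rw [frcL_eq, Sp.frcW_eq, Sp.frcW_eq] at h2
  obtain ⟨⟨m, f, ds, C⟩, h3, rfl : m = _⟩ := List.mem_map.1 hm
  obtain ⟨h4, h5⟩ := cond_ff (allL_spec h2 _ h3)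
  rw [flt_eq, flt_eq] at h5
  have hf : ∀ a ∈ A, f ≤ fx A a := fun a ha => H.le_fx hb le_rfl (Nat.le_of_ble_eq_true h4) ha
  have h6 : Sup T A ((mapL Prod.fst O).filter fun t => anyL (fun e => Nat.beq e.1 t && Nat.ble e.2.1 (Nat.card A) &&
      Nat.ble (Nat.card A) e.2.2) O && Nat.beq (Nat.mod (Nat.card A) (D.ord t)) 0 &&
      Nat.ble (thr D ν f (Nat.card A) t) (Nat.card A)) := fun a ha => (hO.2 a ha).imp id fun ⟨e, h6, h7, h8, h9⟩ => by
    refine List.mem_filter.2 ⟨mapL_eq _ O ▸ List.mem_map.2 ⟨e, h6, h7.symm⟩, ?_⟩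
    rw [anyL_of h6 (by rw [h7, Nat.beq_refl, Nat.ble_eq_true_of_le h8, Nat.ble_eq_true_of_le h9]; rfl), ← T.ord,
      show Nat.mod (Nat.card A) (orderOf a) = 0 from Nat.mod_eq_zero_of_dvd (A.orderOf_dvd_natCard ha),
      Nat.ble_eq_true_of_le ((thr_le H (hf a ha)).trans (num_le A _))]
    rfl
  refine one_spec (H.num0 A) (H.pos (pos_nil A)) (dv_rel H.tab h1 A) (fun a ha => (h6 a ha).imp id fun h7 =>
    List.mem_filter.2 ⟨h7, allL_of fun d _ => ?_⟩) (fun t _ => or_iff_not_imp_left.2 fun h7 => ?_) h5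
  · rw [frc_eq, ← T.pow]
    rcases h6 _ (A.pow_mem ha d) with h8 | h8
    · rw [h8]
      rfl
    · rw [mem_of h8, Bool.or_true]
  · obtain ⟨a, ha, rfl⟩ := num_ne h7
    exact thr_le H (hf a ha)

/-- the list contains the divisors up to `U` -/
noncomputable def cov (N U : ℕ) (L : List ℕ) : Bool :=
  frcL L fun L' => lp (fun i => cond (Nat.beq (Nat.mod N (Nat.add i 2)) 0) (mem L' (Nat.add i 2)) true) (Nat.sub U 1)

theorem of_mem {S : List ℕ} {t : ℕ} (h : mem S t = true) : t ∈ S := by
  induction S with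
  | nil => cases h
  | cons a S ih =>
    have h1 : cond (Nat.beq a t) true (mem S t) = true := h
    cases h2 : Nat.beq a t with
    | true => exact Nat.eq_of_beq_eq_true h2 ▸ List.mem_cons_self
    | false => exact List.mem_cons_of_mem _ (ih (by rwa [h2] at h1))

theorem mem_of_cov (hm : T.Mass) (h0 : A ≠ ⊥) {U : ℕ} (hU : Nat.card A ≤ U) {L : List ℕ} (h : cov D.N U L = true) :
    Nat.card A ∈ L := by
  have h1 : 1 < Nat.card A := (Subgroup.one_lt_card_iff_ne_bot A).2 h0
  rw [cov, frcL_eq] at h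
  have h2 := lp_spec h (Nat.card A - 2) (show _ < U - 1 by omega)
  rw [Nat.add_eq, Nat.sub_add_cancel h1, show Nat.mod D.N (Nat.card A) = 0 from
    Nat.mod_eq_zero_of_dvd (hm.1 ▸ A.card_subgroup_dvd_card)] at h2
  exact of_mem h2

end Cfsg.Agent.N2.Sp1
end

private theorem dce_e1be3faee443 : _root_.True := by
  try have : _root_.True := by simp only [_root_.Cfsg.Agent.N2.Sp1.Dv.eq_1]
  try have : _root_.True := by simp only [_root_.Cfsg.Agent.N2.Sp1.fro.eq_1]
  try have : _root_.True := by simp only [_root_.Cfsg.Agent.N2.Sp1.sol.eq_1]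
  try have : _root_.True := by simp only [_root_.Cfsg.Agent.N2.Sp1.go.eq_1]
  try have : _root_.True := by simp only [_root_.Cfsg.Agent.TAB.Eng.look.eq_2]
  try have : _root_.True := by simp only [_root_.Cfsg.Agent.N2.Sp1.sZ.eq_1]
  try have : _root_.True := by simp only [_root_.Cfsg.Agent.TAB.Eng.look.eq_1]
  try have : _root_.True := by simp only [_root_.Cfsg.Agent.N2.Sp1.node.eq_1]
  try have : _root_.True := by simp only [_root_.Cfsg.Agent.N2.Sp1.cov.eq_1]
  exact _root_.True.intro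
end

-- part: N2/Sp3/Sv
section
set_option linter.all false
open scoped Cfsg.Agent.FastGrp

/-!
# N2 (S3519), sporadic groups: the exact sieve with short rows, chosen inequalities and a chosen order (helper23)
-/

set_option autoImplicit false
set_option linter.unusedSectionVars false

namespace Cfsg.Agent.N2.Sp3

open Cfsg Cfsg.Agent.FP3 Cfsg.Agent.TAB.Eng Cfsg.Agent.TAB.Use Cfsg.Agent.SB.SporL Cfsg.Agent.TH.Spor Cfsg.Agent.N2.Sp
open Cfsg.Agent.N2.Sp1
open Cfsg.Agent.SM.Sp (cond_ff val)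

variable {K : Type} [Group K] [Finite K] {D : Dat} {T : TD K D} {R : Rows} {ν : List ℕ} {A : Subgroup K}

/-- the first entries -/
noncomputable def tkz (n : ℕ) (w : List ℤ) : List ℤ := mapL (nth w) (List.range n)

theorem val_tkz {n : ℕ} (h : ∀ t, n ≤ t → num T A t = 0) (w : List ℤ) : val T A (tkz n w) = val T A w :=
  Finset.sum_congr rfl fun t _ => by
    rcases lt_or_ge t n with h1 | h1
    · rw [tkz, nth_range _ h1]
    · rw [h t h1, Nat.cast_zero, zero_mul, zero_mul]

/-- certificates: inequalities, order of the types, the rest -/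
abbrev Cu : Type := List ℕ × List ℕ × Ct

/-- the check for one order -/
noncomputable def oneC (D : Dat) (ν : List ℕ) (O : Sp.Out) (WP WR : List (List ℤ)) (SOL : List (List ℕ)) (c : Cu) : Bool :=
  cond (Nat.ble (Nat.mul (Nat.pow (Nat.sub c.2.2.2.1 1) 3) c.2.2.1) D.N)
    (flt (fun t => anyL (fun e => Nat.beq e.1 t && Nat.ble e.2.1 c.2.2.1 && Nat.ble c.2.2.1 e.2.2) O &&
      Nat.beq (Nat.mod c.2.2.1 (D.ord t)) 0 && Nat.ble (thr D ν c.2.2.2.1 c.2.2.1 t) c.2.2.1) (mapL Prod.fst O) fun V0 =>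
      flt (fun t => allL (fun d => frc (D.pwf t d) fun u => Nat.beq u 0 || mem V0 u) [2, 3, 5]) V0 fun V =>
        cond (allL (mem c.2.1) V) (Sp.frcW (mapL (ntd WP []) c.1) fun WP' =>
          one D WP' WR SOL (thr D ν c.2.2.2.1 c.2.2.1) c.2.2.1 c.2.1 c.2.2.2.2.1 c.2.2.2.2.2) false) false

/-- the check for a list of orders -/
noncomputable def chkC (D : Dat) (R : Rows) (ν : List ℕ) (n : ℕ) (O : Sp.Out) (SOL : List (List ℕ)) (CL : List Cu) : Bool :=
  cond (okIdx R && allL (fun e => Nat.blt e.1 n) O && Nat.blt 0 n) (frcL ν fun ν' =>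
    Sp.frcW (mapL (tkz n) (rowsP R)) fun WP => Sp.frcW (mapL (tkz n) (mapL Prod.snd R.rel)) fun WR =>
    allL (oneC D ν' O WP WR SOL) CL) false

/-- **subgroups which are not good** -/
theorem badC (H : Sp.Hy T R ν) (hb : ¬ Good A) {O : Sp.Out} {U : ℕ} (hO : Res T A O U) {SOL : List (List ℕ)}
    {CL : List Cu} {n : ℕ} (h : chkC D R ν n O SOL CL = true) (hm : Nat.card A ∈ CL.map fun c => c.2.2.1) :
    ∃ v ∈ SOL, Vec T A v := by
  obtain ⟨h1, h2⟩ := cond_ff h
  rw [Bool.and_eq_true, Bool.and_eq_true] at h1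
  obtain ⟨⟨h1, hn⟩, hn0⟩ := h1
  have hz : ∀ t, n ≤ t → num T A t = 0 := fun t ht => by_contra fun h3 => by
    obtain ⟨a, ha, rfl⟩ := num_ne h3
    rcases hO.2 a ha with h4 | ⟨e, h4, h5, -⟩
    · exact absurd (Nat.blt_eq ▸ hn0 : 0 < n) (not_lt.2 (h4 ▸ ht))
    · exact absurd (Nat.blt_eq ▸ allL_spec hn e h4 : e.1 < n) (not_lt.2 (h5 ▸ ht))
  rw [frcL_eq, Sp.frcW_eq, Sp.frcW_eq] at h2
  obtain ⟨⟨I, V', m, f, ds, C⟩, h3, rfl : m = _⟩ := List.mem_map.1 hm
  obtain ⟨h4, h5⟩ := cond_ff (allL_spec h2 _ h3)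
  rw [flt_eq, flt_eq] at h5
  obtain ⟨h5, h5'⟩ := cond_ff h5
  rw [Sp.frcW_eq] at h5'
  have hf : ∀ a ∈ A, f ≤ fx A a := fun a ha => H.le_fx hb le_rfl (Nat.le_of_ble_eq_true h4) ha
  have h6 : Sup T A ((mapL Prod.fst O).filter fun t => anyL (fun e => Nat.beq e.1 t && Nat.ble e.2.1 (Nat.card A) &&
      Nat.ble (Nat.card A) e.2.2) O && Nat.beq (Nat.mod (Nat.card A) (D.ord t)) 0 &&
      Nat.ble (thr D ν f (Nat.card A) t) (Nat.card A)) := fun a ha => (hO.2 a ha).imp id fun ⟨e, h6, h7, h8, h9⟩ => by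
    refine List.mem_filter.2 ⟨mapL_eq _ O ▸ List.mem_map.2 ⟨e, h6, h7.symm⟩, ?_⟩
    rw [anyL_of h6 (by rw [h7, Nat.beq_refl, Nat.ble_eq_true_of_le h8, Nat.ble_eq_true_of_le h9]; rfl), ← T.ord,
      show Nat.mod (Nat.card A) (orderOf a) = 0 from Nat.mod_eq_zero_of_dvd (A.orderOf_dvd_natCard ha),
      Nat.ble_eq_true_of_le ((thr_le H (hf a ha)).trans (num_le A _))]
    rfl
  refine one_spec (H.num0 A) (fun w hw => ?_) (fun w hw => ?_) (fun a ha => (h6 a ha).imp id fun h7 =>
    of_mem (allL_spec h5 _ (List.mem_filter.2 ⟨h7, allL_of fun d _ => ?_⟩)))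
    (fun t _ => or_iff_not_imp_left.2 fun h7 => ?_) h5'
  · rw [mapL_eq] at hw
    obtain ⟨i, -, rfl⟩ := List.mem_map.1 hw
    rcases ntd_mem (mapL (tkz n) (rowsP R)) [] i with h7 | h7
    · rw [h7]
      exact (Finset.sum_eq_zero fun t _ => mul_zero _).ge
    · generalize ntd (mapL (tkz n) (rowsP R)) [] i = y at h7
      rw [mapL_eq] at h7
      obtain ⟨w, h8, rfl⟩ := List.mem_map.1 h7
      rw [val_tkz hz]
      exact H.pos (pos_nil A) w h8
  · rw [mapL_eq] at hw
    obtain ⟨w, h8, rfl⟩ := List.mem_map.1 hw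
    rw [Dv, val_tkz hz]
    exact dv_rel H.tab h1 A w h8
  · rw [frc_eq, ← T.pow]
    rcases h6 _ (A.pow_mem ha d) with h8 | h8
    · rw [h8]
      rfl
    · rw [mem_of h8, Bool.or_true]
  · obtain ⟨a, ha, rfl⟩ := num_ne h7
    exact thr_le H (hf a ha)

end Cfsg.Agent.N2.Sp3

private theorem dce_1380e2f54b55 : _root_.True := by
  try have : _root_.True := by simp only [_root_.Cfsg.Agent.N2.Sp3.tkz.eq_1]
  exact _root_.True.intro
end

-- part: N2/Sp4/Gen
section
prune_inst 0x100000000020000000000400000000004000000080000200010000000000000000000000020000000000000000000000000000002009008a100000000000000000000000000000000000000000000000000000000000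
set_option linter.all false
open scoped Cfsg.Agent.FastGrp

-- part: N2/Sp4/F3
section
/-!
# S3519: the 3-local case in `Fi24'` (helper15)

The proof of `SB.F24.boxGeo` with other leaves.
-/

set_option autoImplicit false
set_option linter.unusedSectionVars false

namespace Cfsg.Agent.N2.Sp4

open Subgroup Cfsg Cfsg.Agent.FP3 Cfsg.Agent.SB Cfsg.Agent.SB.F24 Cfsg.Agent.SB.F24.Geo Cfsg.Agent.N2.Sp4T

section thirteen

variable {G : Type} [Group G] {p q r : G}

/-- coordinates -/
def cw (p q r : G) (v : ZMod 3 × ZMod 3 × ZMod 3) : G := p ^ v.1.val * q ^ v.2.1.val * r ^ v.2.2.val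

/-- a matrix of order thirteen -/
def m13 (v : ZMod 3 × ZMod 3 × ZMod 3) : ZMod 3 × ZMod 3 × ZMod 3 :=
  (v.1 + (v.2.1 + (v.2.2 + v.1 + v.1)), v.2.1 + (v.2.2 + v.1 + v.1), v.2.2 + v.1 + v.1)

theorem m13_pow : ∀ a, m13^[13] a = a := by decide +kernel

theorem m13_ne : ∀ k < 13, m13^[k] (1, 0, 0) = (1, 0, 0) → k = 0 := by decide

theorem pow_val (hp : p ^ 3 = 1) (a b : ZMod 3) : p ^ (a + b).val = p ^ a.val * p ^ b.val := by
  rw [ZMod.val_add, ← pow_add, ← pow_eq_pow_mod _ hp]

theorem cw_cyc (h1 : Commute p q) (h2 : Commute p r) (a b c : ZMod 3) : cw p q r (a, b, c) = cw q r p (b, c, a) := by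
  simp only [cw]
  rw [mul_assoc, ((h1.pow_pow _ _).mul_right (h2.pow_pow _ _)).eq]

theorem cw_el (hp : p ^ 3 = 1) (h1 : Commute p q) {x : G} (hx : El p q r x) (a b c : ZMod 3) :
    x * cw p q r (a, b, c) * x⁻¹ = cw p q r (a + b, b, c) := by
  have e : ∀ y, x * y * x⁻¹ = MulAut.conj x y := fun _ => rfl
  simp only [cw]
  rw [e, map_mul, map_mul, map_pow, map_pow, map_pow, ← e, ← e, ← e, hx.1, conj_of_comm hx.2.1, conj_of_comm hx.2.2,
    pow_val hp, ← h1.eq, h1.mul_pow, mul_assoc (p ^ a.val), mul_assoc (p ^ a.val), mul_assoc (p ^ a.val)]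

theorem thirteen (hp : p ^ 3 = 1) (hq : q ^ 3 = 1) (hr : r ^ 3 = 1) (p1 : p ≠ 1) (q1 : q ≠ 1) (r1 : r ≠ 1)
    (h1 : Commute p q) (h2 : Commute p r) (h3 : Commute q r)
    (hi : ∀ x ∈ zpowers p, ∀ y ∈ zpowers q, ∀ z ∈ zpowers r, x * y * z = 1 → x = 1 ∧ y = 1 ∧ z = 1) {x y w : G}
    (hx : El p q r x) (hy : El q r p y) (hw : El r p q w) : 13 ∣ orderOf (x * y * w * w) := by
  have k1 : ∀ a b c, w * cw p q r (a, b, c) * w⁻¹ = cw p q r (a, b, c + a) := fun a b c => by
    rw [← cw_cyc h2.symm h3.symm, cw_el hr h2.symm hw, cw_cyc h2.symm h3.symm]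
  have k2 : ∀ a b c, y * cw p q r (a, b, c) * y⁻¹ = cw p q r (a, b + c, c) := fun a b c => by
    rw [cw_cyc h1 h2, cw_el hq h3 hy, cw_cyc h1 h2]
  have step : ∀ v, x * y * w * w * cw p q r v * (x * y * w * w)⁻¹ = cw p q r (m13 v) := fun ⟨a, b, c⟩ => by
    rw [show x * y * w * w * cw p q r (a, b, c) * (x * y * w * w)⁻¹ =
      x * (y * (w * (w * cw p q r (a, b, c) * w⁻¹) * w⁻¹) * y⁻¹) * x⁻¹ by group, k1, k1, k2, cw_el hp h1 hx]
    rfl
  generalize x * y * w * w = g at step
  have iter : ∀ k v, g ^ k * cw p q r v * (g ^ k)⁻¹ = cw p q r (m13^[k] v) := fun k => by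
    induction k with
    | zero => intro v; simp
    | succ k ih =>
      intro v
      rw [Function.iterate_succ_apply', ← step, ← ih, pow_succ']
      group
  have h4 := iter (orderOf g) (1, 0, 0)
  rw [pow_orderOf_eq_one, one_mul, inv_one, mul_one, ← Nat.mod_add_div (orderOf g) 13, Function.iterate_add_apply,
    Function.iterate_mul, Function.iterate_fixed (m13_pow _)] at h4
  refine Nat.dvd_of_mod_eq_zero (m13_ne _ (Nat.mod_lt _ (by norm_num)) ?_)
  generalize m13^[orderOf g % 13] (1, 0, 0) = v at h4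
  obtain ⟨a, b, c⟩ := v
  have k : ∀ {u : G}, u ^ 3 = 1 → u ≠ 1 → ∀ d : ZMod 3, u ^ d.val = 1 → d = 0 := fun {u} hu u1 d hd => by
    have := orderOf_dvd_of_pow_eq_one hd
    rw [orderOf_eq_prime hu u1] at this
    exact (ZMod.val_eq_zero d).1 (Nat.eq_zero_of_dvd_of_lt this (ZMod.val_lt d))
  have h5 : p ^ (a + 2).val * q ^ b.val * r ^ c.val = 1 := by
    have h6 : cw p q r (1, 0, 0) = p := by simp [cw, ZMod.val_one]
    have h7 : (2 : ZMod 3).val = 2 := rfl
    rw [add_comm, pow_val hp, h7, mul_assoc, mul_assoc, ← mul_assoc (p ^ a.val)]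
    change p ^ 2 * cw p q r (a, b, c) = 1
    rw [← h4, h6, ← pow_succ, hp]
  obtain ⟨e1, e2, e3⟩ := hi _ (npow_mem_zpowers _ _) _ (npow_mem_zpowers _ _) _ (npow_mem_zpowers _ _) h5
  rw [k hq q1 b e2, k hr r1 c e3, eq_neg_of_add_eq_zero_left (k hp p1 _ e1)]
  rfl

end thirteen

section geo

variable {G : Type} [Group G] [Finite G] {T S B : Subgroup G} {Pt : G → Prop} {Q : G → Subgroup G} {P : Set G} {p q w : G}

/-- the hypotheses on `B` -/
structure Sm (T S B : Subgroup G) : Prop where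
  nrm : ∀ Y : Subgroup G, Y ≤ T → Y ≠ ⊥ → IsPGroup 3 Y → (∀ s ∈ S, ∀ y ∈ Y, s * y * s⁻¹ ∈ Y) →
    T ⊓ normalizer (Y : Set G) ≤ B
  n3 : ∀ a ∈ B, ∀ r : ℕ, r.Prime → 5 ≤ r → orderOf a ≠ 3 * r
  n13 : ∀ a ∈ B, ¬ 13 ∣ orderOf a

theorem Sm.solv (h : Sm T S B) {C : Subgroup G} (hC : C ≤ B) (hp : p ∈ B) (h3 : orderOf p = 3)
    (hc : ∀ c ∈ C, Commute c p) : Group.IsSolvable C := by
  refine solv_of_primes fun r hr hd => ?_
  rcases primes_cent hC Nat.prime_three hp h3 hc hr hd with k | ⟨a, ha, k⟩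
  · exact Or.inr k
  · exact (Mon.prime_cases hr).imp_right fun k' => k'.resolve_right fun k' => h.n3 a ha r hr k' k

variable (H : Geo T Pt Q) (hS : Sm T S B)

include H hS

theorem sing {I : Set G} (hp : p ∈ I) (hI : ∀ a ∈ I, Pt a) (hc : ∀ a ∈ I, ∀ b ∈ I, b ∈ Q a)
    (hinv : ∀ s ∈ S, ∀ a ∈ I, s * a * s⁻¹ ∈ I) : False := by
  have hle : ∀ a ∈ I, closure I ≤ Q a := fun a ha => (closure_le _).2 (hc a ha)
  have hcm : ∀ a ∈ I, ∀ b ∈ I, Commute a b := fun a ha b hb => H.comm (hI b hb) (hc b hb a ha)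
  have hs := hS.nrm (closure I) ((hle p hp).trans (H.Q_le (hI p hp)))
    (fun e => H.ne (hI p hp) (mem_bot.1 (e ▸ _root_.Subgroup.subset_closure hp))) (closure_pg hcm fun a ha => H.cube (hI a ha))
    fun s hs y hy => conj_closure (fun a ha => subset_closure (hinv s hs a ha)) hy
  have h5 : ∀ a ∈ I, Q a ≤ B := fun a ha => (le_inf (H.Q_le (hI a ha)) (le_norm fun g hg y hy => by
    have h6 := mul_mem (zpowers_le.2 (subset_closure ha) ((H.es (hI a ha)).com g hg y (hle a ha hy))) hy
    rwa [inv_mul_cancel_right] at h6)).trans hs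
  have hcen : ∀ A : Subgroup G, A ≤ T → (∀ g ∈ A, ∀ a ∈ I, Commute g a) → Group.IsSolvable A := fun A h1 h2 =>
    hS.solv ((le_inf h1 (le_norm fun g hg y hy => conj_closure (fun a ha => by
      rw [conj_of_comm (h2 g hg a ha)]
      exact _root_.Subgroup.subset_closure ha) hy)).trans hs) (h5 p hp (H.self (hI p hp)))
      (orderOf_eq_prime (H.cube (hI p hp)) (H.ne (hI p hp))) fun c hc => h2 c hc p hp
  by_cases h1 : ∀ a ∈ I, a ∈ zpowers p
  · obtain ⟨q, -, -, -, -, h2⟩ := H.line (hI p hp) ⊥ IsPGroup.of_bot fun b hb => by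
      rw [mem_bot.1 hb]
      exact Commute.one_right p
    exact h2 (hcen _ (inf_le_left.trans inf_le_left) fun g hg a ha => comm_zp (mem_cen.1 hg.1.2) (h1 a ha))
  push Not at h1
  obtain ⟨q, hq, h1⟩ := h1
  by_cases h2 : ∀ a ∈ I, ∃ z ∈ zpowers q, a * z ∈ zpowers p
  · refine H.not_solv (hI p hp) (hI q hq) (hc p hp q hq) h1 (hcen _ (inf_le_left.trans inf_le_left) fun g hg a ha => ?_)
    obtain ⟨z, hz, h3⟩ := h2 a ha
    have h4 := (comm_zp (mem_cen.1 hg.1.2) h3).mul_right (comm_zp (mem_cen.1 hg.2) hz).inv_right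
    rwa [mul_inv_cancel_right] at h4
  push Not at h2
  obtain ⟨r, hr, h2⟩ := h2
  let Ind : G → G → G → Prop := fun a b c => a ∈ I ∧ b ∈ I ∧ c ∈ I ∧
    ∀ x ∈ zpowers a, ∀ y ∈ zpowers b, ∀ z ∈ zpowers c, x * y * z = 1 → x = 1 ∧ y = 1 ∧ z = 1
  have hz : ∀ {a b x y : G}, a ∈ I → b ∈ I → x ∈ zpowers a → y ∈ zpowers b → x * y = y * x := fun ha hb hx hy =>
    (comm_zp (comm_zp (hcm _ hb _ ha) hx).symm hy).eq
  have s1 : ∀ a b c, Ind a b c → Ind b c a := fun a b c h => ⟨h.2.1, h.2.2.1, h.1, fun x hx y hy z hz' e => by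
    rw [mul_assoc, hz h.2.2.1 h.1 hy hz', ← mul_assoc, hz h.2.1 h.1 hx hz'] at e
    have h3 := h.2.2.2 z hz' x hx y hy e
    exact ⟨h3.2.1, h3.2.2, h3.1⟩⟩
  have key : ∀ a b c, Ind a b c → ∃ x ∈ B, El a b c x := by
    intro a b c h
    have ha := hI a h.1
    obtain ⟨x, hx, h3, h4⟩ : ∃ x ∈ Q a, Commute x c ∧ ¬ Commute x b := by
      by_contra h3
      push Not at h3
      obtain ⟨z, hz', h4⟩ := H.dep ha (hc a h.1 c h.2.2.1) (hc a h.1 b h.2.1) h3
      exact H.ne (hI b h.2.1) (h.2.2.2 _ (inv_mem h4) b (mem_zpowers b) z hz' (by group)).2.1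
    obtain ⟨y, rfl | rfl, e⟩ := H.shift' ha hx (hc a h.1 b h.2.1) h4
    · exact ⟨y, h5 a h.1 hx, e, H.comm ha hx, h3⟩
    · exact ⟨x⁻¹, h5 a h.1 (inv_mem hx), e, H.comm ha (inv_mem hx), h3.inv_left⟩
  have i0 : Ind p q r := ⟨hp, hq, hr, fun x hx y hy z hz' e => by
    have h3 : z = 1 := by
      by_contra h3
      have h4 : z = (x * y)⁻¹ := eq_inv_of_mul_eq_one_right e
      rcases zp (H.cube (hI r hr)) hz' with h5 | h5 | h5
      · exact h3 h5
      · refine h2 y hy ?_
        rw [← h5, h4, hz hp hq hx hy, mul_inv_rev, inv_mul_cancel_right]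
        exact inv_mem hx
      · refine h2 y⁻¹ (inv_mem hy) ?_
        rw [← inv_inv r, ← h5, h4, inv_inv, mul_inv_cancel_right]
        exact hx
    rw [h3, mul_one] at e
    have h4 : y = 1 := H.inf_zp (hI p hp) (hI q hq) h1 (by
      rw [eq_inv_of_mul_eq_one_right e]
      exact inv_mem hx) hy
    rw [h4, mul_one] at e
    exact ⟨e, h4, h3⟩⟩
  obtain ⟨x, hx, ex⟩ := key p q r i0
  obtain ⟨y, hy, ey⟩ := key q r p (s1 _ _ _ i0)
  obtain ⟨u, hu, eu⟩ := key r p q (s1 _ _ _ (s1 _ _ _ i0))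
  exact hS.n13 _ (mul_mem (mul_mem (mul_mem hx hy) hu) hu) (thirteen (H.cube (hI p hp)) (H.cube (hI q hq))
    (H.cube (hI r hr)) (H.ne (hI p hp)) (H.ne (hI q hq)) (H.ne (hI r hr)) (hcm p hp q hq) (hcm p hp r hr)
    (hcm q hq r hr) i0.2.2.2 ex ey eu)

variable (O : Orb S Pt Q P)

include O

theorem case1 (hp : p ∈ P) (h1 : ∀ p ∈ P, ∀ a ∈ Lam Pt Q P p, ∀ b ∈ Lam Pt Q P p, b ∈ Q a) : False := by
  have hsub : ∀ p ∈ P, ∀ p' ∈ P, p' ∈ Q p → ∀ q ∈ Lam Pt Q P p, q ∈ Lam Pt Q P p' := fun p hp p' hp' h q hq =>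
    ⟨hq.1, h1 p hp p' (H.mem_Lam O hp hp' h) q hq, hq.2.2⟩
  have a0 := O.pt p hp
  obtain ⟨w, hw, hn⟩ := O.far p hp
  obtain ⟨q, hq, h2⟩ := H.exists_Lam O hp
  obtain ⟨z, hz, h3⟩ := H.Lam_meet O hp hw hn hq
  have hy := H.Lam_mul O hp hq h2 hz (mul_mem hq.2.1 ((H.es a0).le hz))
  have h4 : q * z ∉ zpowers p := fun e => h2 ((Subgroup.mul_mem_cancel_right _ hz).1 e)
  generalize q * z = y at h3 hy h4
  have hy' : y ∈ Lam Pt Q P w := ⟨hy.1, h3, hy.2.2⟩
  have h5 : y ∉ zpowers w := fun e => hn (mem_of_zp (H.cube (O.pt w hw)) e (H.ne hy.1) hy.2.1)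
  refine sing H hS (I := {a | ∀ u ∈ P, a ∈ Lam Pt Q P u}) (p := y) (fun u hu => ⟨hy.1, ?_, hy.2.2⟩)
    (fun a ha => (ha p hp).1) (fun a ha b hb => h1 p hp a (ha p hp) b (hb p hp)) fun s hs a ha u hu => ?_
  · by_contra h6
    obtain ⟨z1, hz1, b1⟩ := H.Lam_meet O hp hu (fun e => h6 (hsub p hp u hu e y hy).2.1) hy
    obtain ⟨z2, hz2, b2⟩ := H.Lam_meet O hw hu (fun e => h6 (hsub w hw u hu e y hy').2.1) hy'
    have c1 := H.Lam_mul O hp hy h4 hz1 b1
    have c2 := h1 u hu _ c1 _ (H.Lam_mul O hw hy' h5 hz2 b2)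
    have c3 := h1 p hp _ (H.Lam_mul O hp hy h4 hz1 (mul_mem hy.2.1 ((H.es a0).le hz1))) y hy
    have c4 := mem_of_zp (H.cube (O.pt w hw)) hz2 (fun e => h6 (by rwa [e, mul_one] at b2))
      (((Q _).mul_mem_cancel_left c3).1 c2)
    exact H.not_symm O hp hw hn (mem_of_zp (H.cube a0) hz1 (fun e => h6 (by rwa [e, mul_one] at b1))
      (((Q w).mul_mem_cancel_left h3).1 (H.symm c1.1 (O.pt w hw) c4)))
  · have h6 := O.inv s⁻¹ (inv_mem hs) u hu
    have h7 := H.Lam_conj O (O.pt _ h6) hs (ha _ h6)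
    rwa [show s * (s⁻¹ * u * s⁻¹⁻¹) * s⁻¹ = u by group] at h7

theorem case2 (hp : p ∈ P) (h2 : ∀ p ∈ P, ∃ q ∈ Lam Pt Q P p, ∃ q' ∈ Lam Pt Q P p, q' ∉ Q q) : False := by
  have a0 := O.pt p hp
  obtain ⟨w, hw, hn⟩ := O.far p hp
  have hcm : ∀ a ∈ Lam Pt Q P p ∪ P, ∀ b ∈ Lam Pt Q P p ∪ P, Commute a b := by
    rintro a (ha | ha) b (hb | hb)
    · exact H.Lam_comm O hp ha hb
    · exact ha.2.2 b hb
    · exact (hb.2.2 a ha).symm
    · exact O.comm a ha b hb
  have hs := hS.nrm (_root_.Subgroup.closure (Lam Pt Q P p ∪ P)) ((closure_le _).2 (by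
      rintro a (ha | ha)
      · exact H.Q_le a0 ha.2.1
      · exact H.Q_le (O.pt a ha) (H.self (O.pt a ha))))
    (fun e => H.ne a0 (mem_bot.1 (e ▸ _root_.Subgroup.subset_closure (Or.inr hp)))) (closure_pg hcm (by
      rintro a (ha | ha)
      · exact H.cube ha.1
      · exact H.cube (O.pt a ha))) fun s hs y hy => H.A_le O h2 (O.inv s hs p hp) hp (conj_closure (by
      rintro a (ha | ha)
      · exact _root_.Subgroup.subset_closure (Or.inl (H.Lam_conj O a0 hs ha))
      · exact _root_.Subgroup.subset_closure (Or.inr (O.inv s hs a ha))) hy)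
  have hle : T ⊓ centralizer {p} ⊓ centralizer {w} ≤ B := by
    refine (le_inf (inf_le_left.trans inf_le_left) (le_norm fun g hg y hy => ?_)).trans hs
    have key : ∀ x ∈ Q p, Commute x w → g * x * g⁻¹ ∈ closure (Lam Pt Q P p ∪ P) := fun x hx hc =>
      H.D_mem O h2 hp hw hn (H.norm a0 (mem_cen.1 hg.1.2) hx)
        (((mem_cen.1 hg.2).mul_left hc).mul_left (mem_cen.1 hg.2).inv_left)
    refine conj_closure ?_ hy
    rintro a (ha | ha)
    · exact key a ha.2.1 (ha.2.2 w hw)
    · obtain ⟨v, hv, h3⟩ := H.near O h2 hp hw hn ha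
      have h4 := key _ h3 ((O.comm a ha w hw).mul_left (H.comm_P O hw hv hw))
      rw [show g * (a * v) * g⁻¹ = g * a * g⁻¹ * (g * v * g⁻¹) by group,
        conj_of_comm (comm_zp (mem_cen.1 hg.2) hv)] at h4
      exact (Subgroup.mul_mem_cancel_right _ (zp_mem hw hv _)).1 h4
  exact (H.kind1 O h2 hp hw hn).2 (hS.solv hle
    (hle ⟨⟨H.Q_le a0 (H.self a0), mem_cen.2 (Commute.refl p)⟩, mem_cen.2 (O.comm p hp w hw)⟩)
    (orderOf_eq_prime (H.cube a0) (H.ne a0)) fun c hc => mem_cen.1 hc.1.2)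

omit O in
theorem geo_sm {z : G} (hz : Pt z) (hc : ∀ s ∈ S, Commute z (s * z * s⁻¹)) : False := by
  let P : Set G := {p | ∃ s ∈ S, s * z * s⁻¹ = p}
  have hP : z ∈ P := ⟨1, one_mem _, by group⟩
  have h1 : ∀ p ∈ P, Pt p := by
    rintro _ ⟨s, -, rfl⟩
    exact H.conj hz s
  have h2 : ∀ s ∈ S, ∀ p ∈ P, s * p * s⁻¹ ∈ P := by
    rintro s hs _ ⟨t, ht, rfl⟩
    exact ⟨s * t, mul_mem hs ht, by group⟩
  have h3 : ∀ p ∈ P, ∀ w ∈ P, ∃ s ∈ S, s * p * s⁻¹ = w := by
    rintro _ ⟨s, hs, rfl⟩ _ ⟨t, ht, rfl⟩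
    exact ⟨t * s⁻¹, mul_mem ht (inv_mem hs), by group⟩
  have h4 : ∀ s ∈ S, ∀ w ∈ P, ∃ u ∈ P, s * u * s⁻¹ = w := fun s hs w hw =>
    ⟨_, h2 s⁻¹ (inv_mem hs) w hw, by group⟩
  by_cases h5 : ∀ p ∈ P, ∃ w ∈ P, w ∉ Q p
  swap
  · push Not at h5
    obtain ⟨p, hp, h5⟩ := h5
    refine sing H hS hP h1 (fun a ha b hb => ?_) h2
    obtain ⟨s, hs, rfl⟩ := h3 p hp a ha
    obtain ⟨u, hu, rfl⟩ := h4 s hs b hb
    exact H.Q_conj (h1 p hp) s u (h5 u hu)
  have O : Orb S Pt Q P := ⟨h1, by
    rintro _ ⟨s, hs, rfl⟩ _ ⟨t, ht, rfl⟩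
    have h6 := Geo.conj_comm (hc _ (mul_mem (inv_mem hs) ht)) s
    rwa [show s * (s⁻¹ * t * z * (s⁻¹ * t)⁻¹) * s⁻¹ = t * z * t⁻¹ by group] at h6, h2, h3, h5⟩
  by_cases h6 : ∀ p ∈ P, ∃ q ∈ Geo.Lam Pt Q P p, ∃ q' ∈ Geo.Lam Pt Q P p, q' ∉ Q q
  · exact case2 H hS O hP h6
  · push Not at h6
    obtain ⟨p, hp, h6⟩ := h6
    refine case1 H hS O hP fun u hu a ha b hb => ?_
    obtain ⟨s, hs, rfl⟩ := h3 u hu p hp
    have h7 := H.Lam_conj O (h1 u hu) hs ha
    have h8 := H.Q_conj h7.1 s⁻¹ _ (h6 _ h7 _ (H.Lam_conj O (h1 u hu) hs hb))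
    rwa [show s⁻¹ * (s * a * s⁻¹) * s⁻¹⁻¹ = a by group, show s⁻¹ * (s * b * s⁻¹) * s⁻¹⁻¹ = b by group] at h8

end geo

section mi

variable {K : Type} [Group K] [Finite K] [IsSimpleGroup K] {A : Subgroup K} {Γ : Subgroup (MulAut K)}

theorem inv_core (h : MI A Γ) (p : ℕ) : Inv Γ (Mon.core p A) :=
  have := Lib.Cores.pCore_characteristic (G := A) p
  mi_char h (pCore p A)

theorem cent_core_le (h : MI A Γ) {p : ℕ} (h0 : pCore p A ≠ ⊥) : centralizer (Mon.core p A : Set K) ≤ A :=
  (centralizer_le_normalizer _).trans (mi_norm h (inv_core h p)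
    (fun e => h0 ((map_eq_bot_iff_of_injective _ A.subtype_injective).1 e))
    fun e => h.ne_top (top_le_iff.1 (e ▸ map_subtype_le _))).le

/-- **characteristic three** -/
theorem cent_three (h : MI A Γ) (h3 : pCore 3 A ≠ ⊥) (h2 : pCore 2 A = ⊥)
    (n3 : ∀ a ∈ A, ∀ r : ℕ, r.Prime → 5 ≤ r → orderOf a ≠ 3 * r) {z : K} (hz : ∀ u ∈ Mon.core 3 A, z * u = u * z) :
    z ∈ Mon.core 3 A := by
  by_contra hz'
  obtain ⟨e, he, oe⟩ := exists_ord Nat.prime_three (Mon.core_pgroup (S := A) 3)
    fun e => h3 ((map_eq_bot_iff_of_injective _ A.subtype_injective).1 e)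
  refine core_other (Or.inr ⟨rfl, rfl⟩) (cent_core_le h h3) (fun r hr hd => ?_) hz hz' (by rw [Mon.core, h2, Subgroup.map_bot])
  rcases primes_cent (cent_core_le h h3) Nat.prime_three (map_subtype_le _ he) oe
    (fun c hc => (mem_centralizer_iff.1 hc e he).symm) hr hd with k | ⟨a, ha, k⟩
  · exact Or.inr k
  · exact (Mon.prime_cases hr).imp_right fun k' => k'.resolve_right fun k' => n3 a ha r hr k' k

open Cfsg.Spor (Fi24)

/-- **`Fi24'`, `O₃(A) ≠ 1 = O₂(A)`.** -/
theorem three_F24 (hK : Spor.IsoFi24' K) (h : MI A Γ) (h3 : pCore 3 A ≠ ⊥) (h2 : pCore 2 A = ⊥)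
    (n3 : ∀ a ∈ A, ∀ r : ℕ, r.Prime → 5 ≤ r → orderOf a ≠ 3 * r) (n13 : ∀ a ∈ A, ¬ 13 ∣ orderOf a) : False := by
  have := R08.FiTwentyFour.finite_Fi24
  obtain ⟨e⟩ := hK
  let ι : K →* Fi24 := (_root_.commutator Fi24).subtype.comp e.toMonoidHom
  have hι : Function.Injective ι := Subtype.val_injective.comp e.injective
  have hr : ∀ x ∈ commutator Fi24, ∃ k, ι k = x := fun x hx => ⟨e.symm ⟨x, hx⟩, congrArg Subtype.val (e.apply_symm_apply _)⟩
  let S : Subgroup Fi24 := Γ.comap ((MulAut.congr e).symm.toMonoidHom.comp MulAut.conjNormal)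
  have hs : ∀ s ∈ S, ∃ σ ∈ Γ, ∀ k, ι (σ k) = s * ι k * s⁻¹ := fun s hs =>
    ⟨_, hs, fun k => congrArg Subtype.val (e.apply_symm_apply _)⟩
  have hs' : ∀ σ ∈ Γ, ∃ s ∈ S, ∀ k, ι (σ k) = s * ι k * s⁻¹ := fun σ hσ => by
    obtain ⟨s, h1⟩ := KFacts.FiTF.exists_conj (MulAut.congr e σ)
    have h4 : MulAut.conjNormal s = MulAut.congr e σ := MulEquiv.ext fun t => Subtype.ext (h1 t).symm
    refine ⟨s, ?_, fun k => ?_⟩
    · show (MulAut.congr e).symm (MulAut.conjNormal s) ∈ Γ
      rwa [h4, MulEquiv.symm_apply_apply]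
    · have h5 := h1 (e k)
      simpa only [ι, _root_.MulEquiv.toMonoidHom_eq_coe, _root_.MonoidHom.coe_comp, _root_.Subgroup.coe_subtype, _root_.MonoidHom.coe_coe, _root_.Function.comp_apply, _root_.MulAut.congr_apply, _root_.MulEquiv.trans_apply, _root_.MulEquiv.symm_apply_apply] using h5
  obtain ⟨z, hz, hc⟩ := Asm.exists_pt ((Mon.core_pgroup (S := A) 3).map ι) fun k =>
    h3 ((map_eq_bot_iff_of_injective _ A.subtype_injective).1 ((map_eq_bot_iff_of_injective _ hι).1 k))
  obtain ⟨z, rfl⟩ := hr z (Asm.mem_of_cube R08.FiTwentyFour.index_commutator (Asm.cube hz))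
  have hzA := cent_three h h3 h2 n3 (z := z) fun u hu => hι (by rw [map_mul, map_mul, hc _ ⟨u, hu, rfl⟩])
  refine geo_sm (Asm.geo boxLoc) (S := S) (B := A.map ι) ⟨fun Y h1 h4 h5 h6 g hg => ?_, ?_, ?_⟩ hz fun s h1 => ?_
  · obtain ⟨g, rfl⟩ := hr g hg.1
    refine ⟨g, (mi_norm h (E := Y.comap ι) (fun σ hσ x hx => ?_) (fun k => h4 (eq_bot_iff.2 fun y hy => ?_))
      (ne_top_of_pgroup Nat.prime_three Nat.prime_two (by norm_num) ?_ (h5.comap_of_injective ι hι))).le
      (mem_normalizer_iff.2 fun y => ?_), rfl⟩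
    · obtain ⟨s, k1, k2⟩ := hs' σ hσ
      rw [mem_comap, k2]
      exact h6 s k1 _ hx
    · obtain ⟨y, rfl⟩ := hr y (h1 hy)
      have h7 : y ∈ Y.comap ι := hy
      rw [k, mem_bot] at h7
      rw [h7, map_one]
      exact one_mem _
    · rw [Nat.card_congr e.toEquiv]
      exact (S1698.result.2 : Nat.card (commutator Fi24) = _) ▸ by norm_num
    · have := mem_normalizer_iff.1 hg.2 (ι y)
      rwa [← map_inv, ← map_mul, ← map_mul] at this
  · rintro _ ⟨a, ha, rfl⟩
    rw [orderOf_injective ι hι]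
    exact n3 a ha
  · rintro _ ⟨a, ha, rfl⟩
    rw [orderOf_injective ι hι]
    exact n13 a ha
  · obtain ⟨σ, k1, k2⟩ := hs s h1
    exact hc _ ⟨σ z, inv_core h 3 σ k1 z hzA, k2 z⟩

end mi

end Cfsg.Agent.N2.Sp4
end

-- part: N2/Sp4/Gen
section
/-!
# S3519, sporadic rows: tools for the `p`-local cases, `p` odd (helper15)
-/

set_option autoImplicit false
set_option linter.unusedSectionVars false

namespace Cfsg.Agent.N2.Sp4

open Subgroup Cfsg Cfsg.Agent.FP3 Cfsg.Agent.SB Cfsg.Agent.N2.Sp Cfsg.Agent.N2.Sp2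
open Cfsg.Agent.TAB.Eng Cfsg.Agent.TAB.Use Cfsg.Agent.SB.SporL Cfsg.Agent.TH.Spor

section grp

variable {G : Type*} [Group G] [Finite G]

theorem one_of_three {t : G} (h : ∀ g : G, g ^ 3 = 1 → Commute t g → g = 1) {u : G} (hu : Commute t u) (k : ℕ) :
    u ^ 3 ^ k = 1 → u = 1 := by
  induction k with
  | zero => simp
  | succ k ih => exact fun e => ih (h _ (by rw [← pow_mul, ← pow_succ, e]) (hu.pow_right _))

/-- an involution which commutes with no element of order three -/
theorem normal_of_inv (hc : centralizer (pCore 3 G : Set G) ≤ pCore 3 G) {t : G} (ht : t * t = 1)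
    (h : ∀ g : G, g ^ 3 = 1 → Commute t g → g = 1) (P : Sylow 3 G) : (P : Subgroup G).Normal := by
  have : Fact (Nat.Prime 3) := ⟨Nat.prime_three⟩
  have hN := Lib.Cores.pCore_normal (G := G) 3
  have hY := Lib.Cores.pCore_isPGroup (G := G) 3
  have hle : pCore 3 G ≤ P := hY.le_sylow_of_normal P
  have h1 : ∀ u ∈ (P : Subgroup G), Commute t u → u = 1 := fun u hu hc => by
    obtain ⟨k, hk⟩ := P.isPGroup' ⟨u, hu⟩
    exact one_of_three h hc k (congrArg Subtype.val hk)
  have hi : t⁻¹ = t := inv_eq_of_mul_eq_one_right ht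
  have h2 : ∀ y ∈ pCore 3 G, t * y * t⁻¹ = y⁻¹ := fun y hy =>
    congrArg Subtype.val (congrFun (MonoidHom.FixedPointFree.coe_eq_inv_of_involutive
      (φ := (MulAut.conjNormal t : MulAut (pCore 3 G)))
      (fun g hg => Subtype.ext (h1 g (hle g.2) (mul_inv_eq_iff_eq_mul.1 (congrArg Subtype.val hg))))
      fun g => Subtype.ext (by
        show t * (t * g * t⁻¹) * t⁻¹ = g
        rw [hi, ← mul_assoc, ← mul_assoc, ht, one_mul, mul_assoc, ht, mul_one])) ⟨y, hy⟩)
  suffices h3 : (P : Subgroup G) ≤ pCore 3 G from le_antisymm h3 hle ▸ hN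
  intro p hp
  have h3 : t⁻¹ * (p * t * p⁻¹) ∈ pCore 3 G := hc (mem_centralizer_iff.2 fun y hy => by
    have h4 := h2 _ (hN.conj_mem y hy p⁻¹)
    have h5 := h2 y hy
    calc y * (t⁻¹ * (p * t * p⁻¹)) = t⁻¹ * (t * y * t⁻¹) * (p * t * p⁻¹) := by group
      _ = t⁻¹ * (p * (p⁻¹ * y * p⁻¹⁻¹)⁻¹ * p⁻¹) * (p * t * p⁻¹) := by rw [h5]; group
      _ = _ := by rw [← h4]; group)
  obtain ⟨k, hk⟩ := hY ⟨_, h3⟩
  obtain ⟨j, hj⟩ : Odd (3 ^ k) := Odd.pow (by decide)
  have h4 := pow_mem h3 (j + 1)
  have h5 : (t⁻¹ * (p * t * p⁻¹)) ^ (j + 1) * (t⁻¹ * (p * t * p⁻¹)) ^ (j + 1) = t⁻¹ * (p * t * p⁻¹) := by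
    have h6 : (t⁻¹ * (p * t * p⁻¹)) ^ 3 ^ k = 1 := congrArg Subtype.val hk
    rw [← pow_add, show j + 1 + (j + 1) = 3 ^ k + 1 by omega, pow_succ, h6, one_mul]
  generalize (t⁻¹ * (p * t * p⁻¹)) ^ (j + 1) = u at h4 h5
  have h6 := h1 (u * p) (mul_mem (hle h4) hp) (by
    have h7 : u * (t * u) = t := by rw [mul_inv_eq_iff_eq_mul.1 (h2 u h4), mul_inv_cancel_left]
    have h8 : p * t = t * (u * u) * p := by rw [h5]; group
    show t * (u * p) = u * p * t
    rw [mul_assoc u, h8]
    nth_rewrite 1 [← h7]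
    simp only [mul_assoc])
  rw [eq_inv_of_mul_eq_one_right h6]
  exact inv_mem h4

theorem exists_four {a : G} (h : 4 ∣ orderOf a) : ∃ k, orderOf (a ^ k) = 4 :=
  ⟨_, orderOf_pow_orderOf_div (orderOf_pos a).ne' h⟩

theorem qd_four : ∃ m : qd 3, orderOf m = 4 := by
  let m : Matrix.SpecialLinearGroup (Fin 3) (ZMod 3) := ⟨!![0, -1, 0; 1, 0, 0; 0, 0, 1], by decide +kernel⟩
  have h1 : orderOf m = 2 ^ (1 + 1) := orderOf_eq_prime_pow (by decide) (by decide)
  exact ⟨⟨m, subset_closure ⟨rfl, rfl, rfl⟩⟩, (orderOf_coe _).symm.trans h1⟩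

/-- no section `Qd(3)` -/
theorem zj_normal (hc : centralizer (pCore 3 G : Set G) ≤ pCore 3 G) (n4 : ∀ a : G, orderOf a ≠ 4) (P : Sylow 3 G) :
    (centerThompsonAOf (P : Subgroup G)).Normal := by
  have : Fact (Nat.Prime 3) := ⟨Nat.prime_three⟩
  refine S0664.result (by decide) ?_ hc P
  rintro ⟨K, R, hR, ⟨e⟩⟩
  obtain ⟨m, h1⟩ := qd_four
  obtain ⟨k, hk⟩ := QuotientGroup.mk'_surjective _ (e.symm m)
  have h2 := orderOf_map_dvd (QuotientGroup.mk' (R.subgroupOf K)) k
  rw [hk, MulEquiv.orderOf_eq, h1, ← orderOf_coe k] at h2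
  obtain ⟨j, hj⟩ := exists_four h2
  exact n4 _ hj

/-- a central element of a Sylow subgroup -/
theorem exists_central {p F : ℕ} (hp : p.Prime) {Y : Subgroup G} (hY : IsPGroup p Y) (hF : p ^ (F + 1) ∣ Nat.card G) :
    ∃ z : G, orderOf z = p ∧ p ^ (F + 1) ∣ cn z ∧ ∀ y ∈ Y, z * y = y * z := by
  have := Fact.mk hp
  obtain ⟨P, hP⟩ := hY.exists_le_sylow
  have h1 := P.pow_dvd_card_of_pow_dvd_card hF
  have : Nontrivial P := (P : Subgroup G).nontrivial_iff_ne_bot.2
    (P.ne_bot_of_dvd_card ((dvd_pow_self p F.succ_ne_zero).trans hF))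
  have := P.isPGroup'.center_nontrivial
  obtain ⟨z, hz⟩ := exists_prime_orderOf_dvd_card' (G := center P) p
    ((P.isPGroup'.to_subgroup _).card_eq_or_dvd.resolve_left Finite.one_lt_card.ne')
  have h2 : ∀ y ∈ (P : Subgroup G), y * z = z * y := fun y hy => congrArg Subtype.val (mem_center_iff.1 z.2 ⟨y, hy⟩)
  exact ⟨z, by rw [orderOf_coe, orderOf_coe, hz], h1.trans (card_dvd_of_le fun y hy =>
    mem_centralizer_singleton_iff.2 (h2 y hy)), fun y hy => (h2 y (hP hy)).symm⟩

/-- groups with two primes -/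
theorem card_le_two {H : Subgroup G} {p q a b : ℕ} (hp : p.Prime) (hq : q.Prime)
    (h : ∀ x ∈ H, (orderOf x).Prime → orderOf x = p ∨ orderOf x = q)
    (ha : ∀ E ≤ H, IsPGroup p E → Nat.card E ≤ a) (hb : ∀ E ≤ H, IsPGroup q E → Nat.card E ≤ b) :
    Nat.card H ≤ a * b := by
  have := Fact.mk hp
  have := Fact.mk hq
  obtain ⟨P⟩ : Nonempty (Sylow p H) := inferInstance
  have h1 := Nat.eq_prime_pow_of_unique_prime_dvd (n := (P : Subgroup H).index) (p := q) index_ne_zero_of_finite
    fun {r} hr hd => by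
      have := Fact.mk hr
      obtain ⟨x, hx⟩ := exists_prime_orderOf_dvd_card' r (hd.trans (P : Subgroup H).index_dvd_card)
      rw [← orderOf_coe] at hx
      exact hx ▸ (h x x.2 (hx ▸ hr)).resolve_left fun e => P.not_dvd_index (e ▸ hx ▸ hd)
  obtain ⟨Q, hQ⟩ := Sylow.exists_subgroup_card_pow_prime q (h1 ▸ (P : Subgroup H).index_dvd_card :)
  rw [← (P : Subgroup H).card_mul_index, h1, ← hQ, ← card_map_of_injective H.subtype_injective,
    ← card_map_of_injective (K := Q) H.subtype_injective]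
  exact Nat.mul_le_mul (ha _ (map_subtype_le _) (P.isPGroup'.map _))
    (hb _ (map_subtype_le _) ((IsPGroup.of_card hQ).map _))

/-- an involution on an abelian group -/
theorem exists_inv {V : Subgroup G} (hc : ∀ a ∈ V, ∀ b ∈ V, a * b = b * a) {t : G} (ht : t * t = 1)
    (hn : ∀ v ∈ V, t * v * t⁻¹ ∈ V) : ∃ W : Subgroup G, (∀ w, w ∈ W ↔ w ∈ V ∧ t * w * t⁻¹ = w⁻¹) ∧
      Nat.card V ≤ Nat.card ↥(V ⊓ centralizer {t}) * Nat.card W := by
  let W : Subgroup G :=
    { carrier := {w | w ∈ V ∧ t * w * t⁻¹ = w⁻¹}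
      one_mem' := ⟨one_mem _, by simp⟩
      mul_mem' := fun {a b} ha hb => ⟨mul_mem ha.1 hb.1, by
        rw [← conj_mul, ha.2, hb.2, hc a ha.1 b hb.1, mul_inv_rev]⟩
      inv_mem' := fun {a} ha => ⟨inv_mem ha.1, by rw [← conj_inv, ha.2]⟩ }
  have hi : t⁻¹ = t := inv_eq_of_mul_eq_one_right ht
  let f : V →* W := MonoidHom.mk' (fun v => ⟨(v : G)⁻¹ * (t * v * t⁻¹), mul_mem (inv_mem v.2) (hn _ v.2), by
    have e : t * (t * v * t⁻¹) * t⁻¹ = v := by
      rw [hi, ← mul_assoc t, ← mul_assoc t, ht, one_mul, mul_assoc (v : G), ht, mul_one]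
    rw [← conj_mul, e]
    group⟩) fun a b => Subtype.ext (by
    show ((a : G) * b)⁻¹ * (t * (a * b) * t⁻¹) = (a : G)⁻¹ * (t * a * t⁻¹) * ((b : G)⁻¹ * (t * b * t⁻¹))
    have e := hc _ (inv_mem b.2) _ (hn _ a.2)
    rw [← conj_mul, mul_inv_rev, hc _ (inv_mem b.2) _ (inv_mem a.2)]
    generalize t * a * t⁻¹ = c at e
    rw [mul_assoc, ← mul_assoc (b : G)⁻¹, e]
    simp only [mul_assoc])
  refine ⟨W, fun _ => Iff.rfl, ?_⟩
  rw [← f.ker.card_mul_index, index_ker]
  refine Nat.mul_le_mul (Nat.card_le_card_of_injective (fun v => ⟨v.1, v.1.2, mem_centralizer_singleton_iff.2 ?_⟩)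
    fun a b e => Subtype.ext (Subtype.ext (congrArg (fun z => z.1) e))) (card_le_card_group _)
  have h1 : (v.1 : G)⁻¹ * (t * v.1 * t⁻¹) = 1 := congrArg Subtype.val (MonoidHom.mem_ker.1 v.2)
  exact (mul_inv_eq_iff_eq_mul.1 (inv_mul_eq_one.1 h1).symm).symm

/-- the extension by an involution -/
def ext2 (W : Subgroup G) (t : G) (ht : t * t = 1) (hn : ∀ w ∈ W, t * w * t⁻¹ ∈ W) : Subgroup G where
  carrier := {x | x ∈ W ∨ t * x ∈ W}
  one_mem' := Or.inl (one_mem _)
  mul_mem' := fun {a b} ha hb => by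
    have hi : t⁻¹ = t := inv_eq_of_mul_eq_one_right ht
    rcases ha with ha | ha <;> rcases hb with hb | hb
    · exact Or.inl (mul_mem ha hb)
    · exact Or.inr (by simpa [mul_assoc] using mul_mem (hn a ha) hb)
    · exact Or.inr (mul_assoc t a b ▸ mul_mem ha hb)
    · have h1 := mul_mem (hn _ ha) hb
      rw [← mul_assoc t, ht, one_mul, mul_assoc, inv_mul_cancel_left] at h1
      exact Or.inl h1
  inv_mem' := fun {a} ha => ha.imp inv_mem fun ha => by
    have h1 := hn _ (inv_mem ha)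
    rwa [mul_inv_rev, mul_assoc, mul_assoc, ← mul_inv_rev, ht, inv_one, mul_one] at h1

end grp

section mi

variable {K : Type} [Group K] [Finite K] [IsSimpleGroup K] {A : Subgroup K} {Γ : Subgroup (MulAut K)}

theorem hc_of {p : ℕ} (h : ∀ z : K, (∀ u ∈ Mon.core p A, z * u = u * z) → z ∈ Mon.core p A) :
    centralizer (pCore p A : Set A) ≤ pCore p A := fun a ha => by
  obtain ⟨b, hb, e⟩ := h a (by
    rintro _ ⟨u, hu, rfl⟩
    exact congrArg Subtype.val (mem_centralizer_iff.1 ha u hu).symm)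
  exact (Subtype.ext e : b = a) ▸ hb

/-- **involutions which commute with no element of order three** -/
theorem dead_inv (h : MI A Γ) (h3 : 3 ∣ Nat.card A) (hc : centralizer (pCore 3 A : Set A) ≤ pCore 3 A) {t : K}
    (ht : t ∈ A) (h2 : t * t = 1) (hf : ∀ g ∈ A, orderOf g = 3 → ¬ Commute t g) : ¬ 3 ∣ A.index := by
  have : Fact (Nat.Prime 3) := ⟨Nat.prime_three⟩
  obtain ⟨P⟩ : Nonempty (Sylow 3 A) := inferInstance
  have := normal_of_inv hc (t := ⟨t, ht⟩) (Subtype.ext h2) (fun g h4 h5 => by_contra fun h6 =>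
    hf g g.2 (by rw [orderOf_coe, orderOf_eq_prime h4 h6]) (congrArg Subtype.val h5.eq)) P
  exact not_dvd_of_norm P (norm_of_normal h P h3)

/-- **no elements of order four** -/
theorem zj (h : MI A Γ) (h3 : 3 ∣ Nat.card A) (hc : centralizer (pCore 3 A : Set A) ≤ pCore 3 A)
    (n4 : ∀ a ∈ A, orderOf a ≠ 4) : ¬ 3 ∣ A.index := by
  have : Fact (Nat.Prime 3) := ⟨Nat.prime_three⟩
  obtain ⟨P⟩ : Nonempty (Sylow 3 A) := inferInstance
  have : Nontrivial P := (P : Subgroup A).nontrivial_iff_ne_bot.2 (P.ne_bot_of_dvd_card h3)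
  have : (centerThompsonAOf (⊤ : Subgroup P)).Characteristic := characteristic_iff_map_eq.2 fun φ => by
    rw [PLocal.ThompsonJA.map_centerThompsonAOf _ φ.injective, map_top_of_surjective _ φ.surjective]
  refine not_dvd_of_norm P (norm_char h P (centerThompsonAOf ⊤)
    (PLocal.ThompsonJA.centerThompsonAOf_ne_bot _ (P.isPGroup'.to_subgroup _) top_ne_bot) ?_)
  rw [PLocal.ThompsonJA.map_centerThompsonAOf _ (subtype_injective _), ← MonoidHom.range_eq_map, range_subtype]
  exact zj_normal hc (fun a e => n4 a a.2 (by rw [orderOf_coe, e])) P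

end mi

section tab

variable {K : Type} [Group K] [Finite K] {D : Dat} {T : TD K D} {R : Rows} {ν : List ℕ} {A : Subgroup K}

theorem vf_sum (Y : Subgroup K) [Fintype K] [DecidablePred (· ∈ Y)] (ψ : ℕ → ℤ) :
    vf T Y ψ = ∑ y ∈ Finset.univ.filter (· ∈ Y), ψ (T.ty y) := by
  rw [Finset.sum_subtype (p := (· ∈ Y)) _ (by simp), sum_num Y ψ, vf]
  exact Finset.sum_congr rfl fun t _ => (nsmul_eq_mul _ _).symm

theorem vf_le {Z Y : Subgroup K} (h : Z ≤ Y) {ψ : ℕ → ℤ} {a : ℤ} (ha : ∀ y ∈ Y, y ∉ Z → ψ (T.ty y) ≤ a) :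
    vf T Y ψ ≤ vf T Z ψ + (Nat.card Y - Nat.card Z) * a := by
  classical
  have := Fintype.ofFinite K
  have h1 : Finset.univ.filter (· ∈ Z) ⊆ Finset.univ.filter (· ∈ Y) := fun x hx => by
    simpa using h (by simpa using hx)
  have h2 : ∀ U : Subgroup K, Nat.card U = (Finset.univ.filter (· ∈ U)).card := fun U => by
    rw [Nat.card_eq_fintype_card, Fintype.card_subtype]
  rw [vf_sum, vf_sum, ← Finset.sum_sdiff h1, add_comm, h2, h2, ← Nat.cast_sub (Finset.card_le_card h1),
    ← Finset.card_sdiff_of_subset h1, ← nsmul_eq_mul]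
  refine add_le_add_right (Finset.sum_le_card_nsmul _ _ _ fun y hy => ?_) _
  simp only [Finset.mem_sdiff, Finset.mem_filter, Finset.mem_univ, true_and] at hy
  exact ha y hy.1 hy.2

theorem vf_eq {Z Y : Subgroup K} (h : Z ≤ Y) {ψ : ℕ → ℤ} {a : ℤ} (ha : ∀ y ∈ Y, y ∉ Z → ψ (T.ty y) = a) :
    vf T Y ψ = vf T Z ψ + (Nat.card Y - Nat.card Z) * a := by
  have h1 := vf_le h fun y h1 h2 => (ha y h1 h2).le
  have h2 := vf_le (T := T) h (ψ := fun t => -ψ t) (a := -a) fun y h1 h2 => (congrArg _ (ha y h1 h2)).le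
  simp only [vf, mul_neg, Finset.sum_neg_distrib] at h1 h2 ⊢
  linarith

theorem vf_bot (H : _root_.Cfsg.Agent.N2.Sp.Hy T R ν) (ψ : ℕ → ℤ) : vf T ⊥ ψ = ψ 0 := by
  classical
  have := Fintype.ofFinite K
  rw [vf_sum, Finset.sum_eq_single 1 (fun y hy h => absurd (by simpa only [_root_.Subgroup.mem_bot, _root_.Finset.mem_filter, _root_.Finset.mem_univ, _root_.true_and] using hy) h) (by simp only [_root_.Subgroup.mem_bot, _root_.Finset.mem_filter, _root_.Finset.mem_univ, _root_.and_self, _root_.not_true_eq_false, _root_.IsEmpty.forall_iff]), (H.zero 1).2 rfl]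

/-- a row -/
noncomputable def rw (R : Rows) (i : ℕ) : ℕ → ℤ := nth (ntd R.rel ([], []) i).2

/-- a combination of rows -/
noncomputable def cv (R : Rows) (c₀ : ℤ) (c : List (ℤ × ℕ)) (t : ℕ) : ℤ :=
  List.rec c₀ (fun p _ ih => Int.add (Int.mul p.1 (rw R p.2 t)) ih) c

theorem dvd_cv (H : _root_.Cfsg.Agent.N2.Sp.Hy T R ν) (hi : okIdx R = true) (c₀ : ℤ) (c : List (ℤ × ℕ)) (Y : Subgroup K) :
    (Nat.card Y : ℤ) ∣ vf T Y (cv R c₀ c) := by
  have := Fintype.ofFinite Y
  obtain ⟨χ, hE, hR⟩ := H.tab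
  obtain ⟨m, hm, -⟩ := SM.Sp.exists_mults hE Y
  induction c with
  | nil => exact ⟨c₀, vf_const c₀⟩
  | cons p c ih =>
    have h1 : vf T Y (cv R c₀ (p :: c)) = p.1 * SM.Sp.val T Y (ntd R.rel ([], []) p.2).2 + vf T Y (cv R c₀ c) := by
      rw [SM.Sp.val, Finset.mul_sum, vf, vf, ← Finset.sum_add_distrib]
      exact Finset.sum_congr rfl fun t _ => by
        show _ * (p.1 * nth _ t + cv R c₀ c t) = _
        ring
    rw [h1, (SM.Sp.val_mult hR hi hm p.2).2]
    exact dvd_add (Dvd.dvd.mul_left (dvd_mul_right _ _) _) ih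

/-- **a bound for the order from the types** -/
theorem card_dvd (H : _root_.Cfsg.Agent.N2.Sp.Hy T R ν) (hi : okIdx R = true) (c₀ : ℤ) (c : List (ℤ × ℕ)) {Y : Subgroup K} {z : K} (hz : z ∈ Y)
    {d : ℕ} {a : ℤ} (h1 : ∀ y ∈ zpowers z, y ≠ 1 → cv R c₀ c (T.ty y) = a)
    (h2 : ∀ y ∈ Y, y ∉ zpowers z → cv R c₀ c (T.ty y) = 0) (hd : cv R c₀ c 0 + (orderOf z - 1) * a = d) :
    Nat.card Y ∣ d := by
  have h3 := dvd_cv H hi c₀ c Y
  rw [vf_eq (zpowers_le.2 hz) h2, vf_eq bot_le h1, vf_bot H, mul_zero, add_zero, card_bot, Nat.card_zpowers, Nat.cast_one,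
    hd] at h3
  exact Int.natCast_dvd_natCast.1 h3

theorem mult_mono {χ : K → ℂ} (h : IsIrrCharacter K χ) {W Y : Subgroup K} [Fintype W] [Fintype Y] (hW : W ≤ Y)
    {m m' : ℕ} (h1 : ∑ s : W, χ s = (Nat.card W * m : ℕ)) (h2 : ∑ s : Y, χ s = (Nat.card Y * m' : ℕ)) : m' ≤ m := by
  obtain ⟨n, ρ, rfl⟩ := Characters.Core.isIrr_isCharacter h
  have key : ∀ (U : Subgroup K) [Fintype U] (k : ℕ), ∑ s : U, ρ.character s = (Nat.card U * k : ℕ) →
      k = Module.finrank ℂ (Representation.invariants (ρ.comp U.subtype)) := fun U _ k hk => by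
    have h0 : (Nat.card U : ℂ) ≠ 0 := Nat.cast_ne_zero.2 Nat.card_pos.ne'
    have := invertibleOfNonzero h0
    have h3 := Representation.card_inv_mul_sum_char_eq_finrank (ρ.comp U.subtype)
    rw [inv_mul_eq_iff_eq_mul₀ h0] at h3
    have h4 : ((Nat.card U * k : ℕ) : ℂ) = _ := hk.symm.trans h3
    rw [Nat.cast_mul] at h4
    exact_mod_cast mul_left_cancel₀ h0 h4
  rw [key W m h1, key Y m' h2]
  exact Submodule.finrank_mono fun v hv w => hv ⟨w, hW w.2⟩

theorem row_mono (H : _root_.Cfsg.Agent.N2.Sp.Hy T R ν) (hi : okIdx R = true) {W Y : Subgroup K} (hW : W ≤ Y) {i : ℕ}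
    (hp : allL (fun p => decide (0 ≤ p.2)) (ntd R.rel ([], []) i).1 = true) :
    Nat.card W * vf T Y (rw R i) ≤ Nat.card Y * vf T W (rw R i) := by
  have := Fintype.ofFinite W
  have := Fintype.ofFinite Y
  obtain ⟨χ, hE, hR⟩ := H.tab
  obtain ⟨m, hm, -⟩ := SM.Sp.exists_mults hE W
  obtain ⟨m', hm', -⟩ := SM.Sp.exists_mults hE Y
  obtain ⟨h1, h2⟩ := SM.Sp.val_mult hR hi hm i
  have h3 := (SM.Sp.val_mult hR hi hm' i).2
  show _ * SM.Sp.val T Y _ ≤ _ * SM.Sp.val T W _
  rw [h2, h3, mul_left_comm]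
  refine mul_le_mul_of_nonneg_left (mul_le_mul_of_nonneg_left (List.sum_le_sum fun p h4 => ?_) (Int.natCast_nonneg _))
    (Int.natCast_nonneg _)
  exact mul_le_mul_of_nonneg_left (Int.ofNat_le.2 (mult_mono (hE.irr _ (h1 p h4)) hW (hm _ (h1 p h4)) (hm' _ (h1 p h4))))
    (of_decide_eq_true (allL_spec hp p h4))

/-- **subgroups which are inverted by an involution** -/
theorem inv_le (H : _root_.Cfsg.Agent.N2.Sp.Hy T R ν) (hi : okIdx R = true) {W : Subgroup K} {t : K} (ht : orderOf t = 2)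
    (hW : ∀ w ∈ W, w ^ 3 = 1 ∧ t * w * t⁻¹ = w⁻¹) {i : ℕ}
    (hp : allL (fun p => decide (0 ≤ p.2)) (ntd R.rel ([], []) i).1 = true) {b : ℤ}
    (hb : ∀ w ∈ W, w ≠ 1 → rw R i (T.ty w) ≤ b) : Nat.card W * rw R i (T.ty t) ≤ rw R i 0 + (Nat.card W - 1) * b := by
  have h2 : t * t = 1 := by rw [← pow_two, ← ht, pow_orderOf_eq_one]
  have hn : ∀ w ∈ W, t * w * t⁻¹ ∈ W := fun w hw => (hW w hw).2 ▸ inv_mem hw
  have hle : W ≤ ext2 W t h2 hn := fun w hw => Or.inl hw
  have h3 : Nat.card W < Nat.card (ext2 W t h2 hn) := by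
    refine lt_of_le_of_ne (card_le_of_le hle) fun e => ?_
    have h4 : t ∈ W := (eq_of_le_of_card_ge hle e.ge).ge (Or.inr (h2 ▸ one_mem _))
    exact absurd (ht ▸ orderOf_dvd_of_pow_eq_one (hW t h4).1) (by decide)
  have h4 := row_mono H hi hle hp
  rw [vf_eq hle (a := rw R i (T.ty t)) fun y hy h5 => ?_] at h4
  · have h5 := vf_le (T := T) bot_le hb
    rw [vf_bot H, card_bot, Nat.cast_one] at h5
    refine le_trans (le_of_mul_le_mul_left ?_ (sub_pos.2 (Int.ofNat_lt.2 h3))) h5
    linarith only [h2, hn, h4]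
  · obtain ⟨h6, h7⟩ := hW _ (hy.resolve_left h5)
    obtain ⟨w, rfl⟩ : ∃ w, y = t * w := ⟨t * y, by rw [← mul_assoc, h2, one_mul]⟩
    rw [show t * (t * w) = w by rw [← mul_assoc, h2, one_mul]] at h6 h7
    have h8 : t * w = w * t * w⁻¹ := by
      calc t * w = w ^ 3 * w⁻¹ * t := by rw [mul_inv_eq_iff_eq_mul.1 h7, h6, one_mul]
        _ = w * (t * w * t⁻¹)⁻¹ * t := by rw [h7, inv_inv, pow_succ, mul_inv_cancel_right, pow_two]
        _ = _ := by group
    rw [h8, T.conj]

theorem not_dvd_cnt (hm : T.Mass) (hu : Unif T) {p F : ℕ} (hp : p.Prime) {x : K} (hx : orderOf x = p) (hF : p ^ F ∣ cn x)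
    (hN : ¬ p ^ (F + 1) ∣ D.N) : ¬ p ∣ D.cnt (T.ty x) := fun h => by
  have := Fintype.ofFinite {h : K // T.ty h = T.ty x}
  have h1 := sum_fx (T := T) (zpowers x) (T.ty x)
  have h2 : ∀ y z : K, (orderOf y).Prime → T.ty y = T.ty z → fx (zpowers x) y ≤ fx (zpowers x) z := fun y z h3 h4 => by
    obtain ⟨k, hk⟩ := hu y z h3 h4
    exact fx_conj _ hk ▸ fx_le_pow _ y k
  rw [Finset.sum_congr rfl (g := fun _ => cn x * cc (zpowers x) x) fun y _ => by
    rw [← fx_mul, le_antisymm (h2 y x (by rwa [T.ord, y.2, ← T.ord, hx]) y.2) (h2 x y (hx ▸ hp) y.2.symm)],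
    Finset.sum_const, Finset.card_univ, ← Nat.card_eq_fintype_card, hm.2 _ (T.lt x), smul_eq_mul, hm.1] at h1
  have h3 : p ^ (F + 1) ∣ D.N * num T (zpowers x) (T.ty x) := by
    rw [← h1, pow_succ']
    exact Nat.mul_dvd_mul h (hF.mul_right _)
  refine hN ((Nat.Coprime.pow_left _ (hp.coprime_iff_not_dvd.2 (Nat.not_dvd_of_pos_of_lt (num_pos (mem_zpowers x))
    ?_))).dvd_of_dvd_mul_right h3)
  rw [← hx, ← Nat.card_zpowers]
  refine Finite.card_subtype_lt (x := 1) fun e => hp.one_lt.ne' ?_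
  rw [← hx, T.ord, ← e, ← T.ord, orderOf_coe, orderOf_one]

theorem le_cn (hm : T.Mass) (x : K) : D.N ≤ D.cnt (T.ty x) * cn x := by
  rw [← hm.1, ← card_class x, ← hm.2 _ (T.lt x)]
  exact Nat.mul_le_mul_right _ (Nat.card_le_card_of_injective (fun y => ⟨y.1, TD.ty_isConj y.2⟩)
    fun _ _ e => Subtype.ext (congrArg Subtype.val e :))

/-- the types which are allowed up to the order `n` -/
def al (O : Sp.Out) (n : ℕ) : List ℕ := (O.filter fun e => e.2.1 ≤ n).map Prod.fst

theorem sup_al {O : Sp.Out} {U n : ℕ} (h : Res T A O U) (hn : Nat.card A ≤ n) : Sup T A (al O n) := fun a ha =>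
  (h.2 a ha).imp id fun ⟨e, h1, h2, h3, _⟩ => List.mem_map.2 ⟨e, List.mem_filter.2 ⟨h1, decide_eq_true (h3.trans hn)⟩, h2.symm⟩

end tab

end Cfsg.Agent.N2.Sp4
end

private theorem dce_fe7ce1428145 : _root_.True := by
  try have : _root_.True := by simp only [_root_.Cfsg.Agent.SB.Mon.core.eq_1]
  try have : _root_.True := by simp only [_root_.Cfsg.Agent.N2.Sp4.cw.eq_1]
  try have : _root_.True := by simp only [_root_.Cfsg.Agent.N2.Sp4.ext2.congr_simp]
  exact _root_.True.intro
end

-- part: N2/Sp4/Odd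
section
set_option linter.all false
open scoped Cfsg.Agent.FastGrp

/-!
# S3519, sporadic rows: the common part of the `3`-local and of the `5`-local cases (helper15)
-/

set_option autoImplicit false
set_option linter.unusedSectionVars false

namespace Cfsg.Agent.N2.Sp4

open Subgroup Cfsg Cfsg.Agent.FP3 Cfsg.Agent.SB Cfsg.Agent.N2.Sp Cfsg.Agent.N2.Sp2 Cfsg.Agent.N2.Sp4T
open Cfsg.Agent.TAB.Eng Cfsg.Agent.TAB.Use Cfsg.Agent.SB.SporL Cfsg.Agent.TH.Spor

section grp

variable {G : Type*} [Group G] [Finite G] {A : Subgroup G}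

theorem pg_le {p a m : ℕ} (hp : p.Prime) {E : Subgroup G} (hE : IsPGroup p E) (h : Nat.card E ∣ p ^ a * m) (hm : ¬ p ∣ m) :
    Nat.card E ∣ p ^ a := by
  have := Fact.mk hp
  obtain ⟨k, hk⟩ := IsPGroup.iff_card.1 hE
  rw [hk] at h ⊢
  exact (Nat.Coprime.pow_left _ (hp.coprime_iff_not_dvd.2 hm)).dvd_of_dvd_mul_right h

theorem ord_mul {x y : G} (hc : Commute x y) {a b : ℕ} (hx : orderOf x = a) (hy : orderOf y = b) (h : a.Coprime b) :
    orderOf (x * y) = a * b := by
  subst hx hy
  exact hc.orderOf_mul_eq_mul_orderOf_of_coprime h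

/-- the centraliser of an element of order `p` -/
theorem pg_cent {p : ℕ} (hp : p.Prime) {H : Subgroup G} (hH : H ≤ A) {u : G} (hu : u ∈ A) (ou : orderOf u = p)
    (hc : ∀ x ∈ H, x * u = u * x) (h : ∀ a ∈ A, ∀ r : ℕ, r.Prime → orderOf a ≠ p * r) : IsPGroup p H :=
  pgrp_of fun _ h1 r hr hd => (primes_cent hH hp hu ou hc hr (hd.trans (orderOf_dvd_natCard H h1))).resolve_right
    fun ⟨a, ha, e⟩ => h a ha r hr e

theorem ord_three (ho : ∀ a ∈ A, orderOf a ≤ 8) {Y : Subgroup G} (hY : Y ≤ A) (h3 : IsPGroup 3 Y) {y : G} (hy : y ∈ Y)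
    (h1 : y ≠ 1) : orderOf y = 3 := by
  have : Fact (Nat.Prime 3) := ⟨Nat.prime_three⟩
  obtain ⟨k, hk⟩ := IsPGroup.iff_orderOf.1 h3 ⟨y, hy⟩
  rw [orderOf_mk] at hk
  have h2 := ho y (hY hy)
  match k with
  | 0 => exact absurd (orderOf_eq_one_iff.1 hk) h1
  | 1 => exact hk
  | k + 2 => rw [hk, pow_add] at h2; have := Nat.one_le_pow k 3 (by decide); omega

theorem cube (ho : ∀ a ∈ A, orderOf a ≤ 8) {Y : Subgroup G} (hY : Y ≤ A) (h3 : IsPGroup 3 Y) {y : G} (hy : y ∈ Y) :
    y ^ 3 = 1 := by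
  by_cases h : y = 1
  · rw [h, one_pow]
  · rw [← ord_three ho hY h3 hy h, pow_orderOf_eq_one]

end grp

variable {K : Type} [Group K] [Finite K] {D : Dat} {T : TD K D} {R : Rows} {ν : List ℕ} {A : Subgroup K} {S : List ℕ}

theorem mem_of (H : Hy T R ν) (hS : Sup T A S) {a : K} (ha : a ∈ A) (h1 : a ≠ 1) : T.ty a ∈ S :=
  (hS a ha).resolve_left fun e => h1 ((H.zero a).1 e)

theorem mem_of' (H : Hy T R ν) (hS : Sup T A S) {a : K} (ha : a ∈ A) {n : ℕ} (h : orderOf a = n) (h1 : n ≠ 1) :
    T.ty a ∈ S ∧ D.ord (T.ty a) = n :=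
  ⟨mem_of H hS ha fun e => h1 (by rw [← h, e, orderOf_one]), T.ord a ▸ h⟩

theorem ord_of (H : Hy T R ν) (hS : Sup T A S) {P : ℕ → Prop} (h1 : P 1) (h : ∀ s ∈ S, P (D.ord s)) {a : K} (ha : a ∈ A) :
    P (orderOf a) := by
  by_cases e : a = 1
  · rwa [e, orderOf_one]
  · exact T.ord a ▸ h _ (mem_of H hS ha e)

theorem cn_le (H : Hy T R ν) (a : K) : cn a * ntd ν 0 (T.ty a) ≤ D.N * orderOf a := by
  have h1 := (H.den (zpowers a) a).trans (Nat.mul_le_mul_left _ (num_le _ _))
  have : Finite {g : K // IsConj a g ∧ g ∈ zpowers a} := Subtype.finite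
  have : Nonempty {g : K // IsConj a g ∧ g ∈ zpowers a} := ⟨⟨a, IsConj.refl a, mem_zpowers a⟩⟩
  rw [fx_mul, Nat.card_zpowers] at h1
  exact (Nat.mul_le_mul_right _ (Nat.le_mul_of_pos_right _ Nat.card_pos)).trans h1

theorem exists_of_dvd {p : ℕ} (hp : p.Prime) (h : p ∣ Nat.card A) : ∃ a ∈ A, orderOf a = p := by
  have := Fact.mk hp
  obtain ⟨a, ha⟩ := exists_prime_orderOf_dvd_card' p h
  exact ⟨a, a.2, by rw [orderOf_coe, ha]⟩

theorem exists_of_core {p : ℕ} (hp : p.Prime) (h : pCore p A ≠ ⊥) : ∃ a ∈ A, orderOf a = p := by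
  obtain ⟨a, -, ha⟩ := exists_ord hp (Lib.Cores.pCore_isPGroup (G := A) p) h
  exact ⟨a, a.2, by rw [orderOf_coe, ha]⟩

/-- elements of order six -/
theorem six (H : Hy T R ν) (hS : Sup T A S) {x y : K} (hx : x ∈ A) (hy : y ∈ A) (ox : orderOf x = 2) (oy : orderOf y = 3)
    (hc : Commute x y) : T.ty (x * y) ∈ S ∧ D.ord (T.ty (x * y)) = 6 ∧ D.pwf (T.ty (x * y)) 3 = T.ty x ∧
      D.pwf (T.ty (x * y)) 4 = T.ty y := by
  obtain ⟨h1, h2⟩ := mem_of' H hS (mul_mem hx hy) (ord_mul hc ox oy (by decide)) (by decide)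
  have h3 : x ^ 2 = 1 := ox ▸ pow_orderOf_eq_one x
  have h4 : y ^ 3 = 1 := oy ▸ pow_orderOf_eq_one y
  refine ⟨h1, h2, ?_, ?_⟩ <;> rw [← T.pow, hc.mul_pow]
  · rw [h4, mul_one, pow_succ, h3, one_mul]
  · rw [pow_succ y, h4, one_mul, pow_mul x 2 2, h3, one_pow, one_mul]

/-- subgroups all of whose elements have types at which the combination vanishes -/
theorem card_dvd' (H : Hy T R ν) (hi : okIdx R = true) (c₀ : ℤ) (c : List (ℤ × ℕ)) {Y : Subgroup K} {d : ℕ}
    (h : ∀ y ∈ Y, y ≠ 1 → cv R c₀ c (T.ty y) = 0) (hd : cv R c₀ c 0 = d) : Nat.card Y ∣ d :=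
  card_dvd H hi c₀ c (one_mem Y) (a := 0) (fun y hy h1 => absurd (by simpa using hy) h1)
    (fun y hy h1 => h y hy fun e => h1 (by rw [e]; exact one_mem _)) (by rw [mul_zero, add_zero, hd])

/-- `2`-subgroups which centralise an element of order three -/
theorem card_two (H : Hy T R ν) (hi : okIdx R = true) (hS : Sup T A S) (ho : ∀ a ∈ A, orderOf a ≤ 8) {z : K} (hz : z ∈ A)
    (oz : orderOf z = 3) (c₀ : ℤ) (c : List (ℤ × ℕ)) {t d : ℕ} (ht : T.ty z = t) (h1 : D.pwf t 2 = t)
    (h2 : ∀ s ∈ S, D.ord s = 6 → D.pwf s 4 = t → cv R c₀ c s = 0 ∧ cv R c₀ c (D.pwf s 3) = 0)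
    (hd : cv R c₀ c 0 + 2 * cv R c₀ c t = d) {E : Subgroup K} (hE : E ≤ A ⊓ centralizer {z}) (h : IsPGroup 2 E) :
    Nat.card E ∣ d := by
  have : Fact (Nat.Prime 2) := ⟨Nat.prime_two⟩
  have : Fact (Nat.Prime 3) := ⟨Nat.prime_three⟩
  have h3 : z ^ 3 = 1 := oz ▸ pow_orderOf_eq_one z
  have hc : ∀ e ∈ E, ∀ w ∈ zpowers z, Commute e w := by
    rintro e he _ ⟨k, rfl⟩
    exact Commute.zpow_right (mem_centralizer_singleton_iff.1 (hE he).2) k
  have h4 : ∀ w ∈ zpowers z, w ≠ 1 → orderOf w = 3 ∧ T.ty w = t := fun w hw h5 => by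
    rcases F24.Geo.zp h3 hw with rfl | rfl | rfl
    · exact absurd rfl h5
    · exact ⟨oz, ht⟩
    · refine ⟨by rw [orderOf_inv, oz], ?_⟩
      rw [inv_eq_of_mul_eq_one_left ((pow_succ z 2).symm.trans h3), T.pow, ht, h1]
  have h5 : ∀ e ∈ E, e ≠ 1 → orderOf e = 2 := fun e he h6 => by
    obtain ⟨k, hk⟩ := IsPGroup.iff_orderOf.1 h ⟨e, he⟩
    rw [orderOf_mk] at hk
    have h7 := ho _ (mul_mem (hE he).1 hz)
    rw [ord_mul (hc e he z (mem_zpowers z)) hk oz (Nat.Coprime.pow_left _ (by decide))] at h7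
    match k with
    | 0 => exact absurd (orderOf_eq_one_iff.1 hk) h6
    | 1 => exact hk
    | k + 2 => rw [pow_add] at h7; have := Nat.one_le_pow k 2 (by decide); omega
  let f := MonoidHom.noncommCoprod E.subtype (zpowers z).subtype fun e w => hc e e.2 w w.2
  refine (card_dvd_of_le (K := f.range) fun e he => ⟨(⟨e, he⟩, 1), mul_one e⟩).trans
    (card_dvd H hi c₀ c (Y := f.range) (z := z) ⟨(1, ⟨z, mem_zpowers z⟩), one_mul z⟩ (fun w hw h6 => congrArg _ (h4 w hw h6).2) ?_
      (by rw [oz]; exact hd))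
  rintro _ ⟨⟨⟨e, he⟩, ⟨w, hw⟩⟩, rfl⟩ h6
  have h7 : e ≠ 1 := fun k => h6 (by
    show e * w ∈ _
    rwa [k, one_mul])
  show cv R c₀ c (T.ty (e * w)) = 0
  by_cases h8 : w = 1
  · obtain ⟨k1, k2, k3, k4⟩ := six H hS (hE he).1 hz (h5 e he h7) oz (hc e he z (mem_zpowers z))
    rw [h8, mul_one, ← k3]
    exact (h2 _ k1 k2 (k4.trans ht)).2
  · obtain ⟨k1, k2, -, k4⟩ := six H hS (hE he).1 (zpowers_le.2 hz hw) (h5 e he h7) (h4 w hw h8).1 (hc e he w hw)
    exact (h2 _ k1 k2 (k4.trans (h4 w hw h8).2)).1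

/-- the situation in characteristic three -/
structure L3 (T : TD K D) (A : Subgroup K) (z : K) (V : Subgroup K) : Prop where
  hc : centralizer (pCore 3 A : Set A) ≤ pCore 3 A
  oz : orderOf z = 3
  cz : ¬ 3 ∣ D.cnt (T.ty z)
  zA : z ∈ A
  le : V ≤ A
  pg : IsPGroup 3 V
  comm : ∀ a ∈ V, ∀ b ∈ V, a * b = b * a
  nrm : ∀ s ∈ A, ∀ v ∈ V, s * v * s⁻¹ ∈ V
  card : Nat.card A ≤ Nat.card V * Nat.card ↥(A ⊓ centralizer {z})

theorem L3.h3 {z : K} {V : Subgroup K} (L : L3 T A z V) : 3 ∣ Nat.card A := L.oz ▸ orderOf_dvd_natCard A L.zA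

/-- the first bound -/
theorem L3.bound {z : K} {V : Subgroup K} (L : L3 T A z V) (ho : ∀ a ∈ A, orderOf a ≤ 8) {a b : ℕ}
    (ha : ∀ E ≤ A ⊓ centralizer {z}, IsPGroup 2 E → Nat.card E ≤ a) (hb : ∀ Y ≤ A, IsPGroup 3 Y → Nat.card Y ≤ b) :
    Nat.card A ≤ b * (a * b) := by
  refine L.card.trans (Nat.mul_le_mul (hb _ L.le L.pg) (card_le_two Nat.prime_two Nat.prime_three (fun x hx hp => ?_) ha
    fun E hE => hb E (hE.trans inf_le_left)))
  refine (primes_cent inf_le_left Nat.prime_three L.zA L.oz (fun c hc => mem_centralizer_singleton_iff.1 hc.2) hp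
    (orderOf_dvd_natCard _ hx)).symm.imp_left fun ⟨y, hy, e⟩ => ?_
  have := ho y hy
  have := hp.two_le
  omega

/-- the second bound -/
theorem L3.bound' {z : K} {V : Subgroup K} (L : L3 T A z V) (H : Hy T R ν) (hS : Sup T A S) (ho : ∀ a ∈ A, orderOf a ≤ 8)
    (h : ∀ s ∈ S, D.ord s = 6 → D.pwf s 4 ≠ T.ty z) {b : ℕ} (hb : ∀ Y ≤ A, IsPGroup 3 Y → Nat.card Y ≤ b) :
    Nat.card A ≤ Nat.card V * b := by
  refine L.card.trans (Nat.mul_le_mul_left _ (hb _ inf_le_left (pgrp_of fun c hc r hr hd => ?_)))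
  obtain ⟨k, hk⟩ : ∃ k, orderOf (c ^ k) = r := ⟨_, orderOf_pow_orderOf_div (orderOf_pos c).ne' hd⟩
  have h1 : Commute (c ^ k) z := Commute.pow_left (mem_centralizer_singleton_iff.1 hc.2) k
  by_contra h2
  have h3 := ho _ (mul_mem (pow_mem hc.1 k) L.zA)
  rw [ord_mul h1 hk L.oz ((Nat.coprime_primes hr Nat.prime_three).2 h2)] at h3
  have := hr.two_le
  obtain ⟨k1, k2, -, k4⟩ := six H hS (pow_mem hc.1 k) L.zA (by omega) L.oz h1
  exact h _ k1 k2 k4

/-- the action of an involution -/
theorem L3.inv {z : K} {V : Subgroup K} (L : L3 T A z V) (H : Hy T R ν) (hi : okIdx R = true) (hS : Sup T A S)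
    (ho : ∀ a ∈ A, orderOf a ≤ 8) {t : K} (ht : t ∈ A) (ot : orderOf t = 2) {i : ℕ}
    (hp : allL (fun p => decide (0 ≤ p.2)) (ntd R.rel ([], []) i).1 = true) {b : ℤ}
    (hb : ∀ s ∈ S, D.ord s = 3 → rw R i s ≤ b) : ∃ W : Subgroup K, (∀ w, w ∈ W ↔ w ∈ V ∧ t * w * t⁻¹ = w⁻¹) ∧
      Nat.card V ≤ Nat.card ↥(V ⊓ centralizer {t}) * Nat.card W ∧
      Nat.card W * rw R i (T.ty t) ≤ rw R i 0 + (Nat.card W - 1) * b ∧ ∀ c ∈ V ⊓ centralizer {t}, c ≠ 1 →
        orderOf c = 3 ∧ ∃ s ∈ S, D.ord s = 6 ∧ D.pwf s 3 = T.ty t ∧ D.pwf s 4 = T.ty c := by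
  obtain ⟨W, h1, h2⟩ := exists_inv L.comm (by rw [← pow_two, ← ot, pow_orderOf_eq_one]) (L.nrm t ht)
  refine ⟨W, h1, h2, inv_le H hi ot (fun w hw => ⟨cube ho L.le L.pg ((h1 w).1 hw).1, ((h1 w).1 hw).2⟩) hp fun w hw h3 => ?_,
    fun c hc h3 => ?_⟩
  · obtain ⟨h4, h5⟩ := mem_of' H hS (L.le ((h1 w).1 hw).1) (ord_three ho L.le L.pg ((h1 w).1 hw).1 h3) (by decide)
    exact hb _ h4 h5
  · have h4 := ord_three ho L.le L.pg hc.1 h3
    exact ⟨h4, _, six H hS ht (L.le hc.1) ot h4 (mem_centralizer_singleton_iff.1 hc.2).symm⟩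

variable [IsSimpleGroup K] {Γ : Subgroup (MulAut K)}

theorem exists_L3 (hm : T.Mass) (hu : Unif T) (h : MI A Γ) (h3 : pCore 3 A ≠ ⊥) (h2 : pCore 2 A = ⊥)
    (ho : ∀ a ∈ A, orderOf a ≤ 8) {F : ℕ} (h4 : 3 ^ (F + 1) ∣ D.N) (h5 : ¬ 3 ^ (F + 1 + 1) ∣ D.N) : ∃ z V, L3 T A z V := by
  have h6 := fun z => cent_three h h3 h2 (z := z) fun a ha r _ hr e => by
    have := ho a ha
    omega
  obtain ⟨z, oz, h7, h8⟩ := exists_central Nat.prime_three (Mon.core_pgroup (S := A) 3) (hm.1 ▸ h4)
  have h9 : ∀ s ∈ A, ∀ v ∈ Mon.core 3 A ⊓ centralizer (Mon.core 3 A : Set K),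
      s * v * s⁻¹ ∈ Mon.core 3 A ⊓ centralizer (Mon.core 3 A : Set K) := fun s hs v hv =>
    ⟨Mon.core_conj 3 s hs v hv.1, (mem_normalizer_iff.1 (cent_norm (Mon.core_conj 3) hs) v).1 hv.2⟩
  exact ⟨z, _, hc_of h6, oz, not_dvd_cnt hm hu Nat.prime_three oz h7 h5, map_subtype_le _ (h6 z h8),
    inf_le_left.trans (map_subtype_le _), (Mon.core_pgroup 3).to_inf_left,
    fun a ha b hb => mem_centralizer_iff.1 hb.2 a ha.1, h9,
    Mon.card_le_of_conj fun s hs => h9 s hs z ⟨h6 z h8, mem_centralizer_iff.2 fun y hy => (h8 y hy).symm⟩⟩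

omit [IsSimpleGroup K] in
/-- the Sylow subgroups of `A` are too small -/
theorem dvd_index (hm : T.Mass) {F : ℕ} (h4 : 3 ^ (F + 1) ∣ D.N) (hb : ∀ Y ≤ A, IsPGroup 3 Y → Nat.card Y ≤ 3 ^ F) :
    3 ∣ A.index := by
  by_contra h
  have : Fact (Nat.Prime 3) := ⟨Nat.prime_three⟩
  rw [← hm.1, ← A.card_mul_index] at h4
  obtain ⟨Q, hQ⟩ := Sylow.exists_subgroup_card_pow_prime 3
    ((Nat.Coprime.pow_left _ (Nat.prime_three.coprime_iff_not_dvd.2 h)).dvd_of_dvd_mul_right h4)
  have h1 := hb _ (map_subtype_le Q) ((IsPGroup.of_card hQ).map _)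
  rw [card_map_of_injective A.subtype_injective, hQ, Nat.pow_le_pow_iff_right (by decide)] at h1
  omega

/-- **every involution commutes with an element of order three** -/
theorem L3.six {z : K} {V : Subgroup K} (L : L3 T A z V) (H : Hy T R ν) (hS : Sup T A S) (h : MI A Γ) (hd : 3 ∣ A.index)
    {t : K} (ht : t ∈ A) (ot : orderOf t = 2) : ∃ s ∈ S, D.ord s = 6 ∧ D.pwf s 3 = T.ty t := by
  by_contra h1
  refine dead_inv h L.h3 L.hc ht (by rw [← pow_two, ← ot, pow_orderOf_eq_one]) (fun g hg og hc => ?_) hd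
  obtain ⟨k1, k2, k3, -⟩ := Sp4.six H hS ht hg ot og hc
  exact h1 ⟨_, k1, k2, k3⟩

/-- **the `p`-local case for a prime `p` with small centralisers** -/
theorem five (hm : T.Mass) (hu : Unif T) (h : MI A Γ) {p F m : ℕ} (hp : p.Prime) (h0 : pCore p A ≠ ⊥)
    (ho : ∀ a ∈ A, ∀ r : ℕ, r.Prime → orderOf a ≠ p * r) (hN : D.N = p ^ (F + 1) * m) (h1 : ¬ p ∣ m) :
    ∃ e ∈ A, orderOf e = p ∧ ¬ p ∣ D.cnt (T.ty e) ∧ Nat.card A ≤ p ^ (F + 1) * p ^ (F + 1) := by
  obtain ⟨z, oz, h2, h3⟩ := exists_central (F := F) hp (Mon.core_pgroup (S := A) p) (by rw [hm.1, hN]; exact dvd_mul_right _ _)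
  have h4 : z ∈ centralizer (Mon.core p A : Set K) := mem_centralizer_iff.2 fun y hy => (h3 y hy).symm
  have h5 := cent_core_le h h0
  obtain ⟨u, h6, ou⟩ := exists_ord hp (Mon.core_pgroup (S := A) p)
    fun e => h0 ((map_eq_bot_iff_of_injective _ A.subtype_injective).1 e)
  have h7 : ∀ E : Subgroup K, IsPGroup p E → Nat.card E ≤ p ^ (F + 1) := fun E hE =>
    Nat.le_of_dvd (pow_pos hp.pos _) (pg_le hp hE (hN ▸ hm.1 ▸ card_subgroup_dvd_card E) h1)
  refine ⟨z, h5 h4, oz, not_dvd_cnt hm hu hp oz h2 fun k => h1 ?_, (Mon.card_le_of_conj fun s hs =>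
    (mem_normalizer_iff.1 (cent_norm (Mon.core_conj p) hs) z).1 h4).trans (Nat.mul_le_mul
      (h7 _ (pg_cent hp h5 (map_subtype_le _ h6) ou (fun x hx => (mem_centralizer_iff.1 hx u h6).symm) ho))
      (h7 _ (pg_cent hp inf_le_left (h5 h4) oz (fun x hx => mem_centralizer_singleton_iff.1 hx.2) ho)))⟩
  rw [hN, pow_succ _ (F + 1)] at k
  exact Nat.dvd_of_mul_dvd_mul_left (pow_pos hp.pos _) k

end Cfsg.Agent.N2.Sp4
end
end
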